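import Mathlib

set_option autoImplicit false

namespace Cfsg.Agent.Lib.Helper20

/-- In a commutative group with at most one involution, at most two elements square to one. -/
theorem card_sq_eq_one_le_two {A : Type*} [CommGroup A] [Fintype A] [DecidableEq A]
    (huniq : ∀ g h : A, orderOf g = 2 → orderOf h = 2 → g = h) :
    (Finset.univ.filter (fun g : A => g ^ 2 = 1)).card ≤ 2 := by
  by_cases hex : ∃ ι : A, orderOf ι = 2
  · obtain ⟨ι, hι⟩ := hex
    have hsub : Finset.univ.filter (fun g : A => g ^ 2 = 1) ⊆ {1, ι} := by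
      intro g hg
      rw [Finset.mem_filter] at hg
      rw [Finset.mem_insert, Finset.mem_singleton]
      by_cases h1 : g = 1
      · exact Or.inl h1
      · right
        apply huniq _ _ _ hι
        exact orderOf_eq_prime hg.2 h1
    exact (Finset.card_le_card hsub).trans Finset.card_le_two
  · have hsub : Finset.univ.filter (fun g : A => g ^ 2 = 1) ⊆ {1} := by
      intro g hg
      rw [Finset.mem_filter] at hg
      rw [Finset.mem_singleton]
      by_contra h1
      exact hex ⟨g, orderOf_eq_prime hg.2 h1⟩
    exact (Finset.card_le_card hsub).trans (by simp)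

theorem card_pow_two_pow_le {A : Type*} [CommGroup A] [Fintype A] [DecidableEq A]
    (huniq : ∀ g h : A, orderOf g = 2 → orderOf h = 2 → g = h) (j : ℕ) :
    (Finset.univ.filter (fun g : A => g ^ (2 ^ j) = 1)).card ≤ 2 ^ j := by
  induction j with
  | zero =>
    have hsub : Finset.univ.filter (fun g : A => g ^ (2 ^ 0) = 1) ⊆ {1} := by
      intro g hg
      rw [Finset.mem_filter] at hg
      simpa using hg.2
    exact (Finset.card_le_card hsub).trans (by simp)
  | succ j ih =>
    have hmaps : ∀ g ∈ Finset.univ.filter (fun g : A => g ^ (2 ^ (j + 1)) = 1),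
        g ^ 2 ∈ Finset.univ.filter (fun g : A => g ^ (2 ^ j) = 1) := by
      intro g hg
      rw [Finset.mem_filter] at hg ⊢
      refine ⟨Finset.mem_univ _, ?_⟩
      rw [← pow_mul, ← pow_succ']
      exact hg.2
    have hfib : ∀ b ∈ Finset.univ.filter (fun g : A => g ^ (2 ^ j) = 1),
        ((Finset.univ.filter (fun g : A => g ^ (2 ^ (j + 1)) = 1)).filter
          (fun g => g ^ 2 = b)).card ≤ 2 := by
      intro b _
      by_cases hne : ((Finset.univ.filter (fun g : A => g ^ (2 ^ (j + 1)) = 1)).filter
          (fun g => g ^ 2 = b)).Nonempty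
      · obtain ⟨g₀, hg₀⟩ := hne
        rw [Finset.mem_filter] at hg₀
        have hinj : Set.InjOn (fun g : A => g * g₀⁻¹)
            ((Finset.univ.filter (fun g : A => g ^ (2 ^ (j + 1)) = 1)).filter
              (fun g => g ^ 2 = b) : Finset A) := by
          intro g _ h _ hgh
          exact mul_right_cancel hgh
        have hmap : ∀ g ∈ ((Finset.univ.filter (fun g : A => g ^ (2 ^ (j + 1)) = 1)).filter
              (fun g => g ^ 2 = b)), (fun g : A => g * g₀⁻¹) g ∈
              Finset.univ.filter (fun g : A => g ^ 2 = 1) := by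
          intro g hg
          rw [Finset.mem_filter] at hg
          rw [Finset.mem_filter]
          refine ⟨Finset.mem_univ _, ?_⟩
          show (g * g₀⁻¹) ^ 2 = 1
          rw [mul_pow, inv_pow, hg.2, hg₀.2, mul_inv_cancel]
        exact (Finset.card_le_card_of_injOn _ hmap hinj).trans (card_sq_eq_one_le_two huniq)
      · rw [Finset.not_nonempty_iff_eq_empty] at hne
        rw [hne]; simp
    calc (Finset.univ.filter (fun g : A => g ^ (2 ^ (j + 1)) = 1)).card
        ≤ 2 * (Finset.univ.filter (fun g : A => g ^ (2 ^ j) = 1)).card :=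
          Finset.card_le_mul_card_image_of_maps_to hmaps 2 hfib
      _ ≤ 2 * 2 ^ j := Nat.mul_le_mul_left 2 ih
      _ = 2 ^ (j + 1) := by rw [pow_succ']

/-- A finite commutative 2-group with at most one involution is cyclic. -/
theorem isCyclic_of_unique_involution {A : Type*} [CommGroup A] [Finite A] (hA : IsPGroup 2 A)
    (huniq : ∀ g h : A, orderOf g = 2 → orderOf h = 2 → g = h) : IsCyclic A := by
  classical
  have : Fintype A := Fintype.ofFinite A
  apply isCyclic_of_card_pow_eq_one_le
  intro n hn
  set v := n.factorization 2 with hv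
  have hsub : Finset.univ.filter (fun g : A => g ^ n = 1) ⊆
      Finset.univ.filter (fun g : A => g ^ (2 ^ v) = 1) := by
    intro g hg
    rw [Finset.mem_filter] at hg ⊢
    refine ⟨Finset.mem_univ _, ?_⟩
    obtain ⟨i, hi⟩ := hA g
    have h1 : orderOf g ∣ 2 ^ i := orderOf_dvd_of_pow_eq_one hi
    obtain ⟨k, _, hk⟩ := (Nat.dvd_prime_pow Nat.prime_two).mp h1
    have h2 : orderOf g ∣ n := orderOf_dvd_of_pow_eq_one hg.2
    rw [hk] at h2
    have h3 : k ≤ v := (Nat.Prime.pow_dvd_iff_le_factorization Nat.prime_two hn.ne').mp h2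
    apply orderOf_dvd_iff_pow_eq_one.mp
    rw [hk]
    exact pow_dvd_pow 2 h3
  calc (Finset.univ.filter (fun g : A => g ^ n = 1)).card
      ≤ (Finset.univ.filter (fun g : A => g ^ (2 ^ v) = 1)).card := Finset.card_le_card hsub
    _ ≤ 2 ^ v := card_pow_two_pow_le huniq v
    _ ≤ n := Nat.le_of_dvd hn (Nat.ordProj_dvd n 2)

/-- version for a group with a commutativity hypothesis -/
theorem isCyclic_of_unique_involution' {A : Type*} [Group A] [Finite A]
    (hcomm : ∀ x y : A, x * y = y * x) (hA : IsPGroup 2 A)
    (huniq : ∀ g h : A, orderOf g = 2 → orderOf h = 2 → g = h) : IsCyclic A := by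
  letI : CommGroup A := { ‹Group A› with mul_comm := hcomm }
  exact isCyclic_of_unique_involution hA huniq

/-- in a finite cyclic group, subgroups of the same order coincide -/
theorem subgroup_eq_of_card_eq_of_isCyclic {A : Type*} [Group A] [Finite A] [IsCyclic A]
    (H K : Subgroup A) (h : Nat.card H = Nat.card K) : H = K := by
  classical
  have : Fintype A := Fintype.ofFinite A
  have hpos : 0 < Nat.card H := Nat.card_pos
  have hbound := IsCyclic.card_pow_eq_one_le (α := A) hpos
  have hH : ∀ x ∈ H, x ^ Nat.card H = 1 := by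
    intro x hx
    have := pow_card_eq_one' (G := H) (x := ⟨x, hx⟩)
    exact congrArg Subtype.val this
  have hK : ∀ x ∈ K, x ^ Nat.card H = 1 := by
    intro x hx
    rw [h]
    have := pow_card_eq_one' (G := K) (x := ⟨x, hx⟩)
    exact congrArg Subtype.val this
  -- H as a finset equals the full solution set
  have hHsub : (Finset.univ.filter (fun x : A => x ∈ H)) ⊆
      Finset.univ.filter (fun a : A => a ^ Nat.card H = 1) := by
    intro x hx
    rw [Finset.mem_filter] at hx ⊢
    exact ⟨hx.1, hH x hx.2⟩
  have hHcard : (Finset.univ.filter (fun x : A => x ∈ H)).card = Nat.card H := by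
    rw [Nat.card_eq_fintype_card, Fintype.card_subtype]
  have hEq : (Finset.univ.filter (fun x : A => x ∈ H)) =
      Finset.univ.filter (fun a : A => a ^ Nat.card H = 1) := by
    apply Finset.eq_of_subset_of_card_le hHsub
    rw [hHcard]
    exact hbound
  have hKH : K ≤ H := by
    intro x hx
    have : x ∈ Finset.univ.filter (fun a : A => a ^ Nat.card H = 1) := by
      rw [Finset.mem_filter]; exact ⟨Finset.mem_univ _, hK x hx⟩
    rw [← hEq, Finset.mem_filter] at this
    exact this.2
  exact (Subgroup.eq_of_le_of_card_ge hKH (le_of_eq h)).symm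

/-- subgroups of equal order inside a cyclic subgroup coincide -/
theorem subgroup_eq_of_le_cyclic {G : Type*} [Group G] [Finite G] (A H K : Subgroup G)
    [IsCyclic A] (hH : H ≤ A) (hK : K ≤ A) (h : Nat.card H = Nat.card K) : H = K := by
  have h1 : Nat.card (H.subgroupOf A) = Nat.card (K.subgroupOf A) := by
    rw [Nat.card_congr (Subgroup.subgroupOfEquivOfLe hH).toEquiv,
      Nat.card_congr (Subgroup.subgroupOfEquivOfLe hK).toEquiv, h]
  have h2 := subgroup_eq_of_card_eq_of_isCyclic (H.subgroupOf A) (K.subgroupOf A) h1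
  rw [Subgroup.subgroupOf_inj, inf_eq_left.mpr hH, inf_eq_left.mpr hK] at h2
  exact h2

end Cfsg.Agent.Lib.Helper20
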