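import Mathlib

/-!
# K-S1421-S: elements of `N ⊔ H` of order coprime to `|H|` lie in `N`
-/

set_option autoImplicit false

namespace Cfsg.Agent.Lib.Helper20.BG1211

variable {G : Type*} [Group G] [Finite G]

/-- **(S)** `H` normalizes `N`; an element of `N ⊔ H` whose order is coprime to `|H|` lies in `N`. -/
theorem mem_of_mem_sup_of_coprime (N H : Subgroup G) (hHN : H ≤ Subgroup.normalizer (N : Set G))
    {g : G} (hg : g ∈ N ⊔ H) (hcop : (orderOf g).Coprime (Nat.card H)) : g ∈ N := by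
  classical
  have hNn : N ≤ Subgroup.normalizer (N : Set G) := Subgroup.le_normalizer
  have hLn : N ⊔ H ≤ Subgroup.normalizer (N : Set G) := sup_le hNn hHN
  have hnorm : (N.subgroupOf (N ⊔ H)).Normal := by
    refine ⟨fun n hn x => ?_⟩
    rw [Subgroup.mem_subgroupOf] at hn ⊢
    have hx : (x : G) ∈ Subgroup.normalizer (N : Set G) := hLn x.2
    simpa using (Subgroup.mem_normalizer_iff.mp hx (n : G)).mp hn
  -- the composite `H → N ⊔ H → (N ⊔ H) ⧸ N` is onto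
  let ι : H →* ↥(N ⊔ H) := Subgroup.inclusion le_sup_right
  let π : ↥(N ⊔ H) →* ↥(N ⊔ H) ⧸ N.subgroupOf (N ⊔ H) := QuotientGroup.mk' _
  have hker : ∀ x : ↥(N ⊔ H), π x = 1 ↔ (x : G) ∈ N := by
    intro x
    change ((x : ↥(N ⊔ H) ⧸ N.subgroupOf (N ⊔ H))) = 1 ↔ _
    rw [QuotientGroup.eq_one_iff, Subgroup.mem_subgroupOf]
  have hsurj : Function.Surjective (π.comp ι) := by
    intro y
    obtain ⟨x, rfl⟩ := QuotientGroup.mk'_surjective _ y
    have hx : (x : G) ∈ ((N ⊔ H : Subgroup G) : Set G) := x.2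
    rw [Subgroup.coe_mul_of_right_le_normalizer_left N H hHN] at hx
    obtain ⟨n, hn, h, hh, hnh⟩ := hx
    refine ⟨⟨h, hh⟩, ?_⟩
    have hn' : n ∈ N ⊔ H := (le_sup_left : N ≤ N ⊔ H) hn
    have hx' : x = ⟨n, hn'⟩ * ι ⟨h, hh⟩ := by
      apply Subtype.ext
      simpa [ι] using hnh.symm
    change π (ι ⟨h, hh⟩) = π x
    rw [hx', map_mul, (hker ⟨n, hn'⟩).mpr hn, one_mul]
  have hdvd : Nat.card (↥(N ⊔ H) ⧸ N.subgroupOf (N ⊔ H)) ∣ Nat.card H :=
    Subgroup.card_dvd_of_surjective _ hsurj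
  have h1 : orderOf (π ⟨g, hg⟩) ∣ orderOf g := by
    have : orderOf (π ⟨g, hg⟩) ∣ orderOf (⟨g, hg⟩ : ↥(N ⊔ H)) := orderOf_map_dvd π _
    rwa [Subgroup.orderOf_mk] at this
  have h2 : orderOf (π ⟨g, hg⟩) ∣ Nat.card H := (orderOf_dvd_natCard _).trans hdvd
  have h3 : orderOf (π ⟨g, hg⟩) = 1 := Nat.eq_one_of_dvd_coprimes hcop h1 h2
  have h4 : π ⟨g, hg⟩ = 1 := orderOf_eq_one_iff.mp h3
  exact (hker ⟨g, hg⟩).mp h4

end Cfsg.Agent.Lib.Helper20.BG1211
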