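import Mathlib
import Cfsg.Agent.Lib.Helper83.Linear

set_option autoImplicit false

namespace Cfsg.Agent.Lib.Helper20

open Cfsg

section transfer
variable {G : Type*} [Group G] {A : Type*} [CommGroup A]

/-- The transfer of `ϕ : H →* A`, evaluated at an element of a normal subgroup `N ≤ H` of `G` on
which `ϕ` is invariant under conjugation by `G`, is the `[G:H]`-th power of `ϕ`. -/
theorem transfer_apply_of_mem_normal (H : Subgroup G) [H.FiniteIndex] (N : Subgroup G)
    [hN : N.Normal] (hNH : N ≤ H) (ϕ : H →* A)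
    (hinv : ∀ (g : G) (x y : H), (x : G) ∈ N → (y : G) = g⁻¹ * x * g → ϕ y = ϕ x)
    (n : G) (hn : n ∈ N) : MonoidHom.transfer ϕ n = ϕ ⟨n, hNH hn⟩ ^ H.index := by
  classical
  let T : H.LeftTransversal := default
  let _ := H.fintypeQuotientOfFiniteIndex
  rw [MonoidHom.transfer_def ϕ T n]
  unfold Subgroup.leftTransversals.diff
  simp only
  have hfix : ∀ q : G ⧸ H, n⁻¹ • q = q := by
    intro q
    induction q using QuotientGroup.induction_on with
    | H x =>
      rw [MulAction.Quotient.smul_mk, QuotientGroup.eq]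
      apply hNH
      have := hN.conj_mem n hn x⁻¹
      simpa [mul_assoc] using this
  rw [Finset.prod_congr rfl (fun q _ => hinv (T.2.leftQuotientEquiv q : G) ⟨n, hNH hn⟩ _ hn ?_)]
  · rw [Finset.prod_const, Finset.card_univ, Subgroup.index_eq_card, Nat.card_eq_fintype_card]
  · simp only
    rw [Subgroup.smul_apply_eq_smul_apply_inv_smul, hfix, smul_eq_mul, mul_assoc]

end transfer

section linext
variable {G : Type*} [Group G]

/-- The function underlying a linear character, as a monoid hom into the monoid of functions. -/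
noncomputable def homFun : (G →* ℂˣ) →* (G → ℂ) where
  toFun φ := fun g => ((φ g : ℂˣ) : ℂ)
  map_one' := by ext g; simp
  map_mul' φ ψ := by ext g; simp

theorem homFun_apply (φ : G →* ℂˣ) (g : G) : homFun φ g = ((φ g : ℂˣ) : ℂ) := rfl

theorem homFun_injective : Function.Injective (homFun (G := G)) := by
  intro φ ψ h
  ext g
  exact congrFun h g

theorem orderOf_homFun (φ : G →* ℂˣ) : orderOf (homFun φ) = orderOf φ :=
  orderOf_injective homFun homFun_injective φ

theorem exists_hom_of_linear {χ : G → ℂ} (hχ : IsCharacter G χ) (h1 : χ 1 = 1) :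
    ∃ φ : G →* ℂˣ, homFun φ = χ :=
  ⟨(Cfsg.Agent.Lib.Helper83.linCharHom hχ h1).toHomUnits, by ext g; rfl⟩

theorem isCharacter_homFun (φ : G →* ℂˣ) : IsCharacter G (homFun φ) ∧ homFun φ 1 = 1 :=
  ⟨Cfsg.Agent.Lib.Helper83.isCharacter_of_hom φ, by simp [homFun_apply]⟩

/-- A linear character trivial on a normal subgroup has order dividing the index. -/
theorem pow_index_eq_one_of_trivial (N : Subgroup G) [N.Normal] (ν : G →* ℂˣ)
    (h : ∀ n ∈ N, ν n = 1) : ν ^ N.index = 1 := by
  ext g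
  rw [MonoidHom.pow_apply, ← map_pow, h _ (N.pow_index_mem g)]
  rfl

theorem isOfFinOrder_hom [Finite G] (φ : G →* ℂˣ) : IsOfFinOrder φ := by
  rw [isOfFinOrder_iff_pow_eq_one]
  refine ⟨Nat.card G, Nat.card_pos, ?_⟩
  ext g
  rw [MonoidHom.pow_apply, ← map_pow, pow_card_eq_one', map_one]
  rfl

/-- An invariant linear character of a normal subgroup whose order is coprime to the index
extends, with the same order. -/
theorem exists_extension_of_coprime [Finite G] (N : Subgroup G) [N.Normal] (lam : N →* ℂˣ)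
    (hinv : ∀ (g : G) (x y : N), (y : G) = g⁻¹ * x * g → lam y = lam x)
    (hcop : Nat.Coprime N.index (orderOf lam)) :
    ∃ μ : G →* ℂˣ, (∀ n : N, μ n = lam n) ∧ orderOf μ = orderOf lam := by
  obtain ⟨a, b, hab⟩ : ∃ a b : ℤ, (N.index : ℤ) * a + (orderOf lam : ℤ) * b = 1 := by
    refine ⟨Int.gcdA N.index (orderOf lam), Int.gcdB N.index (orderOf lam), ?_⟩
    rw [← Int.gcd_eq_gcd_ab]
    have : Int.gcd (N.index : ℤ) (orderOf lam : ℤ) = 1 := by
      rw [Int.gcd_natCast_natCast]; exact hcop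
    rw [this]; rfl
  have hT : ∀ n : N, MonoidHom.transfer lam (n : G) = lam n ^ N.index := fun n =>
    transfer_apply_of_mem_normal N N le_rfl lam (fun g x y _ h => hinv g x y h) n n.2
  have hpow : ∀ n : N, lam n ^ (orderOf lam) = 1 := by
    intro n
    rw [← MonoidHom.pow_apply, pow_orderOf_eq_one]; rfl
  have hka : ∀ n : N, lam n ^ ((N.index : ℤ) * a) = lam n := by
    intro n
    have h1 : (N.index : ℤ) * a = 1 - (orderOf lam : ℤ) * b := by linarith
    rw [h1, zpow_sub, zpow_one, zpow_mul, zpow_natCast, hpow, one_zpow, inv_one, mul_one]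
  set T := MonoidHom.transfer lam with hTdef
  have hres : ∀ n : N, (T ^ (a * ((N.index : ℤ) * a))) (n : G) = lam n := by
    intro n
    show T (n : G) ^ (a * ((N.index : ℤ) * a)) = lam n
    rw [hT, ← zpow_natCast, ← zpow_mul, ← mul_assoc, zpow_mul, hka, hka]
  refine ⟨T ^ (a * ((N.index : ℤ) * a)), hres, ?_⟩
  apply Nat.dvd_antisymm
  · apply orderOf_dvd_of_pow_eq_one
    have h1 : (T ^ orderOf lam) ^ N.index = 1 := by
      apply pow_index_eq_one_of_trivial
      intro n hn
      show T n ^ orderOf lam = 1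
      rw [hT ⟨n, hn⟩, ← pow_mul, mul_comm, pow_mul, hpow, one_pow]
    calc (T ^ (a * ((N.index : ℤ) * a))) ^ orderOf lam
        = ((T ^ orderOf lam) ^ N.index) ^ (a * a) := by
          rw [← zpow_natCast, ← zpow_natCast, ← zpow_natCast, ← zpow_mul, ← zpow_mul, ← zpow_mul]
          congr 1
          ring
      _ = 1 := by rw [h1, one_zpow]
  · apply orderOf_dvd_of_pow_eq_one
    ext n
    rw [MonoidHom.pow_apply, ← hres n, ← MonoidHom.pow_apply, pow_orderOf_eq_one]
    rfl

/-- Uniqueness of the extension of order coprime to the index. -/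
theorem extension_unique_of_coprime [Finite G] (N : Subgroup G) [N.Normal]
    (μ μ' : G →* ℂˣ) (hres : ∀ n : N, μ' n = μ n)
    (h1 : Nat.Coprime N.index (orderOf μ)) (h2 : Nat.Coprime N.index (orderOf μ')) :
    μ' = μ := by
  have h3 : (μ' / μ) ^ N.index = 1 := by
    apply pow_index_eq_one_of_trivial
    intro n hn
    show μ' n / μ n = 1
    rw [hres ⟨n, hn⟩, div_self']
  have h4 : (μ' / μ) ^ (orderOf μ' * orderOf μ) = 1 := by
    have e1 : ∀ g, μ' g ^ (orderOf μ' * orderOf μ) = 1 := by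
      intro g
      rw [pow_mul, ← MonoidHom.pow_apply, pow_orderOf_eq_one, MonoidHom.one_apply, one_pow]
    have e2 : ∀ g, μ g ^ (orderOf μ' * orderOf μ) = 1 := by
      intro g
      rw [mul_comm, pow_mul, ← MonoidHom.pow_apply, pow_orderOf_eq_one, MonoidHom.one_apply,
        one_pow]
    ext g
    simp only [MonoidHom.pow_apply, MonoidHom.div_apply, MonoidHom.one_apply, div_pow, e1, e2,
      div_one]
  have h5 : orderOf (μ' / μ) ∣ 1 := by
    have hc : Nat.Coprime N.index (orderOf μ' * orderOf μ) := Nat.Coprime.mul_right h2 h1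
    rw [← hc.gcd_eq_one]
    exact Nat.dvd_gcd (orderOf_dvd_of_pow_eq_one h3) (orderOf_dvd_of_pow_eq_one h4)
  have h6 : μ' / μ = 1 := orderOf_eq_one_iff.1 (Nat.dvd_one.1 h5)
  exact div_eq_one.1 h6

/-- If for every prime `p` dividing the order of the invariant linear character `lam` of the normal
subgroup `N`, `lam` extends to a subgroup of index prime to `p`, then `lam` extends to `G`. -/
theorem exists_extension_of_local [Finite G] (N : Subgroup G) [N.Normal] (lam : N →* ℂˣ)
    (hinv : ∀ (g : G) (x y : N), (y : G) = g⁻¹ * x * g → lam y = lam x)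
    (hloc : ∀ p : ℕ, p.Prime → p ∣ orderOf lam → ∃ (H : Subgroup G) (hNH : N ≤ H) (ν : H →* ℂˣ),
        ¬ p ∣ H.index ∧ ∀ n : N, ν ⟨n, hNH n.2⟩ = lam n) :
    ∃ μ : G →* ℂˣ, ∀ n : N, μ n = lam n := by
  let X : AddSubgroup ℤ :=
    { carrier := {j | ∃ μ : G →* ℂˣ, ∀ n : N, μ n = lam n ^ j}
      zero_mem' := ⟨1, fun n => by simp⟩
      add_mem' := by
        rintro i j ⟨μ₁, h₁⟩ ⟨μ₂, h₂⟩
        exact ⟨μ₁ * μ₂, fun n => by rw [MonoidHom.mul_apply, h₁, h₂, zpow_add]⟩
      neg_mem' := by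
        rintro i ⟨μ₁, h₁⟩
        exact ⟨μ₁⁻¹, fun n => by rw [MonoidHom.inv_apply, h₁, zpow_neg]⟩ }
  have hXmem : ∀ j : ℤ, j ∈ X ↔ ∃ μ : G →* ℂˣ, ∀ n : N, μ n = lam n ^ j := fun j => Iff.rfl
  have hpow : ∀ n : N, lam n ^ (orderOf lam) = 1 := by
    intro n
    rw [← MonoidHom.pow_apply, pow_orderOf_eq_one]; rfl
  obtain ⟨d, hd⟩ := Int.subgroup_cyclic X
  have hmX : (orderOf lam : ℤ) ∈ X := ⟨1, fun n => by rw [zpow_natCast, hpow]; rfl⟩
  have hdvd : ∀ j : ℤ, j ∈ X → d ∣ j := by
    intro j hj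
    rw [hd, AddSubgroup.mem_closure_singleton] at hj
    obtain ⟨c, hc⟩ := hj
    exact ⟨c, by rw [← hc, smul_eq_mul, mul_comm]⟩
  have hd1 : d.natAbs = 1 := by
    by_contra hne
    obtain ⟨p, hp, hpd⟩ := Nat.exists_prime_and_dvd hne
    have hpm : p ∣ orderOf lam := by
      have := Int.natAbs_dvd_natAbs.2 (hdvd _ hmX)
      rw [Int.natAbs_natCast] at this
      exact hpd.trans this
    obtain ⟨H, hNH, ν, hpH, hν⟩ := hloc p hp hpm
    have htX : (H.index : ℤ) ∈ X := by
      refine ⟨MonoidHom.transfer ν, fun n => ?_⟩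
      rw [transfer_apply_of_mem_normal H N hNH ν ?_ n n.2, zpow_natCast, hν]
      intro g x y hx hy
      have hy' : (y : G) ∈ N := by
        rw [hy]
        have := (inferInstance : N.Normal).conj_mem _ hx g⁻¹
        simpa using this
      have e1 := hν ⟨x, hx⟩
      have e2 := hν ⟨y, hy'⟩
      simp only [Subtype.coe_eta] at e1 e2
      rw [e1, e2]
      exact hinv g ⟨x, hx⟩ ⟨y, hy'⟩ hy
    have := Int.natAbs_dvd_natAbs.2 (hdvd _ htX)
    rw [Int.natAbs_natCast] at this
    exact hpH (hpd.trans this)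
  have hdX : d ∈ X := by
    rw [hd]; exact AddSubgroup.subset_closure rfl
  have h1X : (1 : ℤ) ∈ X := by
    rcases Int.natAbs_eq d with h | h
    · rw [hd1] at h
      rw [← Nat.cast_one, ← h]; exact hdX
    · rw [hd1] at h
      have : (1 : ℤ) = -d := by rw [h]; simp
      rw [this]; exact X.neg_mem hdX
  obtain ⟨μ, hμ⟩ := h1X
  exact ⟨μ, fun n => by rw [hμ, zpow_one]⟩

end linext

end Cfsg.Agent.Lib.Helper20
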