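import Mathlib
import Cfsg.Agent.Lib.Helper05.CharEquiv
import Cfsg.Agent.Lib.Helper84.Schur
import Cfsg.Agent.Lib.Helper20.LinExt

set_option autoImplicit false

namespace Cfsg.Agent.Lib.Helper20

open Representation

section intertwiners

variable {G : Type*} [Group G] (N : Subgroup G) [hN : N.Normal]
  {V : Type*} [AddCommGroup V] [Module ℂ V]
  (ρ : Representation ℂ N V)

/-- The group of pairs `(g, M)` with `M` an invertible endomorphism such that
`M ρ(n) = ρ(g n g⁻¹) M` for all `n ∈ N`. -/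
def intertwinerGroup : Subgroup (G × (V →ₗ[ℂ] V)ˣ) where
  carrier := {x | ∀ n : N,
    ((x.2 : (V →ₗ[ℂ] V)ˣ) : V →ₗ[ℂ] V) * ρ n = ρ (MulAut.conjNormal x.1 n) * (x.2 : V →ₗ[ℂ] V)}
  mul_mem' := by
    intro x y hx hy n
    simp only [Set.mem_ofPred_eq] at hx hy
    simp only [Prod.fst_mul, Prod.snd_mul, Units.val_mul, map_mul, MulAut.mul_apply]
    rw [mul_assoc, hy n, ← mul_assoc, hx, mul_assoc]
  one_mem' := by
    intro n
    simp
  inv_mem' := by
    intro x hx n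
    simp only [Set.mem_ofPred_eq] at hx
    simp only [Prod.fst_inv, Prod.snd_inv, map_inv]
    have h := hx ((MulAut.conjNormal x.1)⁻¹ n)
    rw [MulAut.apply_inv_self] at h
    have h2 : ((x.2⁻¹ : (V →ₗ[ℂ] V)ˣ) : V →ₗ[ℂ] V) * ((x.2 : V →ₗ[ℂ] V) *
        ρ ((MulAut.conjNormal x.1)⁻¹ n)) * ((x.2⁻¹ : (V →ₗ[ℂ] V)ˣ) : V →ₗ[ℂ] V) =
        ((x.2⁻¹ : (V →ₗ[ℂ] V)ˣ) : V →ₗ[ℂ] V) * (ρ n * (x.2 : V →ₗ[ℂ] V)) *
        ((x.2⁻¹ : (V →ₗ[ℂ] V)ˣ) : V →ₗ[ℂ] V) := by rw [h]
    rw [← mul_assoc, Units.inv_mul, one_mul, mul_assoc, mul_assoc, Units.mul_inv, mul_one] at h2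
    exact h2.symm

theorem mem_intertwinerGroup (x : G × (V →ₗ[ℂ] V)ˣ) :
    x ∈ intertwinerGroup N ρ ↔ ∀ n : N,
      ((x.2 : (V →ₗ[ℂ] V)ˣ) : V →ₗ[ℂ] V) * ρ n = ρ (MulAut.conjNormal x.1 n) * (x.2 : V →ₗ[ℂ] V) :=
  Iff.rfl

/-- Projection of the intertwiner group to `G`. -/
def projG : ↥(intertwinerGroup N ρ) →* G :=
  (MonoidHom.fst G (V →ₗ[ℂ] V)ˣ).comp (intertwinerGroup N ρ).subtype

/-- Projection of the intertwiner group to `GL(V)`. -/
def projGL : ↥(intertwinerGroup N ρ) →* (V →ₗ[ℂ] V)ˣ :=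
  (MonoidHom.snd G (V →ₗ[ℂ] V)ˣ).comp (intertwinerGroup N ρ).subtype

theorem projG_apply (x : ↥(intertwinerGroup N ρ)) : projG N ρ x = x.1.1 := rfl
theorem projGL_apply (x : ↥(intertwinerGroup N ρ)) : projGL N ρ x = x.1.2 := rfl

/-- Scalar automorphisms. -/
def scalarHom (V : Type*) [AddCommGroup V] [Module ℂ V] : ℂˣ →* (V →ₗ[ℂ] V)ˣ :=
  Units.map (algebraMap ℂ (V →ₗ[ℂ] V)).toMonoidHom

theorem scalarHom_coe (c : ℂˣ) : ((scalarHom V c : (V →ₗ[ℂ] V)ˣ) : V →ₗ[ℂ] V) =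
    (c : ℂ) • (1 : V →ₗ[ℂ] V) := by
  ext v
  simp [scalarHom]

theorem scalarHom_injective [Nontrivial V] : Function.Injective (scalarHom V) := by
  intro c d h
  have h1 := congrArg (fun u : (V →ₗ[ℂ] V)ˣ => (u : V →ₗ[ℂ] V)) h
  simp only [scalarHom_coe] at h1
  obtain ⟨v, hv⟩ := exists_ne (0 : V)
  have h2 := congrArg (fun f : V →ₗ[ℂ] V => f v) h1
  simp only [LinearMap.smul_apply, Module.End.one_apply] at h2
  apply Units.ext
  by_contra hne
  have : ((c : ℂ) - d) • v = 0 := by rw [sub_smul, h2, sub_self]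
  rcases smul_eq_zero.1 this with h3 | h3
  · exact hne (sub_eq_zero.1 h3)
  · exact hv h3

theorem scalarHom_comm (c : ℂˣ) (u : (V →ₗ[ℂ] V)ˣ) : scalarHom V c * u = u * scalarHom V c := by
  apply Units.ext
  simp only [Units.val_mul, scalarHom_coe]
  rw [smul_mul_assoc, mul_smul_comm, one_mul, mul_one]

/-- The central embedding of the scalars. -/
def zeta : ℂˣ →* ↥(intertwinerGroup N ρ) :=
  MonoidHom.codRestrict ((MonoidHom.inr G (V →ₗ[ℂ] V)ˣ).comp (scalarHom V)) (intertwinerGroup N ρ)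
    (by
      intro c n
      simp only [MonoidHom.coe_comp, Function.comp_apply, MonoidHom.inr_apply, map_one,
        MulAut.one_apply, scalarHom_coe]
      rw [smul_mul_assoc, mul_smul_comm, one_mul, mul_one])

theorem zeta_fst (c : ℂˣ) : projG N ρ (zeta N ρ c) = 1 := rfl
theorem zeta_snd (c : ℂˣ) : projGL N ρ (zeta N ρ c) = scalarHom V c := rfl

theorem zeta_comm (c : ℂˣ) (x : ↥(intertwinerGroup N ρ)) : zeta N ρ c * x = x * zeta N ρ c := by
  apply Subtype.ext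
  apply Prod.ext
  · show (1 : G) * x.1.1 = x.1.1 * 1
    rw [one_mul, mul_one]
  · show scalarHom V c * x.1.2 = x.1.2 * scalarHom V c
    exact scalarHom_comm c _

/-- The embedding of `N`. -/
def iota : N →* ↥(intertwinerGroup N ρ) :=
  MonoidHom.codRestrict (MonoidHom.prod N.subtype ρ.asGroupHom) (intertwinerGroup N ρ)
    (by
      intro m n
      simp only [MonoidHom.prod_apply, Subgroup.coe_subtype, asGroupHom_apply]
      rw [← map_mul, ← map_mul]
      congr 1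
      apply Subtype.ext
      simp [MulAut.conjNormal_apply])

theorem iota_fst (n : N) : projG N ρ (iota N ρ n) = n := rfl
theorem iota_snd (n : N) : ((projGL N ρ (iota N ρ n) : (V →ₗ[ℂ] V)ˣ) : V →ₗ[ℂ] V) = ρ n := rfl

theorem conj_iota (x : ↥(intertwinerGroup N ρ)) (n : N) :
    x * iota N ρ n * x⁻¹ = iota N ρ (MulAut.conjNormal x.1.1 n) := by
  apply Subtype.ext
  apply Prod.ext
  · show x.1.1 * n * x.1.1⁻¹ = _
    rw [← MulAut.conjNormal_apply]; rfl
  · apply Units.ext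
    show (x.1.2 : V →ₗ[ℂ] V) * ρ n * ((x.1.2⁻¹ : (V →ₗ[ℂ] V)ˣ) : V →ₗ[ℂ] V) =
      ρ (MulAut.conjNormal x.1.1 n)
    rw [x.2 n, mul_assoc, Units.mul_inv, mul_one]

theorem iota_range_normal : (iota N ρ).range.Normal := by
  constructor
  rintro _ ⟨n, rfl⟩ x
  exact ⟨_, (conj_iota N ρ x n).symm⟩

theorem zeta_range_normal : (zeta N ρ).range.Normal := by
  constructor
  rintro _ ⟨c, rfl⟩ x
  refine ⟨c, ?_⟩
  rw [← zeta_comm, mul_inv_cancel_right]

/-- The representation twisted by conjugation with `g`. -/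
def twistRep (g : G) : Representation ℂ N V :=
  (ρ : N →* (V →ₗ[ℂ] V)).comp ((MulAut.conjNormal g : N ≃* N) : N →* N)

theorem twistRep_apply (g : G) (n : N) : twistRep N ρ g n = ρ (MulAut.conjNormal g n) := rfl

theorem twistRep_irreducible (g : G) (hρ : ρ.IsIrreducible) : (twistRep N ρ g).IsIrreducible := by
  rw [Cfsg.Agent.Lib.Helper05.isIrreducible_iff] at hρ ⊢
  refine ⟨hρ.1, fun U hU => hρ.2 U ?_⟩
  intro n v hv
  have := hU ((MulAut.conjNormal g)⁻¹ n) v hv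
  rwa [twistRep_apply, MulAut.apply_inv_self] at this

theorem projG_surjective [Finite N] [FiniteDimensional ℂ V] (hρ : ρ.IsIrreducible)
    (hinv : ∀ (g : G) (n : N), ρ.character (MulAut.conjNormal g n) = ρ.character n) :
    Function.Surjective (projG N ρ) := by
  intro g
  have := Fintype.ofFinite N
  have hchar : (twistRep N ρ g).character = ρ.character := by
    funext n
    exact hinv g n
  obtain ⟨φ⟩ := Cfsg.Agent.Lib.Helper05.nonempty_equiv_of_char_eq_of_irreducible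
    (twistRep N ρ g) ρ (twistRep_irreducible N ρ g hρ) hρ hchar
  let M : (V →ₗ[ℂ] V)ˣ :=
    ⟨φ.toLinearEquiv.toLinearMap, φ.toLinearEquiv.symm.toLinearMap,
      by
        ext v
        show φ.toLinearEquiv (φ.toLinearEquiv.symm v) = v
        exact φ.toLinearEquiv.apply_symm_apply v,
      by
        ext v
        show φ.toLinearEquiv.symm (φ.toLinearEquiv v) = v
        exact φ.toLinearEquiv.symm_apply_apply v⟩
  refine ⟨⟨(g, M), ?_⟩, rfl⟩
  intro n
  ext v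
  exact IntertwiningMap.isIntertwining ρ (twistRep N ρ g) φ.toIntertwiningMap n v

theorem ker_projG_le [FiniteDimensional ℂ V] (hρ : ρ.IsIrreducible) :
    (projG N ρ).ker ≤ (zeta N ρ).range := by
  intro x hx
  rw [MonoidHom.mem_ker, projG_apply] at hx
  have := hρ
  have : Nontrivial V := Cfsg.Agent.Lib.Helper84.irr_nontrivial ρ
  have hcomm : ∀ n : N, (x.1.2 : V →ₗ[ℂ] V) ∘ₗ ρ n = ρ n ∘ₗ (x.1.2 : V →ₗ[ℂ] V) := by
    intro n
    have := x.2 n
    rw [hx, map_one, MulAut.one_apply] at this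
    exact this
  have hsc := Cfsg.Agent.Lib.Helper84.schur_scalar ρ (x.1.2 : V →ₗ[ℂ] V) hcomm
  set c : ℂ := LinearMap.trace ℂ V (x.1.2 : V →ₗ[ℂ] V) / (Module.finrank ℂ V : ℂ) with hc
  have hc0 : c ≠ 0 := by
    intro h0
    rw [h0, zero_smul] at hsc
    have h1 : (1 : V →ₗ[ℂ] V) = 0 := by
      rw [← Units.inv_mul x.1.2, hsc, mul_zero]
    exact one_ne_zero h1
  refine ⟨Units.mk0 c hc0, ?_⟩
  apply Subtype.ext
  apply Prod.ext
  · exact hx.symm
  · apply Units.ext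
    show ((scalarHom V (Units.mk0 c hc0) : (V →ₗ[ℂ] V)ˣ) : V →ₗ[ℂ] V) = _
    rw [scalarHom_coe, hsc]
    rfl

/-- A retraction of the intertwiner group onto the scalars which is trivial on `N` yields a
genuine representation of `G` extending `ρ`. -/
theorem exists_rep_extension_of_retraction [Finite N] [FiniteDimensional ℂ V]
    (hρ : ρ.IsIrreducible)
    (hinv : ∀ (g : G) (n : N), ρ.character (MulAut.conjNormal g n) = ρ.character n)
    (r : ↥(intertwinerGroup N ρ) →* ℂˣ) (hr1 : ∀ c, r (zeta N ρ c) = c)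
    (hr2 : ∀ n, r (iota N ρ n) = 1) :
    ∃ τ : Representation ℂ G V, ∀ n : N, τ n = ρ n := by
  let K : Subgroup ↥(intertwinerGroup N ρ) := r.ker
  let πK : ↥K →* G := (projG N ρ).comp K.subtype
  have hinj : Function.Injective πK := by
    rw [injective_iff_map_eq_one]
    intro x hx
    have hx1 : (x : ↥(intertwinerGroup N ρ)) ∈ (projG N ρ).ker := hx
    obtain ⟨c, hc⟩ := ker_projG_le N ρ hρ hx1
    have hx2 : r (x : ↥(intertwinerGroup N ρ)) = 1 := x.2
    rw [← hc, hr1] at hx2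
    apply Subtype.ext
    rw [← hc, hx2, map_one]
    rfl
  have hsurj : Function.Surjective πK := by
    intro g
    obtain ⟨x, hx⟩ := projG_surjective N ρ hρ hinv g
    refine ⟨⟨x * zeta N ρ (r x)⁻¹, ?_⟩, ?_⟩
    · show r (x * zeta N ρ (r x)⁻¹) = 1
      rw [map_mul, hr1, mul_inv_cancel]
    · show projG N ρ (x * zeta N ρ (r x)⁻¹) = g
      rw [map_mul, zeta_fst, mul_one, hx]
  let e : ↥K ≃* G := MulEquiv.ofBijective πK ⟨hinj, hsurj⟩
  let τu : G →* (V →ₗ[ℂ] V)ˣ := ((projGL N ρ).comp K.subtype).comp e.symm.toMonoidHom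
  refine ⟨(Units.coeHom (V →ₗ[ℂ] V)).comp τu, ?_⟩
  intro n
  have hk : e ⟨iota N ρ n, hr2 n⟩ = (n : G) := rfl
  have hk' : e.symm (n : G) = ⟨iota N ρ n, hr2 n⟩ := by
    rw [← hk, MulEquiv.symm_apply_apply]
  show ((projGL N ρ (e.symm (n : G) : ↥K) : (V →ₗ[ℂ] V)ˣ) : V →ₗ[ℂ] V) = ρ n
  rw [hk']
  rfl

/-- If `ρ` extends to a representation `σ` of a subgroup `P ≥ N` of finite index, there is a
homomorphism from the intertwiner group to `ℂˣ`, trivial on `N`, restricting to the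
`[G:P]`-th power map on the scalars. -/
theorem exists_local_hom [Finite N] [FiniteDimensional ℂ V] (hρ : ρ.IsIrreducible)
    (hinv : ∀ (g : G) (n : N), ρ.character (MulAut.conjNormal g n) = ρ.character n)
    (P : Subgroup G) [P.FiniteIndex] (hNP : N ≤ P) (σ : Representation ℂ P V)
    (hσ : ∀ n : N, σ ⟨n, hNP n.2⟩ = ρ n) :
    ∃ r : ↥(intertwinerGroup N ρ) →* ℂˣ, (∀ c, r (zeta N ρ c) = c ^ P.index) ∧
      ∀ n, r (iota N ρ n) = 1 := by
  classical
  have := hρ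
  have hnt : Nontrivial V := Cfsg.Agent.Lib.Helper84.irr_nontrivial ρ
  set H : Subgroup ↥(intertwinerGroup N ρ) := P.comap (projG N ρ) with hH
  have hidx : H.index = P.index :=
    Subgroup.index_comap_of_surjective P (projG_surjective N ρ hρ hinv)
  have : H.FiniteIndex := ⟨by rw [hidx]; exact Subgroup.FiniteIndex.index_ne_zero⟩
  -- the scalar by which an element of `H` differs from `σ`
  have key : ∀ x : ↥H, ∃ c : ℂˣ,
      projGL N ρ x.1 = scalarHom V c * σ.asGroupHom ⟨projG N ρ x.1, x.2⟩ := by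
    intro x
    set g : G := projG N ρ x.1 with hg
    set M : (V →ₗ[ℂ] V)ˣ := projGL N ρ x.1 with hM
    set S : (V →ₗ[ℂ] V)ˣ := σ.asGroupHom ⟨g, x.2⟩ with hS
    have hMn : ∀ n : N, (M : V →ₗ[ℂ] V) * ρ n = ρ (MulAut.conjNormal g n) * (M : V →ₗ[ℂ] V) :=
      fun n => x.1.2 n
    have hSn : ∀ n : N, (S : V →ₗ[ℂ] V) * ρ n = ρ (MulAut.conjNormal g n) * (S : V →ₗ[ℂ] V) := by
      intro n
      rw [hS, asGroupHom_apply, ← hσ, ← hσ, ← map_mul, ← map_mul]
      congr 1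
      apply Subtype.ext
      simp [MulAut.conjNormal_apply]
    have hSinv : ∀ n : N, ((S⁻¹ : (V →ₗ[ℂ] V)ˣ) : V →ₗ[ℂ] V) * ρ (MulAut.conjNormal g n) =
        ρ n * ((S⁻¹ : (V →ₗ[ℂ] V)ˣ) : V →ₗ[ℂ] V) := by
      intro n
      have h1 : ((S⁻¹ : (V →ₗ[ℂ] V)ˣ) : V →ₗ[ℂ] V) * ((S : V →ₗ[ℂ] V) * ρ n) *
          ((S⁻¹ : (V →ₗ[ℂ] V)ˣ) : V →ₗ[ℂ] V) =
          ((S⁻¹ : (V →ₗ[ℂ] V)ˣ) : V →ₗ[ℂ] V) * (ρ (MulAut.conjNormal g n) * (S : V →ₗ[ℂ] V)) *
          ((S⁻¹ : (V →ₗ[ℂ] V)ˣ) : V →ₗ[ℂ] V) := by rw [hSn]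
      rw [← mul_assoc, Units.inv_mul, one_mul, mul_assoc, mul_assoc, Units.mul_inv, mul_one] at h1
      exact h1.symm
    have hcomm : ∀ n : N, ((S⁻¹ * M : (V →ₗ[ℂ] V)ˣ) : V →ₗ[ℂ] V) ∘ₗ ρ n =
        ρ n ∘ₗ ((S⁻¹ * M : (V →ₗ[ℂ] V)ˣ) : V →ₗ[ℂ] V) := by
      intro n
      show ((S⁻¹ * M : (V →ₗ[ℂ] V)ˣ) : V →ₗ[ℂ] V) * ρ n =
        ρ n * ((S⁻¹ * M : (V →ₗ[ℂ] V)ˣ) : V →ₗ[ℂ] V)
      rw [Units.val_mul, mul_assoc, hMn, ← mul_assoc, hSinv, mul_assoc]
    have hsc := Cfsg.Agent.Lib.Helper84.schur_scalar ρ _ hcomm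
    set c : ℂ := LinearMap.trace ℂ V ((S⁻¹ * M : (V →ₗ[ℂ] V)ˣ) : V →ₗ[ℂ] V) /
      (Module.finrank ℂ V : ℂ) with hc
    have hc0 : c ≠ 0 := by
      intro h0
      rw [h0, zero_smul] at hsc
      have h1 : (1 : V →ₗ[ℂ] V) = 0 := by
        rw [← Units.inv_mul (S⁻¹ * M), hsc, mul_zero]
      exact one_ne_zero h1
    refine ⟨Units.mk0 c hc0, ?_⟩
    have h2 : S⁻¹ * M = scalarHom V (Units.mk0 c hc0) := by
      apply Units.ext
      rw [scalarHom_coe, hsc]
      rfl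
    rw [scalarHom_comm, ← h2, mul_inv_cancel_left]
  choose cfun hc using key
  have huniq : ∀ (x : ↥H) (c : ℂˣ),
      projGL N ρ x.1 = scalarHom V c * σ.asGroupHom ⟨projG N ρ x.1, x.2⟩ → cfun x = c := by
    intro x c h
    have h1 := (hc x).symm.trans h
    exact scalarHom_injective (mul_right_cancel h1)
  let f : ↥H →* ℂˣ :=
    { toFun := cfun
      map_one' := by
        apply huniq
        show (1 : (V →ₗ[ℂ] V)ˣ) = scalarHom V 1 * σ.asGroupHom 1
        rw [map_one, map_one, one_mul]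
      map_mul' := by
        intro x y
        apply huniq
        have hx := hc x
        have hy := hc y
        show projGL N ρ (x.1 * y.1) = scalarHom V (cfun x * cfun y) *
          σ.asGroupHom (⟨projG N ρ x.1, x.2⟩ * ⟨projG N ρ y.1, y.2⟩)
        rw [map_mul, map_mul, map_mul, hx, hy, mul_assoc, mul_assoc]
        congr 1
        rw [← mul_assoc, ← mul_assoc, scalarHom_comm (cfun y)] }
  have hf : ∀ x : ↥H, f x = cfun x := fun x => rfl
  refine ⟨MonoidHom.transfer f, ?_, ?_⟩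
  · intro c
    have := zeta_range_normal N ρ
    have hle : (zeta N ρ).range ≤ H := by
      rintro _ ⟨c, rfl⟩
      show projG N ρ (zeta N ρ c) ∈ P
      rw [zeta_fst]; exact P.one_mem
    rw [transfer_apply_of_mem_normal H (zeta N ρ).range hle f ?_ (zeta N ρ c) ⟨c, rfl⟩, hidx]
    · congr 1
      rw [hf]
      apply huniq
      show scalarHom V c = scalarHom V c * σ.asGroupHom 1
      rw [map_one, mul_one]
    · rintro g x y ⟨c, hxc⟩ hy
      have : y = x := by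
        apply Subtype.ext
        rw [hy, ← hxc, mul_assoc, zeta_comm, inv_mul_cancel_left]
      rw [this]
  · intro n
    have := iota_range_normal N ρ
    have hle : (iota N ρ).range ≤ H := by
      rintro _ ⟨n, rfl⟩
      show projG N ρ (iota N ρ n) ∈ P
      rw [iota_fst]; exact hNP n.2
    have hval : ∀ (n : N) (h : iota N ρ n ∈ H), f ⟨iota N ρ n, h⟩ = 1 := by
      intro n h
      rw [hf]
      apply huniq
      rw [map_one, one_mul]
      apply Units.ext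
      show ρ n = σ ⟨n, _⟩
      exact (hσ n).symm
    rw [transfer_apply_of_mem_normal H (iota N ρ).range hle f ?_ (iota N ρ n) ⟨n, rfl⟩,
      hval, one_pow]
    rintro g x y ⟨m, hxm⟩ hy
    have hx' : x = ⟨iota N ρ m, hle ⟨m, rfl⟩⟩ := Subtype.ext hxm.symm
    have hy' : y = ⟨iota N ρ (MulAut.conjNormal (g⁻¹).1.1 m), hle ⟨_, rfl⟩⟩ := by
      apply Subtype.ext
      rw [hy, ← hxm]
      show g⁻¹ * iota N ρ m * g = iota N ρ (MulAut.conjNormal (g⁻¹).1.1 m)
      have h3 := conj_iota N ρ g⁻¹ m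
      rw [inv_inv] at h3
      exact h3
    rw [hx', hy', hval, hval]

/-- An irreducible representation of a normal subgroup `N` with `G`-invariant character extends
to `G` as soon as, for every prime `p`, it extends to a subgroup of index prime to `p`. -/
theorem exists_rep_extension_of_local [Finite G] [FiniteDimensional ℂ V] (hρ : ρ.IsIrreducible)
    (hinv : ∀ (g : G) (n : N), ρ.character (MulAut.conjNormal g n) = ρ.character n)
    (hloc : ∀ p : ℕ, p.Prime → ∃ (P : Subgroup G) (hNP : N ≤ P) (σ : Representation ℂ P V),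
      ¬ p ∣ P.index ∧ ∀ n : N, σ ⟨n, hNP n.2⟩ = ρ n) :
    ∃ τ : Representation ℂ G V, ∀ n : N, τ n = ρ n := by
  let X : AddSubgroup ℤ :=
    { carrier := {j | ∃ r : ↥(intertwinerGroup N ρ) →* ℂˣ,
        (∀ c, r (zeta N ρ c) = c ^ j) ∧ ∀ n, r (iota N ρ n) = 1}
      zero_mem' := ⟨1, fun c => by simp, fun n => rfl⟩
      add_mem' := by
        rintro i j ⟨r₁, h₁, h₁'⟩ ⟨r₂, h₂, h₂'⟩
        exact ⟨r₁ * r₂, fun c => by rw [MonoidHom.mul_apply, h₁, h₂, zpow_add],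
          fun n => by rw [MonoidHom.mul_apply, h₁', h₂', one_mul]⟩
      neg_mem' := by
        rintro i ⟨r₁, h₁, h₁'⟩
        exact ⟨r₁⁻¹, fun c => by rw [MonoidHom.inv_apply, h₁, zpow_neg],
          fun n => by rw [MonoidHom.inv_apply, h₁', inv_one]⟩ }
  obtain ⟨d, hd⟩ := Int.subgroup_cyclic X
  have hdvd : ∀ j : ℤ, j ∈ X → d ∣ j := by
    intro j hj
    rw [hd, AddSubgroup.mem_closure_singleton] at hj
    obtain ⟨c, hc⟩ := hj
    exact ⟨c, by rw [← hc, smul_eq_mul, mul_comm]⟩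
  have hd1 : d.natAbs = 1 := by
    by_contra hne
    obtain ⟨p, hp, hpd⟩ := Nat.exists_prime_and_dvd hne
    obtain ⟨P, hNP, σ, hpP, hσ⟩ := hloc p hp
    have htX : (P.index : ℤ) ∈ X := by
      obtain ⟨r, hr1, hr2⟩ := exists_local_hom N ρ hρ hinv P hNP σ hσ
      exact ⟨r, fun c => by rw [hr1, zpow_natCast], hr2⟩
    have := Int.natAbs_dvd_natAbs.2 (hdvd _ htX)
    rw [Int.natAbs_natCast] at this
    exact hpP (hpd.trans this)
  have hdX : d ∈ X := by
    rw [hd]; exact AddSubgroup.subset_closure rfl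
  have h1X : (1 : ℤ) ∈ X := by
    rcases Int.natAbs_eq d with h | h
    · rw [hd1] at h
      rw [← Nat.cast_one, ← h]; exact hdX
    · rw [hd1] at h
      have : (1 : ℤ) = -d := by rw [h]; simp
      rw [this]; exact X.neg_mem hdX
  obtain ⟨r, hr1, hr2⟩ := h1X
  exact exists_rep_extension_of_retraction N ρ hρ hinv r (fun c => by rw [hr1, zpow_one]) hr2

end intertwiners

end Cfsg.Agent.Lib.Helper20
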