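import Mathlib

set_option autoImplicit false

namespace Cfsg.Agent.Lib.Helper20

open QuaternionGroup
open scoped commutatorElement

theorem quat_inv_a {m : ℕ} (i : ZMod (2 * m)) : (a i : QuaternionGroup m)⁻¹ = a (-i) := by
  apply inv_eq_of_mul_eq_one_right
  rw [a_mul_a, add_neg_cancel, a_zero]

theorem quat_inv_xa {m : ℕ} (i : ZMod (2 * m)) :
    (xa i : QuaternionGroup m)⁻¹ = xa ((m : ZMod (2 * m)) + i) := by
  apply inv_eq_of_mul_eq_one_right
  rw [xa_mul_xa]
  have : (m : ZMod (2 * m)) + ((m : ZMod (2 * m)) + i) - i = 0 := by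
    have h2 : ((2 * m : ℕ) : ZMod (2 * m)) = 0 := ZMod.natCast_self _
    push_cast at h2
    linear_combination h2
  rw [this, a_zero]

/-- every commutator in a quaternion group is a rotation -/
theorem quat_commutator_eq_a {m : ℕ} (g h : QuaternionGroup m) :
    ∃ k : ZMod (2 * m), ⁅g, h⁆ = a k := by
  rcases g with i | i <;> rcases h with j | j <;>
    simp only [commutatorElement_def, quat_inv_a, quat_inv_xa, a_mul_a, a_mul_xa, xa_mul_a,
      xa_mul_xa] <;> exact ⟨_, rfl⟩

/-- the rotation subgroup of a quaternion group -/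
def quatRot (m : ℕ) : Subgroup (QuaternionGroup m) where
  carrier := {g | ∃ k : ZMod (2 * m), g = a k}
  mul_mem' := by
    rintro _ _ ⟨i, rfl⟩ ⟨j, rfl⟩
    exact ⟨i + j, a_mul_a i j⟩
  one_mem' := ⟨0, a_zero.symm⟩
  inv_mem' := by
    rintro _ ⟨i, rfl⟩
    exact ⟨-i, quat_inv_a i⟩

/-- the commutator subgroup of a quaternion group is commutative -/
theorem quat_commutator_comm {m : ℕ} (x y : QuaternionGroup m)
    (hx : x ∈ commutator (QuaternionGroup m)) (hy : y ∈ commutator (QuaternionGroup m)) :
    x * y = y * x := by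
  have hle : commutator (QuaternionGroup m) ≤ quatRot m := by
    rw [commutator_def, Subgroup.commutator_le]
    intro g _ h _
    exact quat_commutator_eq_a g h
  obtain ⟨kx, rfl⟩ := hle hx
  obtain ⟨ky, rfl⟩ := hle hy
  rw [a_mul_a, a_mul_a, add_comm]

/-- a quaternion group has at most one involution -/
theorem quat_unique_involution {m : ℕ} [NeZero m] (g h : QuaternionGroup m)
    (hg : orderOf g = 2) (hh : orderOf h = 2) : g = h := by
  have key : ∀ g : QuaternionGroup m, orderOf g = 2 → g = a (m : ZMod (2 * m)) := by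
    intro g hg
    rcases g with i | i
    · have h1 : (a i : QuaternionGroup m) ^ 2 = 1 := by rw [← hg]; exact pow_orderOf_eq_one _
      rw [sq, a_mul_a, ← a_zero] at h1
      have h2 : i + i = 0 := by
        injection h1
      have hne : NeZero (2 * m) := ⟨by have := NeZero.ne m; omega⟩
      have h3 : ((i.val + i.val : ℕ) : ZMod (2 * m)) = 0 := by
        push_cast
        rw [ZMod.natCast_zmod_val]
        exact h2
      rw [ZMod.natCast_eq_zero_iff] at h3
      have hlt : i.val < 2 * m := ZMod.val_lt i
      have hi0 : i ≠ 0 := by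
        rintro rfl
        rw [a_zero, orderOf_one] at hg
        norm_num at hg
      have hv0 : i.val ≠ 0 := by
        intro h
        exact hi0 ((ZMod.val_eq_zero i).mp h)
      have hval : i.val = m := by
        obtain ⟨c, hc⟩ := h3
        have : c = 1 := by
          rcases c with _ | _ | c
          · omega
          · rfl
          · exfalso
            have : 2 * m * (c + 1 + 1) ≥ 2 * m * 2 := Nat.mul_le_mul_left _ (by omega)
            omega
        subst this
        omega
      congr 1
      calc i = ((i.val : ℕ) : ZMod (2 * m)) := (ZMod.natCast_zmod_val i).symm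
        _ = (m : ZMod (2 * m)) := by rw [hval]
    · rw [orderOf_xa] at hg
      norm_num at hg
  rw [key g hg, key h hh]

theorem quat_commutator_le_rot (m : ℕ) : commutator (QuaternionGroup m) ≤ quatRot m := by
  rw [commutator_def, Subgroup.commutator_le]
  intro g _ h _
  exact quat_commutator_eq_a g h

theorem quat_a_mem_rot {m : ℕ} (i : ZMod (2 * m)) : (a i : QuaternionGroup m) ∈ quatRot m :=
  ⟨i, rfl⟩

theorem quat_xa_not_mem_rot {m : ℕ} (i : ZMod (2 * m)) : (xa i : QuaternionGroup m) ∉ quatRot m := by
  rintro ⟨k, hk⟩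
  cases hk

theorem quatRot_index (m : ℕ) : (quatRot m).index = 2 := by
  rw [Subgroup.index_eq_two_iff]
  refine ⟨xa 0, ?_⟩
  rintro (i | i)
  · rw [a_mul_xa]
    exact Or.inr ⟨quat_a_mem_rot i, quat_xa_not_mem_rot _⟩
  · rw [xa_mul_xa]
    exact Or.inl ⟨quat_a_mem_rot _, quat_xa_not_mem_rot _⟩

theorem quatRot_comm {m : ℕ} (x y : QuaternionGroup m) (hx : x ∈ quatRot m) (hy : y ∈ quatRot m) :
    x * y = y * x := by
  obtain ⟨kx, rfl⟩ := hx
  obtain ⟨ky, rfl⟩ := hy
  rw [a_mul_a, a_mul_a, add_comm]

theorem quat_a_two_mem_commutator (m : ℕ) :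
    (a 2 : QuaternionGroup m) ∈ commutator (QuaternionGroup m) := by
  have h : ⁅(a 1 : QuaternionGroup m), (xa 0 : QuaternionGroup m)⁆ = a 2 := by
    simp only [commutatorElement_def, quat_inv_a, quat_inv_xa, a_mul_xa, xa_mul_a, xa_mul_xa]
    congr 1
    have h2 : ((2 * m : ℕ) : ZMod (2 * m)) = 0 := ZMod.natCast_self _
    push_cast at h2
    linear_combination h2
  rw [← h, commutator_def]
  exact Subgroup.commutator_mem_commutator (Subgroup.mem_top _) (Subgroup.mem_top _)

/-- for `m ≥ 3` the centralizer of the derived subgroup is the rotation subgroup -/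
theorem quat_centralizer_commutator {m : ℕ} (hm : 3 ≤ m) (g : QuaternionGroup m) :
    (∀ q ∈ commutator (QuaternionGroup m), q * g = g * q) ↔ g ∈ quatRot m := by
  constructor
  · intro h
    rcases g with i | i
    · exact quat_a_mem_rot i
    · exfalso
      have h1 := h (a 2) (quat_a_two_mem_commutator m)
      rw [a_mul_xa, xa_mul_a] at h1
      have h2 : i - 2 = i + 2 := by injection h1
      have h3 : ((4 : ℕ) : ZMod (2 * m)) = 0 := by
        push_cast
        linear_combination -h2
      rw [ZMod.natCast_eq_zero_iff] at h3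
      have := Nat.le_of_dvd (by norm_num) h3
      omega
  · intro hg q hq
    exact quatRot_comm q g (quat_commutator_le_rot m hq) hg

end Cfsg.Agent.Lib.Helper20
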