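import Mathlib

set_option autoImplicit false

namespace Cfsg.Agent.Lib.Helper20

theorem relIndex_mul_card_of_le {G : Type*} [Group G] {H K : Subgroup G} (h : H ≤ K) :
    H.relIndex K * Nat.card H = Nat.card K := by
  have h1 := Subgroup.card_mul_index (H.subgroupOf K)
  rw [Nat.card_congr (Subgroup.subgroupOfEquivOfLe h).toEquiv] at h1
  rw [Subgroup.relIndex, mul_comm]
  exact h1

/-- second isomorphism theorem, index form: `[HK : H] = [K : H ∩ K]` for `K` normal -/
theorem relIndex_sup_eq_relIndex_inf {G : Type*} [Group G] [Finite G] (H K : Subgroup G)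
    [K.Normal] : H.relIndex (H ⊔ K) = (H ⊓ K).relIndex K := by
  have h1 := relIndex_mul_card_of_le (le_sup_right : K ≤ H ⊔ K)
  have h2 := relIndex_mul_card_of_le (inf_le_left : H ⊓ K ≤ H)
  have h3 := relIndex_mul_card_of_le (le_sup_left : H ≤ H ⊔ K)
  have h4 := relIndex_mul_card_of_le (inf_le_right : H ⊓ K ≤ K)
  rw [Subgroup.relIndex_sup_right] at h1
  rw [Subgroup.inf_relIndex_left] at h2
  have hc : 0 < Nat.card (H ⊓ K : Subgroup G) := Nat.card_pos
  have hr : 0 < K.relIndex H := by
    rcases Nat.eq_zero_or_pos (K.relIndex H) with h | h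
    · rw [h, zero_mul] at h2
      exact absurd h2.symm (Nat.card_pos (α := H)).ne'
    · exact h
  have key : K.relIndex H * Nat.card (H ⊓ K : Subgroup G) * H.relIndex (H ⊔ K) =
      K.relIndex H * Nat.card (H ⊓ K : Subgroup G) * (H ⊓ K).relIndex K := by
    calc K.relIndex H * Nat.card (H ⊓ K : Subgroup G) * H.relIndex (H ⊔ K)
        = H.relIndex (H ⊔ K) * Nat.card H := by rw [h2, mul_comm]
      _ = Nat.card (H ⊔ K : Subgroup G) := h3
      _ = K.relIndex H * Nat.card K := h1.symm
      _ = K.relIndex H * ((H ⊓ K).relIndex K * Nat.card (H ⊓ K : Subgroup G)) := by rw [h4]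
      _ = K.relIndex H * Nat.card (H ⊓ K : Subgroup G) * (H ⊓ K).relIndex K := by ring
  exact Nat.eq_of_mul_eq_mul_left (Nat.mul_pos hr hc) key

/-- A Sylow subgroup meets a normal subgroup in a subgroup of index prime to `p`. -/
theorem not_dvd_relIndex_inf_normal {G : Type*} [Group G] [Finite G] {p : ℕ} [Fact p.Prime]
    (P : Sylow p G) (K : Subgroup G) [K.Normal] : ¬ p ∣ ((P : Subgroup G) ⊓ K).relIndex K := by
  rw [← relIndex_sup_eq_relIndex_inf]
  intro h
  exact P.not_dvd_index (h.trans (Subgroup.relIndex_dvd_index_of_le le_sup_left))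

/-- Same with `K` normalized by a subgroup `N` containing both. -/
theorem not_dvd_relIndex_inf_of_le_normalizer {G : Type*} [Group G] [Finite G] {p : ℕ}
    [Fact p.Prime] (P : Sylow p G) (K N : Subgroup G) (hPN : (P : Subgroup G) ≤ N) (hKN : K ≤ N)
    (hN : N ≤ Subgroup.normalizer (K : Set G)) : ¬ p ∣ ((P : Subgroup G) ⊓ K).relIndex K := by
  haveI : (K.subgroupOf N).Normal := (Subgroup.normal_subgroupOf_iff_le_normalizer hKN).mpr hN
  have h := not_dvd_relIndex_inf_normal (P.subtype hPN) (K.subgroupOf N)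
  rw [Sylow.coe_subtype] at h
  have h2 : (P : Subgroup G).subgroupOf N ⊓ K.subgroupOf N = ((P : Subgroup G) ⊓ K).subgroupOf N := by
    ext x
    simp [Subgroup.mem_subgroupOf]
  rw [h2, Subgroup.relIndex_subgroupOf hKN] at h
  exact h

/-- `[HK : K] = [H : H ∩ K]`-type statement when `H` normalizes `K` -/
theorem relIndex_sup_right_of_le_normalizer {G : Type*} [Group G] (H K : Subgroup G)
    (h : H ≤ Subgroup.normalizer (K : Set G)) : K.relIndex (H ⊔ K) = K.relIndex H := by
  have hK : K ≤ Subgroup.normalizer (K : Set G) := Subgroup.le_normalizer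
  haveI : (K.subgroupOf (Subgroup.normalizer (K : Set G))).Normal :=
    (Subgroup.normal_subgroupOf_iff_le_normalizer hK).mpr le_rfl
  have h1 := Subgroup.relIndex_sup_right (H := H.subgroupOf (Subgroup.normalizer (K : Set G)))
    (K := K.subgroupOf (Subgroup.normalizer (K : Set G)))
  rw [← Subgroup.subgroupOf_sup h hK, Subgroup.relIndex_subgroupOf (sup_le h hK),
    Subgroup.relIndex_subgroupOf h] at h1
  exact h1

/-- A finite group of even order with a cyclic Sylow 2-subgroup `R` has a normal 2-complement,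
which contains every element of odd order. -/
theorem exists_normal_two_complement {C : Type*} [Group C] [Finite C] (R : Subgroup C)
    (hcyc : IsCyclic R) (hR : IsPGroup 2 R) (hidx : ¬ 2 ∣ R.index) (heven : 2 ∣ Nat.card C) :
    ∃ K : Subgroup C, K.Normal ∧ Odd (Nat.card K) ∧ K ⊔ R = ⊤ ∧
      ∀ c : C, Odd (orderOf c) → c ∈ K := by
  haveI : Fact (Nat.Prime 2) := ⟨Nat.prime_two⟩
  let P : Sylow 2 C := hR.toSylow hidx
  have hPR : (P : Subgroup C) = R := IsPGroup.toSylow_coe hR hidx
  have hp : (Nat.card C).minFac = 2 := (Nat.minFac_eq_two_iff _).mpr heven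
  have hPc : IsCyclic P := hcyc
  have hcomp := IsCyclic.isComplement' hp hPc
  have hNC := IsCyclic.normalizer_le_centralizer hp hPc
  refine ⟨(MonoidHom.transferSylow P hNC).ker, inferInstance, ?_, ?_, ?_⟩
  · have := MonoidHom.not_dvd_card_ker_transferSylow P hNC
    rw [← Nat.not_even_iff_odd, even_iff_two_dvd]
    exact this
  · rw [← hPR]
    exact hcomp.sup_eq_top
  · intro c hc
    rw [MonoidHom.mem_ker]
    set φ := MonoidHom.transferSylow P hNC with hφ
    have h1 : orderOf (φ c) ∣ orderOf c := orderOf_map_dvd φ c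
    obtain ⟨k, hk⟩ := P.isPGroup' (φ c)
    have h2 : orderOf (φ c) ∣ 2 ^ k := orderOf_dvd_of_pow_eq_one hk
    have h3 : Nat.Coprime (orderOf c) (2 ^ k) := by
      apply Nat.Coprime.pow_right
      exact (Nat.coprime_comm.mp ((Nat.Prime.coprime_iff_not_dvd Nat.prime_two).mpr
        (by rw [← even_iff_two_dvd, Nat.not_even_iff_odd]; exact hc)))
    have h4 : orderOf (φ c) = 1 := Nat.eq_one_of_dvd_coprimes h3 h1 h2
    exact orderOf_eq_one_iff.mp h4

/-- For a cyclic 2-subgroup `D`, the index of the centralizer in the normalizer is a power of 2. -/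
theorem relIndex_centralizer_normalizer_two_pow {G : Type*} [Group G] [Finite G] (D : Subgroup G)
    (hcyc : IsCyclic D) (hD : IsPGroup 2 D) :
    ∃ i : ℕ, (Subgroup.centralizer (D : Set G)).relIndex (Subgroup.normalizer (D : Set G)) = 2 ^ i := by
  haveI : Fact (Nat.Prime 2) := ⟨Nat.prime_two⟩
  have h1 : (Subgroup.centralizer (D : Set G)).relIndex (Subgroup.normalizer (D : Set G)) =
      Nat.card D.normalizerMonoidHom.range := by
    rw [Subgroup.relIndex, ← Subgroup.normalizerMonoidHom_ker, Subgroup.index_ker]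
  have h2 : Nat.card D.normalizerMonoidHom.range ∣ Nat.card (MulAut D) :=
    Subgroup.card_subgroup_dvd_card _
  obtain ⟨j, hj⟩ := hD.exists_card_eq
  rw [hcyc.card_mulAut, hj] at h2
  rcases Nat.eq_zero_or_pos j with h0 | h0
  · rw [h0, pow_zero, Nat.totient_one, Nat.dvd_one] at h2
    exact ⟨0, by rw [h1, h2, pow_zero]⟩
  · rw [Nat.totient_prime_pow Nat.prime_two h0] at h2
    have h3 : Nat.card D.normalizerMonoidHom.range ∣ 2 ^ (j - 1) := by
      simpa using h2
    obtain ⟨i, _, hi⟩ := (Nat.dvd_prime_pow Nat.prime_two).mp h3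
    exact ⟨i, by rw [h1, hi]⟩

end Cfsg.Agent.Lib.Helper20
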