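import Mathlib
import Cfsg.Agent.S0752
import Cfsg.Agent.Lib.Helper51.Embed

set_option autoImplicit false

namespace Cfsg.Agent.Lib.Helper20

open Module

/-- Darboux: a nondegenerate alternating form on a space of dimension `2m` has a basis indexed by
`Fin m ⊕ Fin m` whose Gram matrix is the standard `J`. -/
theorem exists_symplectic_basis {F V : Type*} [Field F] [AddCommGroup V] [Module F V]
    [FiniteDimensional F V] (B : LinearMap.BilinForm F V) (hA : B.IsAlt) (hB : B.Nondegenerate)
    (m : ℕ) (hV : Module.finrank F V = 2 * m) :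
    ∃ b : Module.Basis (Fin m ⊕ Fin m) F V,
      LinearMap.BilinForm.toMatrix b B = Matrix.J (Fin m) F := by
  classical
  obtain ⟨m', k, b, h1, h2, h3, h4⟩ := Cfsg.Agent.S0752.result B hA
  have hanti : ∀ x y : V, B x y = - B y x := fun x y => (hA.neg_eq y x).symm
  obtain rfl : k = 0 := by
    by_contra hk
    have hk' : 0 < k := Nat.pos_of_ne_zero hk
    have h0 : b (Sum.inr ⟨0, hk'⟩) = 0 := hB.1 _ (h4 ⟨0, hk'⟩)
    exact b.ne_zero _ h0
  have hcard : Module.finrank F V = 2 * m' := by
    rw [Module.finrank_eq_card_basis b]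
    simp [two_mul]
  obtain rfl : m' = m := by omega
  let e : (Fin m' ⊕ Fin m') ⊕ Fin 0 ≃ Fin m' ⊕ Fin m' :=
    (Equiv.sumEmpty _ _).trans (Equiv.sumComm _ _)
  refine ⟨b.reindex e, ?_⟩
  ext i j
  rw [LinearMap.BilinForm.toMatrix_apply, Module.Basis.reindex_apply, Module.Basis.reindex_apply]
  rcases i with i | i <;> rcases j with j | j
  · simp [e, Matrix.J, h3]
  · have : B (b (Sum.inl (Sum.inr i))) (b (Sum.inl (Sum.inl j))) = -(if j = i then 1 else 0) := by
      rw [hanti, h1]
    simp [e, Matrix.J, this, Matrix.one_apply, eq_comm]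
  · simp [e, Matrix.J, h1, Matrix.one_apply]
  · simp [e, Matrix.J, h2]

/-- A group acting linearly on a space `E` with an invariant alternating form `B`, acting faithfully
modulo the radical of `B`, embeds in the symplectic group of degree `dim (E / rad B)`. -/
theorem embed_symplectic_mod_radical {F E G : Type*} [Field F] [AddCommGroup E] [Module F E]
    [FiniteDimensional F E] [Group G] (B : LinearMap.BilinForm F E) (hA : B.IsAlt) (m : ℕ)
    (hdim : Module.finrank F E = 2 * m + Module.finrank F (LinearMap.ker B))
    (ρ : G →* (E →ₗ[F] E)) (hpres : ∀ g u v, B (ρ g u) (ρ g v) = B u v)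
    (hfaith : ∀ g, (∀ v, ρ g v - v ∈ LinearMap.ker B) → g = 1) :
    ∃ φ : G →* ↥(Matrix.symplecticGroup (Fin m) F), Function.Injective φ := by
  classical
  set U : Submodule F E := LinearMap.ker B with hU
  have hUmem : ∀ u, u ∈ U ↔ ∀ v, B u v = 0 := by
    intro u
    rw [hU, LinearMap.mem_ker]
    constructor
    · intro h v; rw [h]; rfl
    · intro h; ext v; simpa using h v
  have hUinv : ∀ g : G, U ≤ U.comap (ρ g) := by
    intro g u hu
    rw [Submodule.mem_comap, hUmem]
    intro v
    have h1 : ρ g (ρ g⁻¹ v) = v := by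
      rw [← Module.End.mul_apply, ← map_mul, mul_inv_cancel, map_one]; rfl
    rw [← h1, hpres]
    exact (hUmem u).1 hu _
  let B' : LinearMap.BilinForm F (E ⧸ U) :=
    B.liftQ₂ U U le_rfl (by rw [hA.isRefl.ker_flip])
  have hB'mk : ∀ x y : E, B' (Submodule.Quotient.mk x) (Submodule.Quotient.mk y) = B x y :=
    fun x y => rfl
  have hA' : B'.IsAlt := by
    intro x
    induction x using Submodule.Quotient.induction_on with
    | H x => rw [hB'mk]; exact hA x
  have hB' : B'.Nondegenerate := by
    refine (LinearMap.IsRefl.nondegenerate_iff_separatingLeft hA'.isRefl).2 ?_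
    intro x hx
    induction x using Submodule.Quotient.induction_on with
    | H x =>
      rw [Submodule.Quotient.mk_eq_zero, hUmem]
      intro v
      have := hx (Submodule.Quotient.mk v)
      rwa [hB'mk] at this
  have hfin : Module.finrank F (E ⧸ U) = 2 * m := by
    have := Submodule.finrank_quotient_add_finrank U
    omega
  let ρ' : G →* ((E ⧸ U) →ₗ[F] (E ⧸ U)) :=
    { toFun := fun g => U.mapQ U (ρ g) (hUinv g)
      map_one' := by
        ext x
        simp
      map_mul' := by
        intro g h
        ext x
        simp [Module.End.mul_apply] }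
  have hρ'mk : ∀ g (x : E), ρ' g (Submodule.Quotient.mk x) = Submodule.Quotient.mk (ρ g x) :=
    fun g x => rfl
  have hpres' : ∀ g u v, B' (ρ' g u) (ρ' g v) = B' u v := by
    intro g u v
    induction u using Submodule.Quotient.induction_on with
    | H u =>
      induction v using Submodule.Quotient.induction_on with
      | H v => rw [hρ'mk, hρ'mk, hB'mk, hB'mk, hpres]
  have hinj : Function.Injective ρ' := by
    rw [injective_iff_map_eq_one]
    intro g hg
    apply hfaith
    intro v
    have := congrArg (fun f => f (Submodule.Quotient.mk v)) hg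
    simp only [hρ'mk] at this
    rw [← Submodule.Quotient.mk_eq_zero U, Submodule.Quotient.mk_sub, this]
    simp
  obtain ⟨b, hb⟩ := exists_symplectic_basis B' hA' hB' m hfin
  exact Cfsg.Agent.Lib.Helper51.embed_symplectic b B' hb ρ' hinj hpres'

end Cfsg.Agent.Lib.Helper20
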