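import Mathlib

/-!
# K-S2536-G1: order of the setwise stabilizer of a subset in the symmetric group
-/

set_option autoImplicit false
open scoped Pointwise

namespace Cfsg.Agent.Lib.Helper20.HallSym

/-- membership in the setwise stabilizer, elementwise -/
theorem mem_stabilizer_set_iff' {α : Type*} (Δ : Set α) (g : Equiv.Perm α) :
    g ∈ MulAction.stabilizer (Equiv.Perm α) Δ ↔ ∀ x, g x ∈ Δ ↔ x ∈ Δ := by
  rw [MulAction.mem_stabilizer_iff]
  constructor
  · intro h x
    constructor
    · intro hx
      rw [← h] at hx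
      obtain ⟨y, hy, hyx⟩ := hx
      have : y = x := g.injective (by simpa using hyx)
      exact this ▸ hy
    · intro hx
      rw [← h]
      exact ⟨x, hx, rfl⟩
  · intro h
    ext y
    constructor
    · rintro ⟨x, hx, rfl⟩
      exact (h x).mpr hx
    · intro hy
      refine ⟨g.symm y, ?_, by simp⟩
      have := h (g.symm y)
      simpa using this.mp (by simpa using hy)

/-- **K-G1.** Order of the setwise stabilizer of `Δ` in `Sym(α)` (Young subgroup). -/
theorem card_stabilizer_set {α : Type} [Finite α] (Δ : Set α) :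
    Nat.card (MulAction.stabilizer (Equiv.Perm α) Δ) =
      (Δ.ncard).factorial * (Nat.card α - Δ.ncard).factorial := by
  classical
  let p : α → Prop := fun a => a ∈ Δ
  have hrange : (Equiv.Perm.subtypeCongrHom p).range = MulAction.stabilizer (Equiv.Perm α) Δ := by
    ext g
    rw [mem_stabilizer_set_iff']
    constructor
    · rintro ⟨⟨e, f⟩, rfl⟩ x
      change (Equiv.Perm.subtypeCongr e f) x ∈ Δ ↔ x ∈ Δ
      by_cases hx : p x
      · rw [Equiv.Perm.subtypeCongr.left_apply _ _ hx]
        exact ⟨fun _ => hx, fun _ => (e ⟨x, hx⟩).2⟩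
      · rw [Equiv.Perm.subtypeCongr.right_apply _ _ hx]
        exact ⟨fun h => absurd h (f ⟨x, hx⟩).2, fun h => absurd h hx⟩
    · intro h
      have h' : ∀ x, ¬ p (g x) ↔ ¬ p x := fun x => not_congr (h x)
      refine ⟨(g.subtypePerm h, g.subtypePerm h'), ?_⟩
      ext x
      change (Equiv.Perm.subtypeCongr (g.subtypePerm h) (g.subtypePerm h')) x = g x
      by_cases hx : p x
      · rw [Equiv.Perm.subtypeCongr.left_apply _ _ hx]
        rfl
      · rw [Equiv.Perm.subtypeCongr.right_apply _ _ hx]
        rfl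
  rw [← hrange]
  rw [← Nat.card_congr ((Equiv.Perm.subtypeCongrHom p).ofInjective
    (Equiv.Perm.subtypeCongrHom_injective p)).toEquiv]
  rw [Nat.card_prod, Nat.card_perm, Nat.card_perm]
  have h1 : Nat.card {a // p a} = Δ.ncard := rfl
  have h2 : Nat.card {a // ¬ p a} = Nat.card α - Δ.ncard := by
    have : Nat.card {a // ¬ p a} = (Δᶜ).ncard := rfl
    rw [this, Set.ncard_compl]
  rw [h1, h2]

end Cfsg.Agent.Lib.Helper20.HallSym
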