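import Mathlib
import Cfsg.Agent.S0843
import Cfsg.Agent.Lib.Helper82.CharSchur
import Cfsg.Agent.Lib.Helper83.Linear

/-!
# The involution lies in the kernel of the exceptional characters (helper20)
-/

set_option autoImplicit false

namespace Cfsg.Agent.Lib.Helper20

open Cfsg

/-- If a Sylow 2-subgroup is (generalized) quaternion, two commuting involutions are equal. -/
theorem commuting_involutions_eq {G : Type*} [Group G] [Finite G] (S : Sylow 2 G) (m : ℕ)
    [NeZero m] (e : (S : Subgroup G) ≃* QuaternionGroup m) (s t : G) (hs : orderOf s = 2)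
    (ht : orderOf t = 2) (hst : s * t = t * s) : s = t := by
  have : Fact (Nat.Prime 2) := ⟨Nat.prime_two⟩
  have hsp : IsPGroup 2 (Subgroup.zpowers s) :=
    IsPGroup.of_card (n := 1) (by rw [Nat.card_zpowers, hs, pow_one])
  have htp : IsPGroup 2 (Subgroup.zpowers t) :=
    IsPGroup.of_card (n := 1) (by rw [Nat.card_zpowers, ht, pow_one])
  have hN : Subgroup.zpowers t ≤ Subgroup.normalizer (Subgroup.zpowers s : Set G) := by
    rw [Subgroup.zpowers_le, Subgroup.mem_normalizer_iff]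
    intro h
    have hconj : ∀ h : G, h ∈ Subgroup.zpowers s → t * h * t⁻¹ = h := by
      intro h hh
      obtain ⟨k, rfl⟩ := Subgroup.mem_zpowers_iff.mp hh
      have : Commute t (s ^ k) := (Commute.zpow_right hst.symm k)
      rw [this.eq, mul_inv_cancel_right]
    constructor
    · intro hh
      rw [hconj h hh]; exact hh
    · intro hh
      have := hconj _ hh
      have h2 : t * h * t⁻¹ = h := by
        have h3 : t⁻¹ * (t * (t * h * t⁻¹) * t⁻¹) * t = t⁻¹ * (t * h * t⁻¹) * t := by rw [this]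
        simpa [mul_assoc] using h3
      rw [← h2]; exact hh
  have hAp : IsPGroup 2 (Subgroup.zpowers s ⊔ Subgroup.zpowers t : Subgroup G) :=
    IsPGroup.to_sup_of_normal_left' hsp htp hN
  obtain ⟨S', hS'⟩ := hAp.exists_le_sylow
  exact Cfsg.Agent.S0843.sylow_unique_involution S S' m e s t
    (hS' ((le_sup_left : Subgroup.zpowers s ≤ _) (Subgroup.mem_zpowers s)))
    (hS' ((le_sup_right : Subgroup.zpowers t ≤ _) (Subgroup.mem_zpowers t))) hs ht

/-- In a group where commuting involutions coincide, the product of two involutions has odd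
order. -/
theorem odd_orderOf_mul_involutions {G : Type*} [Group G] [Finite G]
    (hU : ∀ s t : G, orderOf s = 2 → orderOf t = 2 → s * t = t * s → s = t)
    (s t : G) (hs : orderOf s = 2) (ht : orderOf t = 2) : Odd (orderOf (s * t)) := by
  by_contra hodd
  rw [Nat.not_odd_iff_even] at hodd
  obtain ⟨k, hk⟩ := hodd
  have hs2 : s * s = 1 := by rw [← sq, ← hs]; exact pow_orderOf_eq_one s
  have ht2 : t * t = 1 := by rw [← sq, ← ht]; exact pow_orderOf_eq_one t
  have hsinv : s⁻¹ = s := inv_eq_of_mul_eq_one_right hs2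
  have htinv : t⁻¹ = t := inv_eq_of_mul_eq_one_right ht2
  set u := s * t with hu
  have hupos : 0 < orderOf u := orderOf_pos u
  have hk0 : k ≠ 0 := by omega
  set v := u ^ k with hv
  have hvord : orderOf v = 2 := by
    rw [hv, orderOf_pow' _ hk0, hk, ← two_mul, Nat.gcd_eq_right (dvd_mul_left k 2)]
    exact Nat.mul_div_cancel 2 (Nat.pos_of_ne_zero hk0)
  have hv2 : v * v = 1 := by rw [← sq, ← hvord]; exact pow_orderOf_eq_one v
  have hvinv : v⁻¹ = v := inv_eq_of_mul_eq_one_right hv2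
  have hsu : s * u * s⁻¹ = u⁻¹ := by
    rw [hu, mul_inv_rev, hsinv, htinv, ← mul_assoc, hs2, one_mul]
  have htu : t * u * t⁻¹ = u⁻¹ := by
    rw [hu, mul_inv_rev, hsinv, htinv, mul_assoc, mul_assoc, ht2, mul_one]
  have hsv : s * v = v * s := by
    have h1 : s * v * s⁻¹ = v := by
      rw [hv, ← conj_pow, hsu, inv_pow, ← hv, hvinv]
    calc s * v = s * v * s⁻¹ * s := by group
      _ = v * s := by rw [h1]
  have htv : t * v = v * t := by
    have h1 : t * v * t⁻¹ = v := by
      rw [hv, ← conj_pow, htu, inv_pow, ← hv, hvinv]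
    calc t * v = t * v * t⁻¹ * t := by group
      _ = v * t := by rw [h1]
  have h1 : s = v := hU s v hs hvord hsv
  have h2 : t = v := hU t v ht hvord htv
  have h3 : u = 1 := by rw [hu, h1, h2, hv2]
  rw [h3, orderOf_one] at hk
  omega

/-- the character-theoretic step: class multiplication -/
theorem kernel_of_involution {G : Type*} [Group G] [Fintype G] {χ₁ χ₂ : G → ℂ}
    (h₁ : IsIrrCharacter G χ₁) (h₂ : IsIrrCharacter G χ₂) (hdeg : χ₁ 1 = χ₂ 1 + 1) (z : G)
    (hz : χ₁ z = χ₂ z + 1)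
    (hprod : ∀ a b : G, χ₁ ((a * z * a⁻¹) * (b * z * b⁻¹)) - χ₂ ((a * z * a⁻¹) * (b * z * b⁻¹)) = 1) :
    χ₁ z = χ₁ 1 ∧ χ₂ z = χ₂ 1 := by
  have hd₂ : χ₂ 1 ≠ 0 := Cfsg.Agent.Lib.Helper83.irr_degree_ne_zero ⟨χ₂, h₂⟩
  have hd₁ : χ₂ 1 + 1 ≠ 0 := by
    rw [← hdeg]; exact Cfsg.Agent.Lib.Helper83.irr_degree_ne_zero ⟨χ₁, h₁⟩
  have hG : (Fintype.card G : ℂ) ≠ 0 := by exact_mod_cast Fintype.card_ne_zero
  have e₁ := Cfsg.Agent.Lib.Helper82.IsIrrCharacter.sum_sum_conj_mul h₁ z z 1
  have e₂ := Cfsg.Agent.Lib.Helper82.IsIrrCharacter.sum_sum_conj_mul h₂ z z 1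
  have hsum : ∑ a : G, ∑ b : G, (χ₁ (1 * (a * z * a⁻¹) * (b * z * b⁻¹))
      - χ₂ (1 * (a * z * a⁻¹) * (b * z * b⁻¹))) = (Fintype.card G : ℂ) ^ 2 := by
    have : ∀ a b : G, χ₁ (1 * (a * z * a⁻¹) * (b * z * b⁻¹))
        - χ₂ (1 * (a * z * a⁻¹) * (b * z * b⁻¹)) = 1 := by
      intro a b
      rw [one_mul]
      exact hprod a b
    simp only [this, Finset.sum_const, Finset.card_univ, nsmul_eq_mul, mul_one]
    ring
  simp only [Finset.sum_sub_distrib] at hsum
  rw [e₁, e₂, hz, hdeg] at hsum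
  set t := χ₂ z with ht
  set d := χ₂ 1 with hd
  have key : (d - t) ^ 2 = 0 := by
    have h3 : (t + 1) * (t + 1) * (d + 1) / (d + 1) ^ 2 - t * t * d / d ^ 2 = 1 := by
      have h4 : (Fintype.card G : ℂ) ^ 2 * ((t + 1) * (t + 1) * (d + 1) / (d + 1) ^ 2
          - t * t * d / d ^ 2) = (Fintype.card G : ℂ) ^ 2 * 1 := by
        linear_combination hsum
      exact mul_left_cancel₀ (pow_ne_zero 2 hG) h4
    field_simp at h3
    linear_combination -h3
  have htd : t = d := by
    have := pow_eq_zero_iff (n := 2) (by norm_num) |>.mp key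
    linear_combination -this
  refine ⟨?_, htd⟩
  rw [hz, hdeg, htd]

/-- Brauer–Suzuki: every involution lies in the kernel of both exceptional characters. -/
theorem involution_mem_kernels {G : Type*} [Group G] [Fintype G] (S : Sylow 2 G) (m : ℕ)
    [NeZero m] (e : (S : Subgroup G) ≃* QuaternionGroup m) {χ₁ χ₂ : G → ℂ}
    (h₁ : IsIrrCharacter G χ₁) (h₂ : IsIrrCharacter G χ₂) (hdeg : χ₁ 1 = χ₂ 1 + 1)
    (hval : ∀ g : G, ¬ 4 ∣ orderOf g → χ₁ g - χ₂ g = 1) (z : G) (hz : orderOf z = 2) :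
    χ₁ z = χ₁ 1 ∧ χ₂ z = χ₂ 1 := by
  have hU := commuting_involutions_eq S m e
  apply kernel_of_involution h₁ h₂ hdeg z
  · have := hval z (by rw [hz]; norm_num)
    linear_combination this
  · intro a b
    apply hval
    have h1 : orderOf (a * z * a⁻¹) = 2 := by
      rw [Cfsg.Agent.S0843.orderOf_conj_eq, hz]
    have h2 : orderOf (b * z * b⁻¹) = 2 := by
      rw [Cfsg.Agent.S0843.orderOf_conj_eq, hz]
    have hodd := odd_orderOf_mul_involutions hU _ _ h1 h2
    intro h4
    have : 2 ∣ orderOf (a * z * a⁻¹ * (b * z * b⁻¹)) := dvd_trans (by norm_num) h4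
    exact hodd.not_two_dvd_nat this

end Cfsg.Agent.Lib.Helper20
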