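import Mathlib
import Cfsg.Agent.Lib.Helper20.QuaternionFacts
import Cfsg.Agent.S0842

set_option autoImplicit false
open Cfsg.Agent.Lib.Helper20
open QuaternionGroup
open scoped commutatorElement

namespace Cfsg.Agent.Lib.Helper20

theorem quat_two_m_eq_zero (m : ℕ) : (2 : ZMod (2 * m)) * (m : ZMod (2 * m)) = 0 := by
  have h2 : ((2 * m : ℕ) : ZMod (2 * m)) = 0 := ZMod.natCast_self _
  push_cast at h2
  exact h2

/-- every commutator in a quaternion group is an even rotation -/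
theorem quat_commutator_eq_a_two_mul {m : ℕ} (g h : QuaternionGroup m) :
    ∃ k : ZMod (2 * m), ⁅g, h⁆ = a (2 * k) := by
  have h2 := quat_two_m_eq_zero m
  rcases g with i | i <;> rcases h with j | j <;>
    simp only [commutatorElement_def, quat_inv_a, quat_inv_xa, a_mul_a, a_mul_xa, xa_mul_a,
      xa_mul_xa]
  · exact ⟨0, by congr 1; ring⟩
  · exact ⟨i, by congr 1; linear_combination h2⟩
  · exact ⟨-j, by congr 1; linear_combination h2⟩
  · exact ⟨j - i, by congr 1; linear_combination h2⟩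

theorem quat_a_eq_pow {m : ℕ} [NeZero m] (i : ZMod (2 * m)) :
    (a i : QuaternionGroup m) = (a 1) ^ i.val := by
  rw [a_one_pow, ZMod.natCast_zmod_val]

theorem quat_xa_eq {m : ℕ} (i : ZMod (2 * m)) :
    (xa i : QuaternionGroup m) = xa 0 * a i := by
  rw [xa_mul_a, zero_add]

theorem quat_conj_a_one {m : ℕ} :
    (xa 0 : QuaternionGroup m) * a 1 * (xa 0)⁻¹ = (a 1)⁻¹ := by
  have h2 := quat_two_m_eq_zero m
  rw [quat_inv_xa, quat_inv_a, xa_mul_a, xa_mul_xa]
  congr 1
  linear_combination h2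

section pkg

variable {G : Type*} [Group G] (S : Subgroup G) {m : ℕ} (e : S ≃* QuaternionGroup m)

/-- the generator of the cyclic maximal subgroup -/
noncomputable def bsA : G := ((e.symm (a 1) : S) : G)

/-- a non-central element of order four outside the cyclic maximal subgroup -/
noncomputable def bsW : G := ((e.symm (xa 0) : S) : G)

theorem bsA_mem : bsA S e ∈ S := (e.symm (a 1)).2

theorem bsW_mem : bsW S e ∈ S := (e.symm (xa 0)).2

theorem orderOf_bsA : orderOf (bsA S e) = 2 * m := by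
  rw [bsA, Subgroup.orderOf_coe, MulEquiv.orderOf_eq, orderOf_a_one]

theorem bsW_conj : bsW S e * bsA S e * (bsW S e)⁻¹ = (bsA S e)⁻¹ := by
  have h := congrArg (fun q => ((e.symm q : S) : G)) (quat_conj_a_one (m := m))
  simp only [map_mul, map_inv, Subgroup.coe_mul, Subgroup.coe_inv] at h
  exact h

theorem bsW_conj' : (bsW S e)⁻¹ * bsA S e * bsW S e = (bsA S e)⁻¹ := by
  have h := bsW_conj S e
  have h2 : bsA S e = (bsW S e)⁻¹ * (bsA S e)⁻¹ * bsW S e := by
    rw [← h]; group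
  calc (bsW S e)⁻¹ * bsA S e * bsW S e
      = ((bsW S e)⁻¹ * (bsA S e)⁻¹ * bsW S e)⁻¹ := by group
    _ = (bsA S e)⁻¹ := by rw [← h2]

theorem coe_symm_a [NeZero m] (i : ZMod (2 * m)) :
    ((e.symm (a i) : S) : G) = bsA S e ^ i.val := by
  rw [quat_a_eq_pow, map_pow, Subgroup.coe_pow]
  rfl

theorem coe_symm_xa [NeZero m] (i : ZMod (2 * m)) :
    ((e.symm (xa i) : S) : G) = bsW S e * bsA S e ^ i.val := by
  rw [quat_xa_eq, map_mul, Subgroup.coe_mul, coe_symm_a]
  rfl

theorem mem_cases [NeZero m] (x : G) (hx : x ∈ S) :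
    x ∈ Subgroup.zpowers (bsA S e) ∨ ∃ j : ℕ, x = bsW S e * bsA S e ^ j := by
  have h1 : x = ((e.symm (e ⟨x, hx⟩) : S) : G) := by rw [MulEquiv.symm_apply_apply]
  rcases h : e ⟨x, hx⟩ with i | i
  · left
    rw [h1, h, coe_symm_a]
    exact Subgroup.npow_mem_zpowers _ _
  · right
    rw [h1, h, coe_symm_xa]
    exact ⟨_, rfl⟩

theorem zpowers_bsA_le : Subgroup.zpowers (bsA S e) ≤ S := by
  rw [Subgroup.zpowers_le]; exact bsA_mem S e

theorem e_zpow (k : ℤ) : ∃ i : ZMod (2 * m), e ⟨bsA S e ^ k, Subgroup.zpow_mem _ (bsA_mem S e) k⟩ = a i := by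
  have h1 : (⟨bsA S e ^ k, Subgroup.zpow_mem _ (bsA_mem S e) k⟩ : S) = (e.symm (a 1)) ^ k := by
    apply Subtype.ext
    rw [Subgroup.coe_zpow]
    rfl
  rw [h1, map_zpow, MulEquiv.apply_symm_apply]
  have : (a 1 : QuaternionGroup m) ^ k ∈ quatRot m := Subgroup.zpow_mem _ (quat_a_mem_rot 1) k
  obtain ⟨i, hi⟩ := this
  exact ⟨i, hi⟩

theorem bsW_not_mem_zpowers : bsW S e ∉ Subgroup.zpowers (bsA S e) := by
  intro h
  obtain ⟨k, hk⟩ := Subgroup.mem_zpowers_iff.mp h
  obtain ⟨i, hi⟩ := e_zpow S e k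
  have h2 : (⟨bsA S e ^ k, Subgroup.zpow_mem _ (bsA_mem S e) k⟩ : S) = e.symm (xa 0) := by
    apply Subtype.ext
    exact hk
  rw [h2, MulEquiv.apply_symm_apply] at hi
  cases hi

theorem inf_centralizer_eq_zpowers [NeZero m] (hm : 3 ≤ m) (D : Subgroup G) (hD : D = ⁅S, S⁆) :
    S ⊓ Subgroup.centralizer (D : Set G) = Subgroup.zpowers (bsA S e) := by
  ext x
  constructor
  · rintro ⟨hxS, hxC⟩
    have h1 := (Cfsg.Agent.S0842.mem_centralizer_iff_rot S m hm e D hD ⟨x, hxS⟩).mp hxC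
    obtain ⟨k, hk⟩ := h1
    have h2 : x = ((e.symm (a k) : S) : G) := by rw [← hk, MulEquiv.symm_apply_apply]
    rw [h2, coe_symm_a]
    exact Subgroup.npow_mem_zpowers _ _
  · intro hx
    obtain ⟨k, rfl⟩ := Subgroup.mem_zpowers_iff.mp hx
    refine ⟨Subgroup.zpow_mem _ (bsA_mem S e) k, ?_⟩
    apply Subgroup.zpow_mem
    have := (Cfsg.Agent.S0842.mem_centralizer_iff_rot S m hm e D hD (e.symm (a 1))).mpr
      (by rw [MulEquiv.apply_symm_apply]; exact quat_a_mem_rot 1)
    exact this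

theorem bsW_not_mem_centralizer (hm : 3 ≤ m) (D : Subgroup G) (hD : D = ⁅S, S⁆) :
    bsW S e ∉ Subgroup.centralizer (D : Set G) := by
  intro h
  have := (Cfsg.Agent.S0842.mem_centralizer_iff_rot S m hm e D hD (e.symm (xa 0))).mp h
  rw [MulEquiv.apply_symm_apply] at this
  exact quat_xa_not_mem_rot 0 this

theorem derived_le_zpowers [NeZero m] : ⁅S, S⁆ ≤ Subgroup.zpowers (bsA S e ^ 2) := by
  rw [Subgroup.commutator_le]
  intro g₁ h₁ g₂ h₂
  obtain ⟨k, hk⟩ := quat_commutator_eq_a_two_mul (e ⟨g₁, h₁⟩) (e ⟨g₂, h₂⟩)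
  have h3 : ⁅g₁, g₂⁆ = ((e.symm ⁅e ⟨g₁, h₁⟩, e ⟨g₂, h₂⟩⁆ : S) : G) := by
    rw [← map_commutatorElement, MulEquiv.symm_apply_apply]
    simp [commutatorElement_def]
  rw [h3, hk]
  have h4 : (a (2 * k) : QuaternionGroup m) = (a 1 ^ 2) ^ k.val := by
    rw [← pow_mul, a_one_pow]
    congr 1
    push_cast
    rw [ZMod.natCast_zmod_val]
  rw [h4, map_pow, map_pow, Subgroup.coe_pow, Subgroup.coe_pow]
  exact Subgroup.npow_mem_zpowers _ _

theorem orderOf_bsA_sq : orderOf (bsA S e ^ 2) = m := by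
  rw [orderOf_pow' _ (by norm_num), orderOf_bsA, Nat.gcd_eq_right (dvd_mul_right 2 m)]
  exact Nat.mul_div_cancel_left m (by norm_num)

theorem card_derived_dvd [NeZero m] (e : S ≃* QuaternionGroup m) :
    Nat.card (⁅S, S⁆ : Subgroup G) ∣ m := by
  have h1 := Subgroup.card_dvd_of_le (derived_le_zpowers S e)
  rwa [Nat.card_zpowers, orderOf_bsA_sq S e] at h1

end pkg


/-- the unit `i` of `ℂ` -/
noncomputable def iUnit : ℂˣ := Units.mk0 Complex.I Complex.I_ne_zero

theorem iUnit_coe : ((iUnit : ℂˣ) : ℂ) = Complex.I := rfl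

theorem iUnit_pow_four : iUnit ^ 4 = 1 := by
  apply Units.ext
  rw [Units.val_pow_eq_pow_val, iUnit_coe, Complex.I_pow_four]
  rfl

theorem iUnit_sq_ne_one : iUnit ^ 2 ≠ 1 := by
  intro h
  have h1 := congrArg (fun u : ℂˣ => (u : ℂ)) h
  simp only [Units.val_pow_eq_pow_val, iUnit_coe, Complex.I_sq, Units.val_one] at h1
  norm_num at h1

theorem orderOf_iUnit : orderOf iUnit = 4 := by
  have : Fact (Nat.Prime 2) := ⟨Nat.prime_two⟩
  have := orderOf_eq_prime_pow (x := iUnit) (n := 1) (p := 2) (by simpa using iUnit_sq_ne_one)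
    (by simpa using iUnit_pow_four)
  simpa using this

theorem exists_mu {H : Type*} [Group H] [Finite H] (K : Subgroup H) [K.Normal]
    (hK : Odd (Nat.card K)) (a : H) (n : ℕ) (ha : orderOf a = 2 ^ (n + 3))
    (hsup : K ⊔ Subgroup.zpowers a = ⊤) :
    ∃ μ : H →* ℂˣ, μ a = iUnit ∧ (∀ k ∈ K, μ k = 1) ∧
      (∀ y : H, μ y ≠ 1 → 2 ^ (n + 2) ∣ orderOf y) := by
  set f := QuotientGroup.mk' K with hf
  set ā := f a with hā
  have hfsurj : Function.Surjective f := QuotientGroup.mk'_surjective K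
  have hgen : ∀ q : H ⧸ K, q ∈ Subgroup.zpowers ā := by
    intro q
    have h1 : q ∈ Subgroup.map f ⊤ := by
      rw [Subgroup.map_top_of_surjective f hfsurj]; exact Subgroup.mem_top q
    rw [← hsup, Subgroup.map_sup, QuotientGroup.map_mk'_self, bot_sup_eq,
      MonoidHom.map_zpowers] at h1
    exact h1
  -- order of ā
  have hordā : orderOf ā = 2 ^ (n + 3) := by
    apply Nat.dvd_antisymm
    · rw [← ha]; exact orderOf_map_dvd f a
    · rw [← ha, orderOf_dvd_iff_pow_eq_one]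
      set t := orderOf ā with ht
      have h1 : ā ^ t = 1 := pow_orderOf_eq_one ā
      have h2 : a ^ t ∈ K := by
        rw [hā, ← map_pow, hf, QuotientGroup.mk'_apply, QuotientGroup.eq_one_iff] at h1
        exact h1
      have h3 : orderOf (a ^ t) ∣ Nat.card K := by
        have := orderOf_dvd_natCard (⟨a ^ t, h2⟩ : K)
        rwa [Subgroup.orderOf_mk] at this
      have h4 : orderOf (a ^ t) ∣ 2 ^ (n + 3) := by
        rw [← ha]; exact orderOf_pow_dvd t
      have h5 : Nat.Coprime (Nat.card K) (2 ^ (n + 3)) :=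
        Nat.Coprime.pow_right _ (Nat.Coprime.symm
          ((Nat.Prime.coprime_iff_not_dvd Nat.prime_two).mpr hK.not_two_dvd_nat))
      have h6 : orderOf (a ^ t) = 1 := Nat.eq_one_of_dvd_coprimes h5 h3 h4
      exact orderOf_eq_one_iff.mp h6
  have hdvd : orderOf iUnit ∣ orderOf ā := by
    rw [orderOf_iUnit, hordā]
    exact ⟨2 ^ (n + 1), by ring⟩
  set φ : H ⧸ K →* ℂˣ := monoidHomOfForallMemZpowers hgen hdvd with hφ
  have hφā : φ ā = iUnit := monoidHomOfForallMemZpowers_apply_gen hgen hdvd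
  refine ⟨φ.comp f, hφā, ?_, ?_⟩
  · intro k hk
    have : f k = 1 := by
      rw [hf, QuotientGroup.mk'_apply, QuotientGroup.eq_one_iff]; exact hk
    rw [MonoidHom.comp_apply, this, map_one]
  · intro y hy
    by_contra hnd
    apply hy
    set q := f y with hq
    have hqy : orderOf q ∣ orderOf y := orderOf_map_dvd f y
    have hnd' : ¬ 2 ^ (n + 2) ∣ orderOf q := fun h => hnd (h.trans hqy)
    have hqcard : orderOf q ∣ 2 ^ (n + 3) := by
      rw [← hordā]
      exact orderOf_dvd_of_mem_zpowers (hgen q)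
    obtain ⟨t, ht, hqt⟩ := (Nat.dvd_prime_pow Nat.prime_two).mp hqcard
    have ht' : t ≤ n + 1 := by
      by_contra hlt
      apply hnd'
      rw [hqt]
      exact pow_dvd_pow 2 (by omega)
    have hq1 : q ^ 2 ^ (n + 1) = 1 := by
      rw [← orderOf_dvd_iff_pow_eq_one, hqt]
      exact pow_dvd_pow 2 ht'
    have hmem : q ∈ Submonoid.powers ā := (mem_powers_iff_mem_zpowers).mpr (hgen q)
    obtain ⟨j, hj⟩ := hmem
    have h4 : 4 ∣ j := by
      rw [← hj, ← pow_mul, ← orderOf_dvd_iff_pow_eq_one, hordā] at hq1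
      have : 2 ^ (n + 3) = 4 * 2 ^ (n + 1) := by ring
      rw [this] at hq1
      exact (Nat.mul_dvd_mul_iff_right (by positivity)).mp hq1
    obtain ⟨c, rfl⟩ := h4
    show φ q = 1
    rw [← hj, map_pow, hφā, pow_mul, iUnit_pow_four, one_pow]


/-- conjugation by `w⁻¹` as an endomorphism of a subgroup stable under it -/
def conjHomOn {G : Type*} [Group G] (C : Subgroup G) (w : G)
    (h : ∀ y ∈ C, w⁻¹ * y * w ∈ C) : C →* C where
  toFun y := ⟨w⁻¹ * y * w, h y y.2⟩
  map_one' := by apply Subtype.ext; simp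
  map_mul' x y := by apply Subtype.ext; simp [mul_assoc]

theorem conjHomOn_coe {G : Type*} [Group G] (C : Subgroup G) (w : G)
    (h : ∀ y ∈ C, w⁻¹ * y * w ∈ C) (y : C) :
    ((conjHomOn C w h y : C) : G) = w⁻¹ * y * w := rfl

/-- The configuration used for the exceptional characters: `C` has a linear character `μ` of
order four, inverted by `w`, such that the elements off the kernel of `μ` form a TI-set with
normalizer `C ∪ C w`. -/
structure BSConfig (G : Type*) [Group G] (n : ℕ) where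
  /-- the centralizer of the derived subgroup of a Sylow 2-subgroup -/
  C : Subgroup G
  /-- a generator of the cyclic Sylow 2-subgroup of `C` -/
  a : G
  /-- an element inverting `a` -/
  w : G
  /-- the linear character -/
  μ : ↥C →* ℂˣ
  ha : a ∈ C
  hμa : μ ⟨a, ha⟩ = iUnit
  hord : ∀ y : ↥C, μ y ≠ 1 → 2 ^ (n + 2) ∣ orderOf (y : G)
  hwC : ∀ y ∈ C, w⁻¹ * y * w ∈ C
  hconj : ∀ y : ↥C, μ ⟨w⁻¹ * (y : G) * w, hwC y y.2⟩ = (μ y)⁻¹
  hTI : ∀ x y : G, y ∈ C → 2 ^ (n + 2) ∣ orderOf y → x⁻¹ * y * x ∈ C → x ∈ C ∨ x * w⁻¹ ∈ C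
  hw : w ∉ C
  ha2 : orderOf (a ^ 2) = 2 ^ (n + 2)

theorem exists_bsConfig {G : Type*} [Group G] [Finite G] (S : Sylow 2 G) (n : ℕ)
    (e : (S : Subgroup G) ≃* QuaternionGroup (2 ^ (n + 2))) :
    ∃ cfg : BSConfig G n, cfg.a = bsA (S : Subgroup G) e := by
  have hm : 3 ≤ 2 ^ (n + 2) := by
    have : 2 ^ 2 ≤ 2 ^ (n + 2) := Nat.pow_le_pow_right (by norm_num) (by omega)
    omega
  have hne : NeZero (2 ^ (n + 2)) := ⟨by positivity⟩
  set D : Subgroup G := ⁅(S : Subgroup G), (S : Subgroup G)⁆ with hD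
  obtain ⟨K, hKodd, hKC, hNK, hKS, hKR, hidx⟩ := Cfsg.Agent.S0842.result S n e D hD
  obtain ⟨-, h2, -⟩ := Cfsg.Agent.S0843.result S n e D hD
  set C := Subgroup.centralizer (D : Set G) with hC
  set N := Subgroup.normalizer (D : Set G) with hN
  set a := bsA (S : Subgroup G) e with ha
  set w := bsW (S : Subgroup G) e with hw
  have hR : (S : Subgroup G) ⊓ C = Subgroup.zpowers a :=
    inf_centralizer_eq_zpowers _ e hm D hD
  rw [hR] at hKR
  have haC : a ∈ C := by
    rw [← hKR]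
    exact (le_sup_right : Subgroup.zpowers a ≤ _) (Subgroup.mem_zpowers a)
  have hCN : C ≤ N := Subgroup.centralizer_le_normalizer _
  have hwN : w ∈ N := by
    rw [← hKS]
    exact (le_sup_right : (S : Subgroup G) ≤ _) (bsW_mem _ e)
  have hwC : w ∉ C := bsW_not_mem_centralizer _ e hm D hD
  have hNC : N ≤ Subgroup.normalizer (C : Set G) :=
    Cfsg.Agent.S0842.normalizer_le_normalizer_centralizer D
  have hwCmem : ∀ y ∈ C, w⁻¹ * y * w ∈ C := by
    intro y hy
    have h1 : w⁻¹ ∈ Subgroup.normalizer (C : Set G) := hNC (N.inv_mem hwN)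
    have h3 := (Subgroup.mem_normalizer_iff.mp h1 y).mp hy
    rwa [inv_inv] at h3
  have hwKmem : ∀ y ∈ K, w⁻¹ * y * w ∈ K := by
    intro y hy
    have h1 : w⁻¹ ∈ Subgroup.normalizer (K : Set G) := hNK (N.inv_mem hwN)
    have h3 := (Subgroup.mem_normalizer_iff.mp h1 y).mp hy
    rwa [inv_inv] at h3
  have hK'n : (K.subgroupOf C).Normal :=
    (Subgroup.normal_subgroupOf_iff_le_normalizer hKC).mpr (hCN.trans hNK)
  have hK'odd : Odd (Nat.card (K.subgroupOf C)) := by
    rw [Nat.card_congr (Subgroup.subgroupOfEquivOfLe hKC).toEquiv]; exact hKodd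
  set a' : C := ⟨a, haC⟩ with ha'
  have hord' : orderOf a' = 2 ^ (n + 3) := by
    rw [Subgroup.orderOf_mk, ha, orderOf_bsA]; ring
  have hsup' : K.subgroupOf C ⊔ Subgroup.zpowers a' = ⊤ := by
    have h1 : (Subgroup.zpowers a).subgroupOf C = Subgroup.zpowers a' := by
      ext y
      rw [Subgroup.mem_subgroupOf, Subgroup.mem_zpowers_iff, Subgroup.mem_zpowers_iff]
      constructor
      · rintro ⟨k, hk⟩
        exact ⟨k, Subtype.ext (by rw [Subgroup.coe_zpow]; exact hk)⟩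
      · rintro ⟨k, hk⟩
        refine ⟨k, ?_⟩
        rw [← hk, Subgroup.coe_zpow]
    rw [← h1, ← Subgroup.subgroupOf_sup hKC (Subgroup.zpowers_le.mpr haC), hKR,
      Subgroup.subgroupOf_self]
  obtain ⟨μ, hμa, hμK, hμord⟩ := exists_mu (K.subgroupOf C) hK'odd a' n hord' hsup'
  have heq : μ.comp (conjHomOn C w hwCmem) = μ⁻¹ := by
    have hle : (⊤ : Subgroup C) ≤ MonoidHom.eqLocus (μ.comp (conjHomOn C w hwCmem)) μ⁻¹ := by
      rw [← hsup']
      apply sup_le
      · intro k hk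
        show μ (conjHomOn C w hwCmem k) = μ⁻¹ k
        rw [MonoidHom.inv_apply, hμK k hk, inv_one]
        apply hμK
        rw [Subgroup.mem_subgroupOf, conjHomOn_coe]
        exact hwKmem _ (Subgroup.mem_subgroupOf.mp hk)
      · rw [Subgroup.zpowers_le]
        show μ (conjHomOn C w hwCmem a') = μ⁻¹ a'
        have h5 : conjHomOn C w hwCmem a' = a'⁻¹ := by
          apply Subtype.ext
          rw [conjHomOn_coe, Subgroup.coe_inv]
          exact bsW_conj' _ e
        rw [h5, map_inv]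
        rfl
    ext y
    have := hle (Subgroup.mem_top y)
    exact congrArg Units.val this
  refine ⟨{ C := C, a := a, w := w, μ := μ, ha := haC, hμa := hμa, hord := ?_, hwC := hwCmem,
            hconj := ?_, hTI := ?_, hw := hwC, ha2 := ?_ }, rfl⟩
  · intro y hy
    have := hμord y hy
    rwa [Subgroup.orderOf_coe]
  · intro y
    have := congrArg (fun f : ↥C →* ℂˣ => f y) heq
    exact this
  · intro x y hy hdvd hxy
    have hcard : Nat.card D ∣ orderOf y := (card_derived_dvd _ e).trans hdvd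
    have hxN : x⁻¹ ∈ N := h2 x⁻¹ y hy hcard (by rwa [inv_inv])
    have hxN' : x ∈ N := by simpa using N.inv_mem hxN
    by_cases hxC : x ∈ C
    · left; exact hxC
    · right
      have h6 := Subgroup.mul_mem_iff_of_index_two hidx (a := (⟨x, hxN'⟩ : N))
        (b := (⟨w⁻¹, N.inv_mem hwN⟩ : N))
      rw [Subgroup.mem_subgroupOf, Subgroup.mem_subgroupOf, Subgroup.mem_subgroupOf] at h6
      exact h6.mpr ⟨fun h => absurd h hxC, fun h => absurd (by simpa using C.inv_mem h) hwC⟩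
  · exact orderOf_bsA_sq _ e


end Cfsg.Agent.Lib.Helper20
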