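import Mathlib
import Cfsg.Agent.Lib.Helper20.BSGroup
import Cfsg.Agent.Lib.Helper34.Induction
import Cfsg.Agent.Lib.Helper34.LinChar
import Cfsg.Agent.Lib.Helper34.GenChar
import Cfsg.Agent.Lib.Helper83.Linear
import Cfsg.Agent.Lib.Helper05.CharOrtho

/-!
# The exceptional characters of Brauer and Suzuki (helper20)
-/

set_option autoImplicit false
set_option linter.unusedSectionVars false

namespace Cfsg.Agent.Lib.Helper20

open scoped ComplexConjugate
open Cfsg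
open Cfsg.Agent.Lib.Helper34

section

variable {G : Type*} [Group G] [Fintype G] {n : ℕ} (cfg : BSConfig G n)

/-- `θ = 1 - μ` on `C` -/
noncomputable def BSConfig.theta : cfg.C → ℂ := fun y => 1 - ((cfg.μ y : ℂˣ) : ℂ)

/-- the function induced by `θ` -/
noncomputable def BSConfig.Theta : G → ℂ := indFun cfg.C cfg.theta

theorem BSConfig.theta_apply (y : cfg.C) : cfg.theta y = 1 - ((cfg.μ y : ℂˣ) : ℂ) := rfl

theorem BSConfig.theta_eq : cfg.theta = linFun (1 : cfg.C →* ℂˣ) - linFun cfg.μ := by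
  funext y
  simp [BSConfig.theta, linFun]

theorem BSConfig.conj_theta_eq :
    (fun y => conj (cfg.theta y)) = linFun (1 : cfg.C →* ℂˣ) - linFun cfg.μ⁻¹ := by
  funext y
  simp only [BSConfig.theta, map_sub, map_one, Pi.sub_apply, linFun_apply, MonoidHom.one_apply,
    Units.val_one]
  rw [conj_linChar]

theorem BSConfig.theta_eq_zero (y : cfg.C) (h : ¬ 2 ^ (n + 2) ∣ orderOf (y : G)) :
    cfg.theta y = 0 := by
  have h1 : cfg.μ y = 1 := by
    by_contra hne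
    exact h (cfg.hord y hne)
  rw [BSConfig.theta_apply, h1, Units.val_one, sub_self]

theorem orderOf_conj_inv_mul {H : Type*} [Group H] (x g : H) :
    orderOf (x⁻¹ * g * x) = orderOf g := by
  have := (MulAut.conj x⁻¹).orderOf_eq g
  simpa [MulAut.conj_apply] using this

theorem BSConfig.Theta_eq_zero (g : G) (h : ¬ 2 ^ (n + 2) ∣ orderOf g) : cfg.Theta g = 0 := by
  rw [BSConfig.Theta, indFun_apply]
  have : ∀ x : G, extendByZero cfg.C cfg.theta (x⁻¹ * g * x) = 0 := by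
    intro x
    by_cases hx : x⁻¹ * g * x ∈ cfg.C
    · rw [extendByZero_apply_mem _ _ hx]
      apply cfg.theta_eq_zero
      show ¬ 2 ^ (n + 2) ∣ orderOf (x⁻¹ * g * x)
      rw [orderOf_conj_inv_mul]
      exact h
    · exact extendByZero_apply_not_mem _ _ hx
  simp [this]

theorem BSConfig.theta_class (x y : cfg.C) : cfg.theta (x⁻¹ * y * x) = cfg.theta y := by
  rw [BSConfig.theta_apply, BSConfig.theta_apply, map_mul, map_mul, map_inv, mul_comm,
    mul_inv_cancel_left]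

theorem BSConfig.theta_conj (y : cfg.C) :
    cfg.theta ⟨cfg.w⁻¹ * (y : G) * cfg.w, cfg.hwC y y.2⟩ = conj (cfg.theta y) := by
  rw [BSConfig.theta_apply, BSConfig.theta_apply, cfg.hconj y, map_sub, map_one, conj_linChar]
  rfl

theorem sum_ite_mem_subgroup (C : Subgroup G) (c : ℂ) [DecidablePred (· ∈ C)] :
    ∑ x : G, (if x ∈ C then c else 0) = (Nat.card C : ℂ) * c := by
  rw [← Finset.sum_filter, Finset.sum_const, nsmul_eq_mul]
  congr 2
  exact (Nat.subtype_card (Finset.univ.filter (· ∈ C)) (by simp)).symm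

theorem BSConfig.Theta_apply_of_dvd (y : cfg.C) (h : 2 ^ (n + 2) ∣ orderOf (y : G)) :
    cfg.Theta y = cfg.theta y + conj (cfg.theta y) := by
  classical
  rw [BSConfig.Theta, indFun_apply]
  have hterm : ∀ x : G, extendByZero cfg.C cfg.theta (x⁻¹ * (y : G) * x) =
      (if x ∈ cfg.C then cfg.theta y else 0) +
        (if x * cfg.w⁻¹ ∈ cfg.C then conj (cfg.theta y) else 0) := by
    intro x
    by_cases hx : x ∈ cfg.C
    · have hx2 : x * cfg.w⁻¹ ∉ cfg.C := by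
        intro h2
        have h3 : cfg.w⁻¹ ∈ cfg.C := by
          have := cfg.C.mul_mem (cfg.C.inv_mem hx) h2
          rwa [inv_mul_cancel_left] at this
        exact cfg.hw (by simpa using cfg.C.inv_mem h3)
      rw [if_pos hx, if_neg hx2, add_zero]
      have hmem : x⁻¹ * (y : G) * x ∈ cfg.C :=
        cfg.C.mul_mem (cfg.C.mul_mem (cfg.C.inv_mem hx) y.2) hx
      rw [extendByZero_apply_mem _ _ hmem]
      exact cfg.theta_class ⟨x, hx⟩ y
    · rw [if_neg hx, zero_add]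
      by_cases hx2 : x * cfg.w⁻¹ ∈ cfg.C
      · rw [if_pos hx2]
        set x' : cfg.C := ⟨x * cfg.w⁻¹, hx2⟩ with hx'
        have h4 : x⁻¹ * (y : G) * x
            = cfg.w⁻¹ * (((x'⁻¹ * y * x' : cfg.C)) : G) * cfg.w := by
          simp only [hx', Subgroup.coe_mul, Subgroup.coe_inv]
          group
        have hmem : x⁻¹ * (y : G) * x ∈ cfg.C := by
          rw [h4]; exact cfg.hwC _ (x'⁻¹ * y * x').2
        rw [extendByZero_apply_mem _ _ hmem]
        have h5 : (⟨x⁻¹ * (y : G) * x, hmem⟩ : cfg.C)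
            = ⟨cfg.w⁻¹ * (((x'⁻¹ * y * x' : cfg.C)) : G) * cfg.w,
                cfg.hwC _ (x'⁻¹ * y * x').2⟩ := Subtype.ext h4
        rw [h5, cfg.theta_conj, cfg.theta_class]
      · rw [if_neg hx2, extendByZero_apply_not_mem]
        intro hmem
        rcases cfg.hTI x y y.2 h hmem with h6 | h6
        · exact hx h6
        · exact hx2 h6
  simp only [hterm, Finset.sum_add_distrib]
  rw [sum_ite_mem_subgroup]
  have h7 : ∑ x : G, (if x * cfg.w⁻¹ ∈ cfg.C then conj (cfg.theta y) else 0)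
      = ∑ x : G, (if x ∈ cfg.C then conj (cfg.theta y) else 0) := by
    rw [← Equiv.sum_comp (Equiv.mulRight cfg.w)]
    apply Finset.sum_congr rfl
    intro x _
    simp only [Equiv.coe_mulRight, mul_inv_cancel_right]
  rw [h7, sum_ite_mem_subgroup]
  have hc : (Nat.card cfg.C : ℂ) ≠ 0 := Nat.cast_ne_zero.mpr Nat.card_pos.ne'
  field_simp

theorem BSConfig.mu_ne_one : cfg.μ ≠ 1 := by
  intro h
  have h1 := cfg.hμa
  rw [h, MonoidHom.one_apply] at h1
  apply iUnit_sq_ne_one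
  rw [← h1, one_pow]

theorem BSConfig.mu_ne_inv : cfg.μ ≠ cfg.μ⁻¹ := by
  intro h
  have h1 := congrArg (fun f : cfg.C →* ℂˣ => f ⟨cfg.a, cfg.ha⟩) h
  simp only [MonoidHom.inv_apply, cfg.hμa] at h1
  apply iUnit_sq_ne_one
  rw [sq]
  nth_rewrite 1 [h1]
  exact inv_mul_cancel _

variable [Fintype cfg.C]

theorem BSConfig.classInner_Theta_one :
    classInner cfg.Theta (fun _ => (1 : ℂ)) = 1 := by
  classical
  rw [BSConfig.Theta, classInner_indFun_left cfg.C cfg.theta _ (fun _ _ => rfl),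
    cfg.theta_eq, ← linFun_one, classInner_sub_left, classInner_linFun, classInner_linFun,
    if_pos rfl, if_neg cfg.mu_ne_one, sub_zero]

theorem BSConfig.classInner_Theta_Theta : classInner cfg.Theta cfg.Theta = 3 := by
  classical
  have h1 : classInner cfg.Theta cfg.Theta = classInner cfg.theta (fun h : cfg.C => cfg.Theta h) := by
    conv_lhs => rw [BSConfig.Theta]
    exact classInner_indFun_left cfg.C cfg.theta _ (indFun_isClassFunction cfg.C cfg.theta)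
  have h2 : classInner cfg.theta (fun h : cfg.C => cfg.Theta h)
      = classInner cfg.theta (cfg.theta + fun y => conj (cfg.theta y)) := by
    rw [classInner_def, classInner_def]
    congr 1
    apply Finset.sum_congr rfl
    intro y _
    by_cases hy : cfg.theta y = 0
    · rw [hy, zero_mul, zero_mul]
    · have hμ : cfg.μ y ≠ 1 := by
        intro h
        apply hy
        rw [BSConfig.theta_apply, h, Units.val_one, sub_self]
      rw [cfg.Theta_apply_of_dvd y (cfg.hord y hμ)]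
      rfl
  have hne1 : cfg.μ ≠ 1 := cfg.mu_ne_one
  have hne2 : (1 : cfg.C →* ℂˣ) ≠ cfg.μ := fun h => hne1 h.symm
  have hne3 : cfg.μ ≠ cfg.μ⁻¹ := cfg.mu_ne_inv
  have hne4 : (1 : cfg.C →* ℂˣ) ≠ cfg.μ⁻¹ := by
    intro h
    apply hne1
    rw [← inv_inv cfg.μ, ← h]
    ext y
    simp
  rw [h1, h2, cfg.conj_theta_eq, cfg.theta_eq]
  simp only [classInner_sub_left, classInner_add_right, classInner_sub_right, classInner_linFun,
    if_pos, if_neg hne1, if_neg hne2, if_neg hne3, if_neg hne4]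
  norm_num

theorem BSConfig.isGeneralizedCharacter_Theta : IsGeneralizedCharacter G cfg.Theta := by
  apply isGeneralizedCharacter_indFun
  refine ⟨linFun 1, linFun cfg.μ, ?_, ?_, cfg.theta_eq⟩
  · exact Cfsg.Agent.Lib.Helper83.isCharacter_of_hom 1
  · exact Cfsg.Agent.Lib.Helper83.isCharacter_of_hom cfg.μ

theorem BSConfig.Theta_one : cfg.Theta 1 = 0 := by
  apply cfg.Theta_eq_zero
  rw [orderOf_one, Nat.dvd_one]
  have : 2 ^ 2 ≤ 2 ^ (n + 2) := Nat.pow_le_pow_right (by norm_num) (by omega)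
  omega

theorem BSConfig.Theta_a_sq : cfg.Theta (cfg.a ^ 2) = 4 := by
  have hmem : cfg.a ^ 2 ∈ cfg.C := cfg.C.pow_mem cfg.ha 2
  have h1 := cfg.Theta_apply_of_dvd ⟨cfg.a ^ 2, hmem⟩ (by rw [cfg.ha2])
  have h2 : (⟨cfg.a ^ 2, hmem⟩ : cfg.C) = ⟨cfg.a, cfg.ha⟩ ^ 2 := Subtype.ext rfl
  have h3 : cfg.theta ⟨cfg.a ^ 2, hmem⟩ = 2 := by
    rw [BSConfig.theta_apply, h2, map_pow, cfg.hμa, Units.val_pow_eq_pow_val, iUnit_coe,
      Complex.I_sq]
    norm_num
  rw [h3] at h1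
  rw [h1, Complex.conj_ofNat]
  norm_num

omit [Fintype cfg.C] in
theorem BSConfig.main : ∃ χ₁ χ₂ : G → ℂ, IsIrrCharacter G χ₁ ∧ IsIrrCharacter G χ₂ ∧
    χ₁ ≠ (fun _ => 1) ∧ χ₂ ≠ (fun _ => 1) ∧ χ₁ ≠ χ₂ ∧ χ₁ 1 = χ₂ 1 + 1 ∧
    (∀ g : G, ¬ 2 ^ (n + 2) ∣ orderOf g → χ₁ g - χ₂ g = 1) ∧
    χ₁ (cfg.a ^ 2) - χ₂ (cfg.a ^ 2) = -3 := by
  classical
  have : Fintype cfg.C := Fintype.ofFinite _
  set one : G → ℂ := fun _ => 1 with hone
  have hirr1 : IsIrrCharacter G one := Cfsg.Agent.Lib.Helper05.isIrrCharacter_one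
  have hΘ := cfg.isGeneralizedCharacter_Theta
  have hΨ : IsGeneralizedCharacter G (cfg.Theta - one) :=
    isGeneralizedCharacter_sub hΘ (isGeneralizedCharacter_of_irr hirr1)
  have h11 : classInner one one = 1 := Cfsg.Agent.Lib.Helper05.classInner_irr_self hirr1
  have hΘ1 : classInner cfg.Theta one = 1 := cfg.classInner_Theta_one
  have h1Θ : classInner one cfg.Theta = 1 := by
    rw [← classInner_conj_symm, hΘ1, map_one]
  have hnorm : classInner (cfg.Theta - one) (cfg.Theta - one) = 2 := by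
    rw [classInner_sub_left, classInner_sub_right, classInner_sub_right,
      cfg.classInner_Theta_Theta, hΘ1, h1Θ, h11]
    norm_num
  obtain ⟨ψ₁, ψ₂, ε₁, ε₂, hψ₁, hψ₂, hne, hε₁, hε₂, hdec⟩ := exists_two_irr_of_norm_two hΨ hnorm
  have hΨ1 : classInner (cfg.Theta - one) one = 0 := by
    rw [classInner_sub_left, hΘ1, h11, sub_self]
  have key : ∀ (φ₁ φ₂ : G → ℂ) (δ₁ δ₂ : ℤ), IsIrrCharacter G φ₁ → IsIrrCharacter G φ₂ →
      φ₁ ≠ φ₂ → (δ₁ = 1 ∨ δ₁ = -1) → cfg.Theta - one = (δ₁ : ℂ) • φ₁ + (δ₂ : ℂ) • φ₂ →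
      φ₁ ≠ one := by
    intro φ₁ φ₂ δ₁ δ₂ h₁ h₂ hne' hδ hdec' heq
    have h3 : classInner (cfg.Theta - one) one = δ₁ := by
      rw [hdec', classInner_add_left, classInner_smul_left, classInner_smul_left, heq, h11,
        Cfsg.Agent.Lib.Helper05.classInner_irr_ne h₂ hirr1 (by rw [← heq]; exact hne'.symm)]
      ring
    rw [hΨ1] at h3
    rcases hδ with rfl | rfl <;> norm_num at h3
  have hψ₁ne : ψ₁ ≠ one := key ψ₁ ψ₂ ε₁ ε₂ hψ₁ hψ₂ hne hε₁ hdec
  have hψ₂ne : ψ₂ ≠ one := key ψ₂ ψ₁ ε₂ ε₁ hψ₂ hψ₁ hne.symm hε₂ (by rw [hdec, add_comm])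
  obtain ⟨d₁, hd₁⟩ := Cfsg.Agent.Lib.Helper83.char_one_eq_nat
    (Cfsg.Agent.Lib.Helper83.isCharacter_of_irr hψ₁)
  obtain ⟨d₂, hd₂⟩ := Cfsg.Agent.Lib.Helper83.char_one_eq_nat
    (Cfsg.Agent.Lib.Helper83.isCharacter_of_irr hψ₂)
  have hd₁0 : d₁ ≠ 0 := by
    intro h
    exact Cfsg.Agent.Lib.Helper83.irr_degree_ne_zero ⟨ψ₁, hψ₁⟩ (by
      show ψ₁ 1 = 0
      rw [hd₁, h]; simp)
  have hd₂0 : d₂ ≠ 0 := by
    intro h
    exact Cfsg.Agent.Lib.Helper83.irr_degree_ne_zero ⟨ψ₂, hψ₂⟩ (by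
      show ψ₂ 1 = 0
      rw [hd₂, h]; simp)
  have hval : ∀ g : G, cfg.Theta g - 1 = (ε₁ : ℂ) * ψ₁ g + (ε₂ : ℂ) * ψ₂ g := by
    intro g
    have := congrFun hdec g
    simpa only [Pi.sub_apply, Pi.add_apply, Pi.smul_apply, smul_eq_mul] using this
  have hval1 : (ε₁ : ℂ) * d₁ + (ε₂ : ℂ) * d₂ = -1 := by
    have := hval 1
    rw [cfg.Theta_one, hd₁, hd₂] at this
    rw [← this]
    norm_num
  have hvalZ : ε₁ * d₁ + ε₂ * d₂ = -1 := by exact_mod_cast hval1
  have fin : ∀ χ₁ χ₂ : G → ℂ, (∀ g, cfg.Theta g - 1 = χ₂ g - χ₁ g) →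
      (χ₁ 1 = χ₂ 1 + 1 ∧ (∀ g : G, ¬ 2 ^ (n + 2) ∣ orderOf g → χ₁ g - χ₂ g = 1) ∧
        χ₁ (cfg.a ^ 2) - χ₂ (cfg.a ^ 2) = -3) := by
    intro χ₁ χ₂ h
    refine ⟨?_, ?_, ?_⟩
    · have := h 1
      rw [cfg.Theta_one] at this
      linear_combination this
    · intro g hg
      have := h g
      rw [cfg.Theta_eq_zero g hg] at this
      linear_combination this
    · have := h (cfg.a ^ 2)
      rw [cfg.Theta_a_sq] at this
      linear_combination this
  rcases hε₁ with rfl | rfl <;> rcases hε₂ with rfl | rfl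
  · exfalso; omega
  · refine ⟨ψ₂, ψ₁, hψ₂, hψ₁, hψ₂ne, hψ₁ne, hne.symm, fin ψ₂ ψ₁ ?_⟩
    intro g
    rw [hval g]
    push_cast
    ring
  · refine ⟨ψ₁, ψ₂, hψ₁, hψ₂, hψ₁ne, hψ₂ne, hne, fin ψ₁ ψ₂ ?_⟩
    intro g
    rw [hval g]
    push_cast
    ring
  · exfalso; omega

end

end Cfsg.Agent.Lib.Helper20
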