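import Mathlib
import Cfsg.Agent.Lib.Helper20.BSChar
import Cfsg.Agent.Lib.Helper20.BSKernel
import Cfsg.Agent.Lib.Helper83.Quotient

/-!
# Brauer–Suzuki: the normal subgroup containing all involutions (helper20)
-/

set_option autoImplicit false

namespace Cfsg.Agent.Lib.Helper20

open Cfsg

theorem sylow_le_conj {G : Type*} [Group G] [Finite G] (S : Sylow 2 G) (H : Subgroup G)
    (hH : IsPGroup 2 H) : ∃ g : G, ∀ x ∈ H, g⁻¹ * x * g ∈ (S : Subgroup G) := by
  have : Fact (Nat.Prime 2) := ⟨Nat.prime_two⟩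
  obtain ⟨S', hS'⟩ := hH.exists_le_sylow
  obtain ⟨g, hg⟩ := MulAction.exists_smul_eq G S S'
  refine ⟨g, fun x hx => ?_⟩
  have h1 : x ∈ (S' : Subgroup G) := hS' hx
  rw [← hg, Sylow.smul_def, Sylow.pointwise_smul_def,
    Subgroup.mem_pointwise_smul_iff_inv_smul_mem] at h1
  simpa [MulAut.smul_def, MulAut.conj_inv_apply] using h1

open Cfsg.Agent.Lib.Helper83 in
/-- Brauer–Suzuki: there is a normal subgroup containing all involutions which meets the
quaternion Sylow 2-subgroup in a subgroup of its cyclic maximal subgroup. -/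
theorem exists_kernel_subgroup {G : Type*} [Group G] [Finite G] (S : Sylow 2 G) (n : ℕ)
    (e : (S : Subgroup G) ≃* QuaternionGroup (2 ^ (n + 2))) :
    ∃ M₀ : Subgroup G, M₀.Normal ∧ (∀ z : G, orderOf z = 2 → z ∈ M₀) ∧
      (S : Subgroup G) ⊓ M₀ ≤ Subgroup.zpowers (bsA (S : Subgroup G) e) := by
  classical
  have : Fintype G := Fintype.ofFinite G
  have hne : NeZero (2 ^ (n + 2)) := ⟨by positivity⟩
  obtain ⟨cfg, hcfg⟩ := exists_bsConfig S n e
  obtain ⟨χ₁, χ₂, h₁, h₂, -, -, -, hdeg, hval, hsq⟩ := cfg.main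
  have hval' : ∀ g : G, ¬ 4 ∣ orderOf g → χ₁ g - χ₂ g = 1 := by
    intro g hg
    apply hval
    intro h
    exact hg (dvd_trans ⟨2 ^ n, by ring⟩ h)
  have hc₁ := isCharacter_of_irr h₁
  have hc₂ := isCharacter_of_irr h₂
  refine ⟨charKer hc₁ ⊓ charKer hc₂, inferInstance, ?_, ?_⟩
  · intro z hz
    obtain ⟨hz₁, hz₂⟩ := involution_mem_kernels S _ e h₁ h₂ hdeg hval' z hz
    exact ⟨(mem_charKer hc₁ z).mpr hz₁, (mem_charKer hc₂ z).mpr hz₂⟩
  · rintro x ⟨hxS, hxM⟩
    set a := bsA (S : Subgroup G) e with ha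
    set w := bsW (S : Subgroup G) e with hw
    rcases mem_cases (S : Subgroup G) e x hxS with h | ⟨j, hj⟩
    · exact h
    · exfalso
      have hnorm : (charKer hc₁ ⊓ charKer hc₂).Normal := inferInstance
      have h1 : a * x * a⁻¹ * x⁻¹ ∈ charKer hc₁ ⊓ charKer hc₂ :=
        Subgroup.mul_mem _ (hnorm.conj_mem x hxM a) (Subgroup.inv_mem _ hxM)
      have h2 : a * x * a⁻¹ * x⁻¹ = a ^ 2 := by
        have h3 : w * a⁻¹ * w⁻¹ = a := by
          have := bsW_conj (S : Subgroup G) e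
          have h4 : (w * a * w⁻¹)⁻¹ = a := by rw [this, inv_inv]
          calc w * a⁻¹ * w⁻¹ = (w * a * w⁻¹)⁻¹ := by group
            _ = a := h4
        rw [← ha, ← hw] at hj
        calc a * x * a⁻¹ * x⁻¹ = a * (w * a⁻¹ * w⁻¹) := by rw [hj]; group
          _ = a ^ 2 := by rw [h3, sq]
      rw [h2, ← hcfg] at h1
      have h5 := (mem_charKer hc₁ _).mp h1.1
      have h6 := (mem_charKer hc₂ _).mp h1.2
      rw [h5, h6, hdeg] at hsq
      norm_num at hsq

end Cfsg.Agent.Lib.Helper20
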