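import Mathlib
import Cfsg.Agent.Lib.Helper06.PMinAlt.Defs

/-!
# K-PMinAlt-C3 (293007): swap two triples of a triple system by an even permutation

Classes `{u, a, b}`, `{u', a', b'}`; `g = swap u u' * swap a a' * swap b b' * swap a b`.
-/

set_option autoImplicit false
set_option linter.unusedSectionVars false
set_option linter.unusedVariables false
set_option linter.unusedSimpArgs false
set_option linter.deprecated false

namespace Cfsg.Agent.Lib.Helper20.PMinAlt

open Equiv Equiv.Perm
open Cfsg.Agent.Lib.Helper06.PMinAlt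

variable {α : Type*} [Fintype α] [DecidableEq α]

/-- a permutation interchanging two classes and fixing the rest preserves the relation -/
theorem mem_relStab_of_swap_classes (r : α → α → Prop) (hr : Equivalence r) (u u' : α)
    (huu' : ¬ r u u') (g : Perm α) (F1 : ∀ x, r u x → r u' (g x)) (F2 : ∀ x, r u' x → r u (g x))
    (F3 : ∀ x, ¬ r u x → ¬ r u' x → g x = x) : g ∈ relStab r := by
  have D : ∀ x, r u x → r u' x → False := fun x h1 h2 => huu' (hr.trans h1 (hr.symm h2))
  -- inverse facts
  have G1 : ∀ y, r u' (g y) → r u y := by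
    intro y hy
    by_contra hny
    by_cases hy' : r u' y
    · exact D _ (F2 y hy') hy
    · rw [F3 y hny hy'] at hy
      exact hy' hy
  have G2 : ∀ y, r u (g y) → r u' y := by
    intro y hy
    by_contra hny
    by_cases hy' : r u y
    · exact D _ hy (F1 y hy')
    · rw [F3 y hy' hny] at hy
      exact hy' hy
  intro x y
  by_cases hx : r u x
  · constructor
    · intro h
      have h1 : r u' (g y) := hr.trans (F1 x hx) h
      exact hr.trans (hr.symm hx) (G1 y h1)
    · intro h
      have h1 : r u y := hr.trans hx h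
      exact hr.trans (hr.symm (F1 x hx)) (F1 y h1)
  · by_cases hx' : r u' x
    · constructor
      · intro h
        have h1 : r u (g y) := hr.trans (F2 x hx') h
        exact hr.trans (hr.symm hx') (G2 y h1)
      · intro h
        have h1 : r u' y := hr.trans hx' h
        exact hr.trans (hr.symm (F2 x hx')) (F2 y h1)
    · rw [F3 x hx hx']
      have hyu : ¬ r u y → ¬ r u' y → (r x (g y) ↔ r x y) := by
        intro h1 h2
        rw [F3 y h1 h2]
      by_cases hy : r u y
      · constructor
        · intro h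
          exact absurd (hr.trans (F1 y hy) (hr.symm h)) hx'
        · intro h
          exact absurd (hr.trans hy (hr.symm h)) hx
      · by_cases hy' : r u' y
        · constructor
          · intro h
            exact absurd (hr.trans (F2 y hy') (hr.symm h)) hx
          · intro h
            exact absurd (hr.trans hy' (hr.symm h)) hx'
        · exact hyu hy hy'

/-- the class of `u` is `{u, a, b}` -/
theorem exists_class_triple (r : α → α → Prop) (hr : Equivalence r)
    (hcard : ∀ x, {y | r x y}.ncard = 3) (u : α) :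
    ∃ a b : α, a ≠ u ∧ b ≠ u ∧ a ≠ b ∧ r u a ∧ r u b ∧ ∀ x, r u x → x = u ∨ x = a ∨ x = b := by
  have hu : u ∈ {y | r u y} := hr.refl u
  have h2 : ({y | r u y} \ {u}).ncard = 2 := by
    rw [Set.ncard_diff_singleton_of_mem hu, hcard]
  obtain ⟨a, b, hab, hset⟩ := Set.ncard_eq_two.mp h2
  have ha : a ∈ {y | r u y} \ {u} := by rw [hset]; simp
  have hb : b ∈ {y | r u y} \ {u} := by rw [hset]; simp
  refine ⟨a, b, ha.2, hb.2, hab, ha.1, hb.1, fun x hx => ?_⟩
  by_cases hxu : x = u
  · exact Or.inl hxu
  · right
    have : x ∈ {y | r u y} \ {u} := ⟨hx, hxu⟩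
    rw [hset] at this
    simpa using this

/-- **K-PMinAlt-C3.** -/
theorem exists_swap_classes (r : α → α → Prop) (hr : Equivalence r)
    (hcard : ∀ x, {y | r x y}.ncard = 3) (u u' : α) (huu' : ¬ r u u') :
    ∃ g : Perm α, g ∈ alternatingGroup α ∧ g ∈ relStab r ∧ g u = u' ∧
      ∀ v, ¬ r u v → ¬ r u' v → g v = v := by
  obtain ⟨a, b, hau, hbu, hab, hra, hrb, hC⟩ := exists_class_triple r hr hcard u
  obtain ⟨a', b', hau', hbu', hab', hra', hrb', hC'⟩ := exists_class_triple r hr hcard u'
  have D : ∀ x y, r u x → r u' y → x ≠ y := by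
    rintro x y h1 h2 rfl
    exact huu' (hr.trans h1 (hr.symm h2))
  have huu'ne : u ≠ u' := D u u' (hr.refl u) (hr.refl u')
  have hua' : u ≠ a' := D u a' (hr.refl u) hra'
  have hub' : u ≠ b' := D u b' (hr.refl u) hrb'
  have hau'' : a ≠ u' := D a u' hra (hr.refl u')
  have haa' : a ≠ a' := D a a' hra hra'
  have hab'' : a ≠ b' := D a b' hra hrb'
  have hbu'' : b ≠ u' := D b u' hrb (hr.refl u')
  have hba' : b ≠ a' := D b a' hrb hra'
  have hbb' : b ≠ b' := D b b' hrb hrb'
  set g : Perm α := swap u u' * swap a a' * swap b b' * swap a b with hg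
  have gu : g u = u' := by
    simp [hg, Equiv.swap_apply_def, hau.symm, hbu.symm, hub', hua', huu'ne]
  have ga : g a = b' := by
    simp [hg, Equiv.swap_apply_def, hab, hab.symm, hbu, hbu'', hba', hbb', hab'', hab''.symm,
      hbu'.symm, hbu', hab'.symm, hau'.symm, hub'.symm]
  have gb : g b = a' := by
    simp [hg, Equiv.swap_apply_def, hab, hab.symm, hau, hau'', haa', hab'', hau', hua'.symm,
      hab', hba'.symm]
  have gu' : g u' = u := by
    simp [hg, Equiv.swap_apply_def, hau''.symm, hbu''.symm, hbu'.symm, hau'.symm, huu'ne.symm]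
  have ga' : g a' = a := by
    simp [hg, Equiv.swap_apply_def, haa'.symm, hba'.symm, hab', hau, hau'', hua'.symm, hau']
  have gb' : g b' = b := by
    simp [hg, Equiv.swap_apply_def, hab''.symm, hbb'.symm, hbu, hbu'', hba', hab.symm,
      hub'.symm, hbu', hab'.symm]
  have gfix : ∀ v, ¬ r u v → ¬ r u' v → g v = v := by
    intro v h1 h2
    have e1 : v ≠ u := fun h => h1 (h ▸ hr.refl u)
    have e2 : v ≠ a := fun h => h1 (h ▸ hra)
    have e3 : v ≠ b := fun h => h1 (h ▸ hrb)
    have e4 : v ≠ u' := fun h => h2 (h ▸ hr.refl u')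
    have e5 : v ≠ a' := fun h => h2 (h ▸ hra')
    have e6 : v ≠ b' := fun h => h2 (h ▸ hrb')
    simp [hg, Equiv.swap_apply_def, e1, e2, e3, e4, e5, e6]
  refine ⟨g, ?_, ?_, gu, gfix⟩
  · rw [Equiv.Perm.mem_alternatingGroup, hg]
    simp [Equiv.Perm.sign_mul, Equiv.Perm.sign_swap huu'ne, Equiv.Perm.sign_swap haa',
      Equiv.Perm.sign_swap hbb', Equiv.Perm.sign_swap hab]
  · apply mem_relStab_of_swap_classes r hr u u' huu' g
    · intro x hx
      rcases hC x hx with rfl | rfl | rfl
      · rw [gu]; exact hr.refl u'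
      · rw [ga]; exact hrb'
      · rw [gb]; exact hra'
    · intro x hx
      rcases hC' x hx with rfl | rfl | rfl
      · rw [gu']; exact hr.refl u
      · rw [ga']; exact hra
      · rw [gb']; exact hrb
    · exact gfix

end Cfsg.Agent.Lib.Helper20.PMinAlt

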