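import Cfsg.Agent.Lib.Helper20.OhF
import Cfsg.Agent.Lib.Helper46.SpecCount

set_option autoImplicit false
set_option linter.unusedSimpArgs false
set_option linter.unusedSectionVars false
set_option linter.unusedVariables false
set_option linter.style.haveILetI false
set_option maxHeartbeats 1000000

/-!
# S5972 keystone K-OsEl-K (helper20): the number of singular vectors of a nondegenerate symmetric
space of odd dimension
-/

namespace Cfsg.Agent.Lib.Helper20.OsEl

open Module Cfsg.Agent.Lib.Helper98.Elus Cfsg.Agent.Lib.Helper98.Sy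

universe u
variable {F : Type u} [Field F] {V : Type u} [AddCommGroup V] [Module F V]

/-- rescaling the second half of the hyperbolic coordinates -/
def K.scale (e : ℕ) (c : F) (hc : c ≠ 0) :
    (Unit ⊕ (Fin e ⊕ Fin e) → F) ≃ (Unit ⊕ (Fin e ⊕ Fin e) → F) where
  toFun v := Sum.elim (fun _ => v (Sum.inl ()))
    (Sum.elim (fun i => v (Sum.inr (Sum.inl i))) (fun i => c⁻¹ * v (Sum.inr (Sum.inr i))))
  invFun v := Sum.elim (fun _ => v (Sum.inl ()))
    (Sum.elim (fun i => v (Sum.inr (Sum.inl i))) (fun i => c * v (Sum.inr (Sum.inr i))))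
  left_inv v := by
    funext j
    rcases j with _ | j | j
    · rfl
    · rfl
    · simp only [Sum.elim_inr]
      rw [← mul_assoc, mul_inv_cancel₀ hc, one_mul]
  right_inv v := by
    funext j
    rcases j with _ | j | j
    · rfl
    · rfl
    · simp only [Sum.elim_inr]
      rw [← mul_assoc, inv_mul_cancel₀ hc, one_mul]

theorem K.scale_form (e : ℕ) (c : F) (hc : c ≠ 0) (v : Unit ⊕ (Fin e ⊕ Fin e) → F) :
    Cfsg.Agent.Lib.Helper50.oddForm e c v = c * Cfsg.quadFormOdd e F (K.scale e c hc v) := by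
  simp only [Cfsg.Agent.Lib.Helper50.oddForm, Cfsg.quadFormOdd, K.scale, Equiv.coe_fn_mk,
    Sum.elim_inl, Sum.elim_inr, mul_add, Finset.mul_sum]
  congr 1
  apply Finset.sum_congr rfl
  intro i _
  field_simp

theorem K.arith (q e : ℕ) (hq : 1 ≤ q) :
    q ^ e * 1 + (q ^ e - 1) * (q ^ (e - 1) * q) = q ^ (2 * e) := by
  rcases Nat.eq_zero_or_pos e with rfl | he
  · simp
  · have h1 : q ^ (e - 1) * q = q ^ e := by
      rw [← pow_succ]
      congr 1
      omega
    have h2 : 1 ≤ q ^ e := Nat.one_le_pow _ _ hq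
    rw [h1, mul_one, two_mul, pow_add]
    obtain ⟨t, ht⟩ : ∃ t, q ^ e = t + 1 := ⟨q ^ e - 1, by omega⟩
    rw [ht, Nat.add_sub_cancel]
    ring

theorem card_singular_odd [Fintype F] [FiniteDimensional F V] {B : LinearMap.BilinForm F V}
    (hS : ∀ x y, B x y = B y x) (h2 : (2 : F) ≠ 0) (U : Submodule F V) (hU : NonDeg B U) (e : ℕ)
    (hUd : finrank F U = 2 * e + 1) :
    Nat.card {x : V // x ∈ U ∧ B x x = 0} = Fintype.card F ^ (2 * e) := by
  classical
  have hQ := Cfsg.Agent.Lib.Helper20.Oh.OhF.qnd h2 B hS U hU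
  rcases Cfsg.Agent.Lib.Helper50.witt_type (2 * e + 1) (Cfsg.Agent.Lib.Helper20.Oh.OhF.quad B U)
    hUd hQ with ⟨m, hm, -⟩ | ⟨m, ζ, hm, -, -⟩ | ⟨m, c, hm, hc, φ, hφ⟩
  · omega
  · omega
  · have hme : m = e := by omega
    subst hme
    -- the chain of bijections
    have e1 : {x : V // x ∈ U ∧ B x x = 0} ≃ {u : U // B (u : V) (u : V) = 0} :=
      { toFun := fun x => ⟨⟨x.1, x.2.1⟩, x.2.2⟩
        invFun := fun u => ⟨u.1.1, u.1.2, u.2⟩
        left_inv := fun x => rfl
        right_inv := fun u => rfl }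
    have e2 : {u : U // B (u : V) (u : V) = 0} ≃
        {v : Unit ⊕ (Fin m ⊕ Fin m) → F // Cfsg.quadFormOdd m F v = 0} :=
      Equiv.subtypeEquiv (φ.toEquiv.trans (K.scale m c hc)) (fun u => by
        show B (u : V) (u : V) = 0 ↔ Cfsg.quadFormOdd m F (K.scale m c hc (φ u)) = 0
        have h1 := K.scale_form m c hc (φ u)
        rw [hφ u, Cfsg.Agent.Lib.Helper20.Oh.OhF.quad_apply] at h1
        constructor
        · intro h
          rw [h, mul_zero] at h1
          rcases mul_eq_zero.mp h1.symm with h' | h'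
          · exact absurd h' hc
          · exact h'
        · intro h
          rw [h, mul_zero] at h1
          rcases mul_eq_zero.mp h1 with h' | h'
          · exact absurd h' (inv_ne_zero h2)
          · exact h')
    rw [Nat.card_congr (e1.trans e2), Cfsg.Agent.Lib.Helper46.Spec.card_sphere_odd m 0]
    have hroot : Nat.card {a : F // a ^ 2 - 0 = 0} = 1 := by
      rw [Nat.card_eq_one_iff_unique]
      refine ⟨⟨?_⟩, ⟨⟨0, by simp⟩⟩⟩
      rintro ⟨a, ha⟩ ⟨b, hb⟩
      apply Subtype.ext
      show a = b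
      rw [sub_zero] at ha hb
      rw [pow_eq_zero_iff (two_ne_zero)] at ha hb
      rw [ha, hb]
    rw [hroot]
    exact K.arith (Fintype.card F) m Fintype.card_pos

end Cfsg.Agent.Lib.Helper20.OsEl
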