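import Mathlib
import Cfsg.Prelude.Def_Characters

set_option autoImplicit false

namespace Cfsg.Agent.Lib.Helper20

open scoped ComplexConjugate

theorem extendByZero_mem {G : Type*} [Group G] (H : Subgroup G) (θ : H → ℂ) {g : G}
    (hg : g ∈ H) : Cfsg.extendByZero H θ g = θ ⟨g, hg⟩ := by
  unfold Cfsg.extendByZero
  exact Subtype.val_injective.extend_apply θ 0 ⟨g, hg⟩

theorem extendByZero_not_mem {G : Type*} [Group G] (H : Subgroup G) (θ : H → ℂ) {g : G}
    (hg : g ∉ H) : Cfsg.extendByZero H θ g = 0 := by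
  unfold Cfsg.extendByZero
  rw [Function.extend_apply']
  · rfl
  · rintro ⟨a, rfl⟩
    exact hg a.2

theorem extendByZero_coe {G : Type*} [Group G] (H : Subgroup G) (θ : H → ℂ) (h : H) :
    Cfsg.extendByZero H θ (h : G) = θ h :=
  extendByZero_mem H θ h.2

theorem indFun_apply {G : Type*} [Group G] [Fintype G] (H : Subgroup G) (θ : H → ℂ) (g : G) :
    Cfsg.indFun H θ g = (Nat.card H : ℂ)⁻¹ * ∑ x : G, Cfsg.extendByZero H θ (x⁻¹ * g * x) := rfl

theorem natCard_ne_zero_complex {G : Type*} [Group G] [Finite G] (H : Subgroup G) :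
    (Nat.card H : ℂ) ≠ 0 := by
  exact_mod_cast Nat.card_pos.ne'

theorem card_inv_mul_card_eq_index {G : Type*} [Group G] [Finite G] (H : Subgroup G) :
    (Nat.card H : ℂ)⁻¹ * (Nat.card G : ℂ) = (H.index : ℂ) := by
  rw [← Subgroup.card_mul_index H]
  push_cast
  rw [← mul_assoc, inv_mul_cancel₀ (natCard_ne_zero_complex H), one_mul]

end Cfsg.Agent.Lib.Helper20
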