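import Mathlib
import Cfsg.Prelude.Def_GeometricClasses
import Cfsg.Agent.Lib.Helper79.SUMaxXA

/-!
# K-OPlus10-X9d: `q = 5`, hyperbolic planes refine to orthogonal lines of norm-one vectors
-/

set_option autoImplicit false

namespace Cfsg.Agent.Lib.Helper20.OPlus10

open Cfsg Cfsg.Geo
open scoped Matrix MatrixGroups

variable {F : Type*} [Field F] [Fintype F] {n : ℕ}

namespace X9d

theorem five_eq_zero (hq : Fintype.card F = 5) : (5 : F) = 0 := by
  have h : ((Fintype.card F : ℕ) : F) = 0 := Nat.cast_card_eq_zero F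
  rw [hq] at h
  exact_mod_cast h

theorem two_ne_zero (hq : Fintype.card F = 5) : (2 : F) ≠ 0 := by
  intro h2
  have h5 := five_eq_zero hq
  have : (1 : F) = 0 := by linear_combination h5 - 2 * h2
  exact one_ne_zero this

theorem three_ne_zero (hq : Fintype.card F = 5) : (3 : F) ≠ 0 := by
  intro h3
  have h5 := five_eq_zero hq
  have : (1 : F) = 0 := by linear_combination 2 * h3 - h5
  exact one_ne_zero this

theorem sq_cases (hq : Fintype.card F = 5) {x : F} (hx : x ≠ 0) : x ^ 2 = 1 ∨ x ^ 2 = -1 := by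
  have h4 : x ^ 4 = 1 := by
    have := FiniteField.pow_card_sub_one_eq_one x hx
    rwa [hq] at this
  have : (x ^ 2 - 1) * (x ^ 2 + 1) = 0 := by linear_combination h4
  rcases mul_eq_zero.mp this with h | h
  · left; linear_combination h
  · right; linear_combination h

theorem eq_zero_or_eq_zero_of_sq_add_sq (hq : Fintype.card F = 5) {x y : F}
    (h : x ^ 2 + y ^ 2 = 1) : x = 0 ∨ y = 0 := by
  by_contra hcon
  push Not at hcon
  obtain ⟨hx, hy⟩ := hcon
  have h5 := five_eq_zero hq
  rcases sq_cases hq hx with hx2 | hx2 <;> rcases sq_cases hq hy with hy2 | hy2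
  · rw [hx2, hy2] at h
    exact one_ne_zero (by linear_combination h : (1 : F) = 0)
  · rw [hx2, hy2] at h
    exact one_ne_zero (by linear_combination -h : (1 : F) = 0)
  · rw [hx2, hy2] at h
    exact one_ne_zero (by linear_combination -h : (1 : F) = 0)
  · rw [hx2, hy2] at h
    exact three_ne_zero hq (by linear_combination -h : (3 : F) = 0)

section Form
variable (Q : (Fin n → F) → F) (hQ : IsNondegenerateQuadraticForm Q)
include hQ

omit [Fintype F] hQ in
theorem Q_add (u v : Fin n → F) : Q (u + v) = Q u + Q v + QuadraticMap.polar Q u v := by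
  unfold QuadraticMap.polar
  ring

omit [Fintype F] in
theorem Q_zero : Q 0 = 0 := by
  have := hQ.smul 0 (0 : Fin n → F)
  simpa using this

omit [Fintype F] in
theorem polar_self (v : Fin n → F) : QuadraticMap.polar Q v v = 2 * Q v := by
  unfold QuadraticMap.polar
  have h2 : v + v = (2 : F) • v := (two_smul F v).symm
  rw [h2, hQ.smul]
  ring

omit [Fintype F] in
theorem Q_comb (a b : Fin n → F) (x y : F) :
    Q (x • a + y • b) = x ^ 2 * Q a + y ^ 2 * Q b + x * y * QuadraticMap.polar Q a b := by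
  rw [Q_add Q, hQ.smul, hQ.smul, hQ.polar_bilinear.smul_left, hQ.polar_bilinear.smul_right]
  ring

omit [Fintype F] in
theorem polar_comb (a b : Fin n → F) (x y z w : F) :
    QuadraticMap.polar Q (x • a + y • b) (z • a + w • b) =
      x * z * QuadraticMap.polar Q a a + (x * w + y * z) * QuadraticMap.polar Q a b +
        y * w * QuadraticMap.polar Q b b := by
  have hB := hQ.polar_bilinear
  rw [hB.add_left, hB.add_right, hB.add_right, hB.smul_left, hB.smul_left, hB.smul_left,
    hB.smul_left, hB.smul_right, hB.smul_right, hB.smul_right, hB.smul_right,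
    QuadraticMap.polar_comm Q b a]
  ring

/-- a hyperbolic plane over `F₅` has an orthogonal frame of two norm-one vectors -/
theorem exists_frame (hq : Fintype.card F = 5) (W : Submodule F (Fin n → F))
    (hfr : Module.finrank F W = 2) (hnd : IsNondegenerateOn (QuadraticMap.polar Q) W)
    (hplus : IsPlusTypeOn Q W) :
    ∃ a b : Fin n → F, a ∈ W ∧ b ∈ W ∧ Q a = 1 ∧ Q b = 1 ∧ QuadraticMap.polar Q a b = 0 ∧
      ∀ v ∈ W, ∃ x y : F, v = x • a + y • b := by
  classical
  have hB := hQ.polar_bilinear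
  have h5 := five_eq_zero hq
  obtain ⟨U, hUW, hUts, hUdim⟩ := hplus
  have hU1 : Module.finrank F U = 1 := by omega
  have hUne : U ≠ ⊥ := by
    rintro rfl
    rw [finrank_bot] at hU1
    exact zero_ne_one hU1
  obtain ⟨e, heU, he0⟩ := Submodule.exists_mem_ne_zero_of_ne_bot hUne
  have heW : e ∈ W := hUW heU
  have hQe : Q e = 0 := hUts e heU
  obtain ⟨-, x, hxW, hex⟩ := hnd e heW he0
  have hee : QuadraticMap.polar Q e e = 0 := by rw [polar_self Q hQ, hQe, mul_zero]
  obtain ⟨x', hx'W, hex'⟩ : ∃ x' ∈ W, QuadraticMap.polar Q e x' = 1 :=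
    ⟨(QuadraticMap.polar Q e x)⁻¹ • x, W.smul_mem _ hxW, by
      rw [hB.smul_right, inv_mul_cancel₀ hex]⟩
  have hx'e : QuadraticMap.polar Q x' e = 1 := by rw [QuadraticMap.polar_comm]; exact hex'
  obtain ⟨f, hfW, hQf, hef⟩ : ∃ f ∈ W, Q f = 0 ∧ QuadraticMap.polar Q e f = 1 := by
    refine ⟨(1 : F) • x' + (-Q x') • e, W.add_mem (W.smul_mem _ hx'W) (W.smul_mem _ heW), ?_, ?_⟩
    · rw [Q_comb Q hQ, hQe, hx'e]
      ring
    · rw [hB.add_right, hB.smul_right, hB.smul_right, hex', hee]
      ring
  have hff : QuadraticMap.polar Q f f = 0 := by rw [polar_self Q hQ, hQf, mul_zero]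
  refine ⟨(1 : F) • e + (1 : F) • f, (2 : F) • e + (3 : F) • f,
    W.add_mem (W.smul_mem _ heW) (W.smul_mem _ hfW),
    W.add_mem (W.smul_mem _ heW) (W.smul_mem _ hfW), ?_, ?_, ?_, ?_⟩
  · rw [Q_comb Q hQ, hQe, hQf, hef]
    ring
  · rw [Q_comb Q hQ, hQe, hQf, hef]
    linear_combination h5
  · rw [polar_comb Q hQ, hee, hff, hef]
    linear_combination h5
  · -- spanning
    have hfe : QuadraticMap.polar Q f e = 1 := by rw [QuadraticMap.polar_comm]; exact hef
    have hli : LinearIndependent F ![e, f] := by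
      rw [LinearIndependent.pair_iff]
      intro s t hst
      have h1 : QuadraticMap.polar Q (s • e + t • f) f = 0 := by
        rw [hst]
        have := hB.smul_left 0 (0 : Fin n → F) f
        simpa using this
      have h2 : QuadraticMap.polar Q (s • e + t • f) e = 0 := by
        rw [hst]
        have := hB.smul_left 0 (0 : Fin n → F) e
        simpa using this
      rw [hB.add_left, hB.smul_left, hB.smul_left, hef, hff] at h1
      rw [hB.add_left, hB.smul_left, hB.smul_left, hee, hfe] at h2
      exact ⟨by linear_combination h1, by linear_combination h2⟩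
    have hle : Submodule.span F (Set.range ![e, f]) ≤ W := by
      rw [Submodule.span_le]
      rintro _ ⟨i, rfl⟩
      fin_cases i
      · exact heW
      · exact hfW
    have hfin : Module.finrank F (Submodule.span F (Set.range ![e, f])) = 2 := by
      rw [finrank_span_eq_card hli]
      simp
    have hEq : Submodule.span F (Set.range ![e, f]) = W :=
      Submodule.eq_of_le_of_finrank_eq hle (by rw [hfin, hfr])
    intro v hv
    rw [← hEq, Matrix.range_cons_cons_empty, Submodule.mem_span_pair] at hv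
    obtain ⟨s, t, rfl⟩ := hv
    -- e = 3 a - b, f = b - 2 a
    refine ⟨3 * s - 2 * t, t - s, ?_⟩
    ext i
    simp only [Pi.add_apply, Pi.smul_apply, smul_eq_mul]
    ring

end Form

omit [Fintype F] in
theorem linearIndependent_of_orthogonal (Q : (Fin n → F) → F) (hQ : IsNondegenerateQuadraticForm Q)
    {κ : Type*} (c : κ → Fin n → F)
    (hcc : ∀ k, QuadraticMap.polar Q (c k) (c k) ≠ 0)
    (horth : ∀ k k', k ≠ k' → QuadraticMap.polar Q (c k) (c k') = 0) : LinearIndependent F c := by
  classical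
  have hB := hQ.polar_bilinear
  -- the linear functional `u ↦ B u (c k)`
  let L : κ → (Fin n → F) →ₗ[F] F := fun k =>
    { toFun := fun u => QuadraticMap.polar Q u (c k)
      map_add' := fun x y => hB.add_left x y (c k)
      map_smul' := fun a x => by simpa using hB.smul_left a x (c k) }
  rw [linearIndependent_iff']
  intro s g hg k hk
  have h1 : L k (∑ i ∈ s, g i • c i) = 0 := by rw [hg, map_zero]
  rw [map_sum] at h1
  have h2 : ∀ i ∈ s, L k (g i • c i) = if i = k then g k * QuadraticMap.polar Q (c k) (c k) else 0 := by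
    intro i _
    rw [map_smul]
    change g i • QuadraticMap.polar Q (c i) (c k) = _
    by_cases hik : i = k
    · subst hik; simp
    · rw [if_neg hik, horth i k hik, smul_zero]
  rw [Finset.sum_congr rfl h2, Finset.sum_ite_eq' s k, if_pos hk] at h1
  exact (mul_eq_zero.mp h1).resolve_right (hcc k)

end X9d

/-- **K-OPlus10-X9d.**  `q = 5`: hyperbolic planes refine to `2 t` isometric orthogonal lines. -/
theorem planes_five (hq : Fintype.card F = 5) (Q : (Fin n → F) → F) (hQ : IsNondegenerateQuadraticForm Q)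
    {t : ℕ} (D : Fin t → Submodule F (Fin n → F)) (hD : IsOrthogonalMDecomposition Q 2 D)
    (hplus : ∀ i, IsPlusTypeOn Q (D i)) :
    ∃ D' : Fin (t * 2) → Submodule F (Fin n → F), IsOrthogonalMDecomposition Q 1 D' ∧
      decompositionStabilizer D ⊓ isometryGroup F Q ≤ decompositionStabilizer D' := by
  classical
  have hB := hQ.polar_bilinear
  have h2ne := X9d.two_ne_zero (F := F) hq
  have hDd := hD.decomp
  have hfr := fun i => X9d.exists_frame Q hQ hq (D i) (hDd.decomp.finrank_eq i) (hDd.nondegenerate i)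
    (hplus i)
  choose a b haW hbW haa hbb hab hsp using hfr
  let c : Fin t × Fin 2 → Fin n → F := fun k => if k.2 = 0 then a k.1 else b k.1
  have hc0 : ∀ i, c (i, 0) = a i := fun i => by simp [c]
  have hc1 : ∀ i, c (i, 1) = b i := fun i => by simp [c]
  have hcW : ∀ k, c k ∈ D k.1 := by
    rintro ⟨i, j⟩
    fin_cases j
    · show c (i, 0) ∈ D i
      rw [hc0]; exact haW i
    · show c (i, 1) ∈ D i
      rw [hc1]; exact hbW i
  have hcc : ∀ k, Q (c k) = 1 := by
    rintro ⟨i, j⟩
    fin_cases j
    · show Q (c (i, 0)) = 1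
      rw [hc0]; exact haa i
    · show Q (c (i, 1)) = 1
      rw [hc1]; exact hbb i
  have hcB : ∀ k, QuadraticMap.polar Q (c k) (c k) = 2 := by
    intro k
    rw [X9d.polar_self Q hQ, hcc, mul_one]
  have hcorth : ∀ k k', k ≠ k' → QuadraticMap.polar Q (c k) (c k') = 0 := by
    rintro ⟨i, j⟩ ⟨i', j'⟩ hkk'
    by_cases h1 : i = i'
    · subst h1
      have hjj' : j ≠ j' := fun h => hkk' (by rw [h])
      fin_cases j <;> fin_cases j'
      · exact absurd rfl hjj'
      · show QuadraticMap.polar Q (c (i, 0)) (c (i, 1)) = 0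
        rw [hc0, hc1]; exact hab i
      · show QuadraticMap.polar Q (c (i, 1)) (c (i, 0)) = 0
        rw [hc0, hc1, QuadraticMap.polar_comm]; exact hab i
      · exact absurd rfl hjj'
    · exact hDd.orthogonal i i' h1 _ (hcW (i, j)) _ (hcW (i', j'))
  let D'' : Fin t × Fin 2 → Submodule F (Fin n → F) := fun k => Submodule.span F {c k}
  have hD''def : ∀ k, D'' k = Submodule.span F {c k} := fun k => rfl
  have hc_ne : ∀ k, c k ≠ 0 := by
    intro k h0
    have := hcc k
    rw [h0, X9d.Q_zero Q hQ] at this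
    exact zero_ne_one this
  have hli : LinearIndependent F c :=
    X9d.linearIndependent_of_orthogonal Q hQ c (fun k => by rw [hcB k]; exact h2ne) hcorth
  have hindep : iSupIndep D'' := hli.iSupIndep_span_singleton
  have hDle : ∀ i, D i ≤ D'' (i, 0) ⊔ D'' (i, 1) := by
    intro i v hv
    obtain ⟨x, y, rfl⟩ := hsp i v hv
    apply Submodule.add_mem_sup
    · rw [hD''def, hc0]
      exact Submodule.smul_mem _ _ (Submodule.subset_span rfl)
    · rw [hD''def, hc1]
      exact Submodule.smul_mem _ _ (Submodule.subset_span rfl)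
  have htop : iSup D'' = ⊤ := by
    rw [eq_top_iff, ← hDd.decomp.iSup_eq_top]
    apply iSup_le
    intro i
    exact (hDle i).trans (sup_le (le_iSup D'' (i, 0)) (le_iSup D'' (i, 1)))
  -- the norm-one vectors of `D i`
  have hP4 : ∀ i, ∀ v ∈ D i, Q v = 1 → ∃ j, v ∈ D'' (i, j) := by
    intro i v hv hvv
    obtain ⟨x, y, rfl⟩ := hsp i v hv
    rw [X9d.Q_comb Q hQ, haa, hbb, hab] at hvv
    have hxy : x ^ 2 + y ^ 2 = 1 := by linear_combination hvv
    rcases X9d.eq_zero_or_eq_zero_of_sq_add_sq hq hxy with hx | hy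
    · refine ⟨1, ?_⟩
      rw [hx, zero_smul, zero_add, hD''def, hc1]
      exact Submodule.smul_mem _ _ (Submodule.subset_span rfl)
    · refine ⟨0, ?_⟩
      rw [hy, zero_smul, add_zero, hD''def, hc0]
      exact Submodule.smul_mem _ _ (Submodule.subset_span rfl)
  let e : Fin t × Fin 2 ≃ Fin (t * 2) := finProdFinEquiv
  let D' : Fin (t * 2) → Submodule F (Fin n → F) := fun m => D'' (e.symm m)
  have hD'def : ∀ m, D' m = Submodule.span F {c (e.symm m)} := fun m => rfl
  have hD'inj : Function.Injective D' := by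
    have h1 : Function.Injective D'' := hindep.injective (fun k => by
      rw [hD''def, Ne, Submodule.span_singleton_eq_bot]; exact hc_ne k)
    exact h1.comp e.symm.injective
  refine ⟨D', ⟨⟨⟨?_, one_pos, ?_, ?_, ?_⟩, ?_, ?_⟩, ?_⟩, ?_⟩
  · have := hDd.decomp.two_le
    omega
  · intro m
    rw [hD'def]
    exact finrank_span_singleton (hc_ne _)
  · exact hindep.comp e.symm.injective
  · rw [← htop]
    exact e.symm.iSup_comp (g := D'')
  · -- non-degenerate
    intro m w hw hw0
    rw [hD'def] at hw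
    obtain ⟨x, rfl⟩ := Submodule.mem_span_singleton.mp hw
    have hx0 : x ≠ 0 := by
      rintro rfl
      exact hw0 (zero_smul _ _)
    refine ⟨⟨c (e.symm m), Submodule.subset_span rfl, ?_⟩, ⟨c (e.symm m), Submodule.subset_span rfl, ?_⟩⟩
    · rw [hB.smul_right, hcB]
      exact mul_ne_zero hx0 h2ne
    · rw [hB.smul_left, hcB]
      exact mul_ne_zero hx0 h2ne
  · -- orthogonal
    intro m m' hmm' u hu v hv
    rw [hD'def] at hu hv
    obtain ⟨x, rfl⟩ := Submodule.mem_span_singleton.mp hu
    obtain ⟨y, rfl⟩ := Submodule.mem_span_singleton.mp hv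
    rw [hB.smul_left, hB.smul_right,
      hcorth _ _ (fun h => hmm' (e.symm.injective h))]
    ring
  · -- isometric
    intro m m'
    let e1 := LinearEquiv.toSpanNonzeroSingleton F (Fin n → F) (c (e.symm m)) (hc_ne _)
    let e2 := LinearEquiv.toSpanNonzeroSingleton F (Fin n → F) (c (e.symm m')) (hc_ne _)
    refine ⟨e1.symm.trans e2, ?_⟩
    intro w
    obtain ⟨x, rfl⟩ := e1.surjective w
    rw [LinearEquiv.trans_apply, LinearEquiv.symm_apply_apply]
    change Q (x • c (e.symm m')) = Q (x • c (e.symm m))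
    rw [hQ.smul, hQ.smul, hcc, hcc]
  · -- the stabiliser
    intro g hg
    obtain ⟨⟨σ, hσ⟩, hgI⟩ := hg
    have hgI' : ∀ u : Fin n → F, Q ((g : Matrix (Fin n) (Fin n) F) *ᵥ u) = Q u := fun u => hgI u u
    apply Helper79.SUMax.XA.mem_decompStab_of_forall_exists D' hD'inj g
    intro m
    have hv : (g : Matrix (Fin n) (Fin n) F) *ᵥ c (e.symm m) ∈ D (σ (e.symm m).1) := by
      rw [← hσ (e.symm m).1]
      exact ⟨c (e.symm m), hcW _, by rw [Matrix.toLin'_apply]⟩
    have hvv : Q ((g : Matrix (Fin n) (Fin n) F) *ᵥ c (e.symm m)) = 1 := by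
      rw [hgI', hcc]
    obtain ⟨j, hj⟩ := hP4 _ _ hv hvv
    refine ⟨e (σ (e.symm m).1, j), ?_⟩
    rw [hD'def, hD'def, Equiv.symm_apply_apply, Submodule.map_span, Set.image_singleton,
      Matrix.toLin'_apply]
    rw [hD''def] at hj
    obtain ⟨x, hx⟩ := Submodule.mem_span_singleton.mp hj
    have hx0 : x ≠ 0 := by
      rintro rfl
      rw [zero_smul] at hx
      rw [← hx, X9d.Q_zero Q hQ] at hvv
      exact zero_ne_one hvv
    rw [← hx]
    exact Submodule.span_singleton_smul_eq (IsUnit.mk0 x hx0) _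

end Cfsg.Agent.Lib.Helper20.OPlus10
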