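import Mathlib
import Cfsg.Prelude.Def_GeometricClasses
import Cfsg.Agent.Lib.Helper20.OPlus10X9d

/-!
# K-O12-X25 (587105): `q = 5`, plus-type planes refine to `2 t` isometric orthogonal lines

Index-reordered form (`Fin (2 * t)`) of `Helper20.OPlus10.planes_five`.
-/

set_option autoImplicit false

namespace Cfsg.Agent.Lib.Helper20.O12

open Cfsg Cfsg.Geo
open scoped Matrix MatrixGroups

variable {F : Type*} [Field F] [Fintype F] {n : ℕ}

/-- **K-O12-X25.** -/
theorem planes_plus_card_five (Q : (Fin n → F) → F) (hQ : IsNondegenerateQuadraticForm Q)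
    (hq : Fintype.card F = 5) {t : ℕ} (D : Fin t → Submodule F (Fin n → F))
    (hD : IsOrthogonalMDecomposition Q 2 D) (hp : ∀ i, IsPlusTypeOn Q (D i)) :
    ∃ D' : Fin (2 * t) → Submodule F (Fin n → F), IsOrthogonalMDecomposition Q 1 D' ∧
      decompositionStabilizer D ⊓ isometryGroup F Q ≤ decompositionStabilizer D' := by
  rw [Nat.mul_comm 2 t]
  exact OPlus10.planes_five hq Q hQ D hD hp

end Cfsg.Agent.Lib.Helper20.O12

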