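import Mathlib
import Cfsg.Prelude.Def_GeometricClasses
import Cfsg.Agent.Lib.Helper94.OPlus10X2
import Cfsg.Agent.Lib.Helper43.WittIndex
import Cfsg.Agent.Lib.Helper43.OmegaNondeg1
import Cfsg.Agent.Lib.Helper50.WittMain
import Cfsg.Agent.Lib.Helper50.TypeCriteria
import Cfsg.Agent.Lib.Helper50.DecompAux
import Cfsg.Agent.Lib.Helper50.GeoBridge
import Cfsg.Agent.Lib.Helper50.IsometryDisc
import Cfsg.Agent.Lib.Helper49.MinusUnique
import Cfsg.Agent.Lib.Helper19.O12XT43

/-!
# K-O12-Xhalf (587101): in a plus-type space a non-degenerate subspace of half the dimension, that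
dimension being even, is isometric to its perpendicular space (any characteristic)

`D = ![W, W^⊥]` (`Helper94.OPlus10.half_pair`).  `W` and `W^⊥` have the same type: if `W^⊥` is of plus
type with totally singular `U'` of half its dimension, then `U'^⊥ = W ⊕ U'` (dimensions), and for
`U₀ ≤ W` totally singular of maximal dimension `E = U₀ ⊔ U'` satisfies the maximality hypothesis of
`Helper43.finrank_le_of_totallySingular`.  Same type and same dimension give an isometry
(`Helper50.witt_type`, `Helper49.exists_equiv_minus_all`).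

NOTE: the statement needs `n ≠ 0` (for `n = 0` the hypotheses hold with `W = ⊥` but there is no
`0`-decomposition); it is recorded as an instance argument `[NeZero n]`.
-/

set_option autoImplicit false
set_option linter.unusedVariables false
set_option linter.unusedSectionVars false

namespace Cfsg.Agent.Lib.Helper20.O12

open Cfsg Cfsg.Geo Module QuadraticMap
open scoped Matrix MatrixGroups

variable {F : Type*} [Field F] [Fintype F] {n : ℕ}

namespace Xhalf

open Cfsg.Agent.Lib.Helper50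

/-- elliptic coordinates on a non-degenerate even-dimensional subspace which is not of plus type -/
theorem exists_minus_coords (Q : (Fin n → F) → F) (hQ : IsNondegenerateQuadraticForm Q)
    (W : Submodule F (Fin n → F)) {k : ℕ} (hdim : finrank F W = 2 * k)
    (hnd : IsNondegenerateOn (polar Q) W) (hnp : ¬ IsPlusTypeOn Q W) :
    ∃ (k' : ℕ) (ζ : F), k = k' + 1 ∧ (∀ t : F, t ^ 2 + t + ζ ≠ 0) ∧
      ∃ φ : ↥W ≃ₗ[F] ((Fin k' ⊕ Fin k') ⊕ Fin 2 → F), ∀ w : ↥W,
        Cfsg.quadFormMinus k' F 1 ζ (φ w) = Q (w : Fin n → F) := by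
  set QN : QuadraticForm F ↥W := (geoForm Q hQ).comp W.subtype with hQN
  have hQNapp : ∀ w : ↥W, QN w = Q (w : Fin n → F) := fun w => rfl
  have hpol : ∀ v w : ↥W, polar (⇑QN) v w = polar Q (v : Fin n → F) (w : Fin n → F) := by
    intro v w
    unfold polar
    rw [hQNapp, hQNapp, hQNapp]
    rfl
  have hqnd : QND QN := by
    intro v hv
    by_contra hv0
    have hv0' : (v : Fin n → F) ≠ 0 := fun h => hv0 (Subtype.ext h)
    obtain ⟨-, ⟨x, hx, hxv⟩⟩ := hnd (v : Fin n → F) v.2 hv0'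
    apply hxv
    have := hv ⟨x, hx⟩
    rw [hpol] at this
    exact this
  rcases witt_type (2 * k) QN hdim hqnd with
    ⟨m', hm', hp'⟩ | ⟨m', ζ, hm', hζ, hp'⟩ | ⟨m', c, hm', -, -⟩
  · exfalso
    apply hnp
    obtain ⟨X, hX, hX0⟩ := exists_totally_singular_of_plusType QN m' hp'
    refine ⟨X.map W.subtype, Submodule.map_subtype_le _ _, ?_, ?_⟩
    · rintro _ ⟨x, hx, rfl⟩
      have := hX0 x hx
      rw [hQNapp] at this
      exact this
    · rw [Submodule.finrank_map_subtype_eq, hX, hdim, hm']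
  · obtain ⟨φ, hφ⟩ := hp'
    exact ⟨m', ζ, by omega, hζ, φ, fun w => by rw [hφ, hQNapp]⟩
  · omega

/-- non-degenerate subspaces of the same even dimension and the same type are isometric -/
theorem isometric_of_same_type (Q : (Fin n → F) → F) (hQ : IsNondegenerateQuadraticForm Q)
    (W₁ W₂ : Submodule F (Fin n → F)) {m : ℕ} (h₁ : finrank F W₁ = m) (h₂ : finrank F W₂ = m)
    (hm : Even m) (hnd₁ : IsNondegenerateOn (polar Q) W₁) (hnd₂ : IsNondegenerateOn (polar Q) W₂)
    (hiff : IsPlusTypeOn Q W₁ ↔ IsPlusTypeOn Q W₂) : AreIsometricFor Q W₁ W₂ := by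
  obtain ⟨k, hk⟩ := hm
  have hk2 : m = 2 * k := by omega
  by_cases hp : IsPlusTypeOn Q W₁
  · obtain ⟨φ₁, hφ₁⟩ := exists_plus_coords (geoForm Q hQ) W₁ k (by omega) hnd₁ hp
    obtain ⟨φ₂, hφ₂⟩ := exists_plus_coords (geoForm Q hQ) W₂ k (by omega) hnd₂ (hiff.mp hp)
    refine ⟨φ₁.trans φ₂.symm, fun w => ?_⟩
    have h := hφ₂ ((φ₁.trans φ₂.symm) w)
    rw [LinearEquiv.trans_apply, LinearEquiv.apply_symm_apply, hφ₁] at h
    exact h.symm
  · have hp2 : ¬ IsPlusTypeOn Q W₂ := fun h => hp (hiff.mpr h)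
    obtain ⟨k₁, ζ₁, hk₁, hζ₁, φ₁, hφ₁⟩ := exists_minus_coords Q hQ W₁ (k := k) (by omega) hnd₁ hp
    obtain ⟨k₂, ζ₂, hk₂, hζ₂, φ₂, hφ₂⟩ := exists_minus_coords Q hQ W₂ (k := k) (by omega) hnd₂ hp2
    obtain rfl : k₁ = k₂ := by omega
    obtain ⟨ψ, hψ⟩ := Cfsg.Agent.Lib.Helper49.exists_equiv_minus_all k₁ 1 ζ₂
      (anis_of_irred ζ₂ hζ₂) ζ₁ hζ₁
    refine ⟨φ₁.trans (ψ.trans φ₂.symm), fun w => ?_⟩
    rw [← hφ₂, LinearEquiv.trans_apply, LinearEquiv.trans_apply, LinearEquiv.apply_symm_apply,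
      hψ, hφ₁]

/-- in a plus-type space `V = W₁ ⊥ W₂` with `dim W₁ = dim W₂`: if `W₂` is of plus type, so is `W₁` -/
theorem plus_of_perp_plus (Q : (Fin n → F) → F) (hQ : IsNondegenerateQuadraticForm Q)
    (hplus : IsPlusTypeOn Q ⊤) {m : ℕ} (hn : n = 2 * m)
    (W₁ W₂ : Submodule F (Fin n → F)) (h₁ : finrank F W₁ = m) (h₂ : finrank F W₂ = m)
    (horth : ∀ x ∈ W₁, ∀ y ∈ W₂, polar Q x y = 0) (hdisj : Disjoint W₁ W₂)
    (hp₂ : IsPlusTypeOn Q W₂) : IsPlusTypeOn Q W₁ := by
  classical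
  have hB := hQ.polar_bilinear
  have hQadd : ∀ x y : Fin n → F, Q (x + y) = Q x + Q y + polar Q x y :=
    Cfsg.Agent.Lib.Helper19.O12.Q_add' Q
  have hQ0 : Q 0 = 0 := Cfsg.Agent.Lib.Helper19.O12.Q_zero' Q hQ
  have hnd := geoForm_nondegenerate Q hQ
  have hpb : ∀ x y : Fin n → F, polarBilin (geoForm Q hQ) x y = polar Q x y := fun x y => rfl
  obtain ⟨U, -, hUts, hUdim⟩ := hplus
  obtain ⟨U', hU'le, hU'ts, hU'dim⟩ := hp₂
  rw [finrank_top, Module.finrank_fin_fun] at hUdim
  -- a totally singular subspace of `W₁` of maximal dimension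
  let P : ℕ → Prop := fun d => ∃ U₀ : Submodule F (Fin n → F), U₀ ≤ W₁ ∧
    IsTotallySingularQuad Q U₀ ∧ finrank F U₀ = d
  have hP0 : P 0 := ⟨⊥, bot_le, fun w hw => by rw [(Submodule.mem_bot F).mp hw]; exact hQ0,
    finrank_bot F _⟩
  obtain ⟨U₀, hU₀le, hU₀ts, hU₀dim⟩ := Nat.findGreatest_spec (P := P) (Nat.zero_le m) hP0
  have hmax : ∀ U₁ : Submodule F (Fin n → F), U₁ ≤ W₁ → IsTotallySingularQuad Q U₁ →
      finrank F U₁ ≤ finrank F U₀ := by
    intro U₁ hle hts
    rw [hU₀dim]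
    exact Nat.le_findGreatest (by rw [← h₁]; exact Submodule.finrank_mono hle) ⟨U₁, hle, hts, rfl⟩
  -- `U'^⊥ = W₁ ⊔ U'`
  have hdisj' : Disjoint W₁ U' := hdisj.mono_right hU'le
  have hperp : Cfsg.Agent.Lib.Helper43.orthC (geoForm Q hQ) U' = W₁ ⊔ U' := by
    symm
    apply Submodule.eq_of_le_of_finrank_eq
    · apply sup_le
      · intro x hx
        rw [Cfsg.Agent.Lib.Helper43.mem_orthC]
        intro y hy
        rw [hpb, polar_comm]
        exact horth x hx y (hU'le hy)
      · intro x hx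
        rw [Cfsg.Agent.Lib.Helper43.mem_orthC]
        intro y hy
        exact Cfsg.Agent.Lib.Helper43.polar_eq_zero_of_totallySingular (geoForm Q hQ) U' hU'ts
          y x hy hx
    · have h1 := Submodule.finrank_sup_add_finrank_inf_eq W₁ U'
      rw [disjoint_iff.mp hdisj', finrank_bot, add_zero] at h1
      rw [h1, Cfsg.Agent.Lib.Helper43.finrank_orthC (geoForm Q hQ) hnd, Fintype.card_fin]
      omega
  set E : Submodule F (Fin n → F) := U₀ ⊔ U' with hE
  have hEts : ∀ e ∈ E, (geoForm Q hQ) e = 0 := by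
    intro e he
    obtain ⟨a, ha, b, hb, rfl⟩ := Submodule.mem_sup.mp he
    show Q (a + b) = 0
    rw [hQadd, hU₀ts a ha, hU'ts b hb, horth a (hU₀le ha) b (hU'le hb)]
    ring
  have hEmax : ∀ v, (∀ e ∈ E, polarBilin (geoForm Q hQ) v e = 0) → (geoForm Q hQ) v = 0 →
      v ∈ E := by
    intro v hv hv0
    have hvperp : v ∈ Cfsg.Agent.Lib.Helper43.orthC (geoForm Q hQ) U' := by
      rw [Cfsg.Agent.Lib.Helper43.mem_orthC]
      intro y hy
      rw [hpb, polar_comm, ← hpb]
      exact hv y (Submodule.mem_sup_right hy)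
    rw [hperp] at hvperp
    obtain ⟨w, hw, u', hu', rfl⟩ := Submodule.mem_sup.mp hvperp
    have hQw : Q w = 0 := by
      have h : Q (w + u') = 0 := hv0
      rw [hQadd, hU'ts u' hu', horth w hw u' (hU'le hu')] at h
      linear_combination h
    have hwU₀ : ∀ u₀ ∈ U₀, polar Q u₀ w = 0 := by
      intro u₀ hu₀
      have h : polar Q (w + u') u₀ = 0 := hv u₀ (Submodule.mem_sup_left hu₀)
      rw [hB.add_left, polar_comm Q u' u₀, horth u₀ (hU₀le hu₀) u' (hU'le hu'), add_zero] at h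
      rw [polar_comm]
      exact h
    have hU₁le : U₀ ⊔ Submodule.span F {w} ≤ W₁ :=
      sup_le hU₀le ((Submodule.span_singleton_le_iff_mem w W₁).mpr hw)
    have hU₁ts : IsTotallySingularQuad Q (U₀ ⊔ Submodule.span F {w}) := by
      intro x hx
      obtain ⟨a, ha, b, hb, rfl⟩ := Submodule.mem_sup.mp hx
      obtain ⟨c, rfl⟩ := Submodule.mem_span_singleton.mp hb
      rw [hQadd, hU₀ts a ha, hQ.smul, hQw, hB.smul_right, hwU₀ a ha]
      ring
    have heq : U₀ = U₀ ⊔ Submodule.span F {w} :=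
      Submodule.eq_of_le_of_finrank_le le_sup_left (hmax _ hU₁le hU₁ts)
    have hwin : w ∈ U₀ := by
      rw [heq]
      exact Submodule.mem_sup_right (Submodule.mem_span_singleton_self w)
    exact Submodule.add_mem_sup hwin hu'
  have hfin := Cfsg.Agent.Lib.Helper43.finrank_le_of_totallySingular
    (Q := geoForm Q hQ) hnd E U hUts hEmax hEts
  have hEd : finrank F E ≤ finrank F U₀ + finrank F U' :=
    Submodule.finrank_add_le_finrank_add_finrank U₀ U'
  have hk : finrank F U' ≤ finrank F U₀ := by omega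
  obtain ⟨X, hXle, hXdim⟩ := Cfsg.Agent.Lib.Helper19.O12.exists_le_finrank_eq' U₀ hk
  exact ⟨X, hXle.trans hU₀le, fun w hw => hU₀ts w (hXle hw), by omega⟩

theorem areIsometricFor_refl (Q : (Fin n → F) → F) (W : Submodule F (Fin n → F)) :
    AreIsometricFor Q W W :=
  ⟨LinearEquiv.refl F _, fun w => rfl⟩

theorem areIsometricFor_symm {Q : (Fin n → F) → F} {W W' : Submodule F (Fin n → F)}
    (h : AreIsometricFor Q W W') : AreIsometricFor Q W' W := by
  obtain ⟨e, he⟩ := h
  refine ⟨e.symm, fun w => ?_⟩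
  have := he (e.symm w)
  rw [e.apply_symm_apply] at this
  exact this.symm

end Xhalf

/-- **K-O12-Xhalf.** -/
theorem exists_isometric_pair_of_half [NeZero n] (Q : (Fin n → F) → F)
    (hQ : IsNondegenerateQuadraticForm Q)
    (hplus : IsPlusTypeOn Q ⊤) (W : Submodule F (Fin n → F)) (hdim : 2 * Module.finrank F W = n)
    (he : Even (Module.finrank F W)) (hW : IsNondegenerateOn (QuadraticMap.polar Q) W) :
    ∃ D : Fin 2 → Submodule F (Fin n → F), IsOrthogonalMDecomposition Q (Module.finrank F W) D ∧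
      subspaceStabilizer W ⊓ isometryGroup F Q ≤ decompositionStabilizer D := by
  have hpos : 0 < finrank F W := by
    have := NeZero.pos n
    omega
  obtain ⟨D, hD0, hD, hstab⟩ := Cfsg.Agent.Lib.Helper94.OPlus10.half_pair Q hQ
    (M := finrank F W) hdim.symm hpos W hW rfl
  have hdisj : Disjoint (D 0) (D 1) := hD.decomp.indep.pairwiseDisjoint (by decide)
  have h01 : AreIsometricFor Q (D 0) (D 1) := by
    apply Xhalf.isometric_of_same_type Q hQ (D 0) (D 1) (hD.decomp.finrank_eq 0)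
      (hD.decomp.finrank_eq 1) he (hD.nondegenerate 0) (hD.nondegenerate 1)
    constructor
    · intro hp0
      exact Xhalf.plus_of_perp_plus Q hQ hplus hdim.symm (D 1) (D 0) (hD.decomp.finrank_eq 1)
        (hD.decomp.finrank_eq 0) (hD.orthogonal 1 0 (by decide)) hdisj.symm hp0
    · intro hp1
      exact Xhalf.plus_of_perp_plus Q hQ hplus hdim.symm (D 0) (D 1) (hD.decomp.finrank_eq 0)
        (hD.decomp.finrank_eq 1) (hD.orthogonal 0 1 (by decide)) hdisj hp1
  refine ⟨D, ⟨hD, ?_⟩, hstab⟩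
  intro i j
  fin_cases i <;> fin_cases j
  · exact Xhalf.areIsometricFor_refl Q _
  · exact h01
  · exact Xhalf.areIsometricFor_symm h01
  · exact Xhalf.areIsometricFor_refl Q _

end Cfsg.Agent.Lib.Helper20.O12

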