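import Mathlib

set_option autoImplicit false

namespace Cfsg.Agent.Lib.Helper20

open Module

/-- A nondegenerate alternating form on a space of dimension `2k` has a totally isotropic
subspace of dimension `k`. -/
theorem exists_lagrangian {F V : Type*} [Field F] [AddCommGroup V] [Module F V]
    [FiniteDimensional F V] (B : LinearMap.BilinForm F V) (hB : B.Nondegenerate) (hA : B.IsAlt)
    (k : ℕ) (hV : finrank F V = 2 * k) :
    ∃ L : Submodule F V, finrank F L = k ∧ ∀ x ∈ L, ∀ y ∈ L, B x y = 0 := by
  classical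
  -- choose a totally isotropic subspace of maximal dimension
  let P : ℕ → Prop := fun n => ∃ L : Submodule F V, finrank F L = n ∧ ∀ x ∈ L, ∀ y ∈ L, B x y = 0
  have hP0 : P 0 := ⟨⊥, finrank_bot F V, by
    intro x hx y _
    rw [Submodule.mem_bot] at hx
    rw [hx, map_zero, LinearMap.zero_apply]⟩
  obtain ⟨L, hLn, hLiso⟩ := Nat.findGreatest_spec (P := P) (Nat.zero_le (2 * k)) hP0
  have hmax : ∀ L' : Submodule F V, (∀ x ∈ L', ∀ y ∈ L', B x y = 0) →
      finrank F L' ≤ finrank F L := by
    intro L' hL'
    rw [hLn]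
    apply Nat.le_findGreatest
    · rw [← hV]; exact Submodule.finrank_le L'
    · exact ⟨L', rfl, hL'⟩
  have hle1 : L ≤ B.orthogonal L := by
    intro x hx
    rw [LinearMap.BilinForm.mem_orthogonal_iff]
    intro n hn
    exact hLiso n hn x hx
  have hle2 : B.orthogonal L ≤ L := by
    intro v hv
    rw [LinearMap.BilinForm.mem_orthogonal_iff] at hv
    by_contra hvL
    have hlt : L < L ⊔ Submodule.span F {v} := by
      apply lt_of_le_of_ne le_sup_left
      intro heq
      apply hvL
      rw [heq]
      exact Submodule.mem_sup_right (Submodule.mem_span_singleton_self v)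
    have hiso : ∀ x ∈ L ⊔ Submodule.span F {v}, ∀ y ∈ L ⊔ Submodule.span F {v}, B x y = 0 := by
      intro x hx y hy
      obtain ⟨x₁, hx₁, x₂, hx₂, rfl⟩ := Submodule.mem_sup.mp hx
      obtain ⟨y₁, hy₁, y₂, hy₂, rfl⟩ := Submodule.mem_sup.mp hy
      obtain ⟨a, rfl⟩ := Submodule.mem_span_singleton.mp hx₂
      obtain ⟨b, rfl⟩ := Submodule.mem_span_singleton.mp hy₂
      have h1 : B x₁ y₁ = 0 := hLiso x₁ hx₁ y₁ hy₁
      have h2 : B x₁ v = 0 := hv x₁ hx₁
      have h3 : B v y₁ = 0 := by
        have := hA.neg_eq v y₁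
        rw [← neg_eq_zero, this]
        exact hv y₁ hy₁
      have h4 : B v v = 0 := hA v
      simp only [map_add, map_smul, LinearMap.add_apply, LinearMap.smul_apply, smul_eq_mul,
        h1, h2, h3, h4]
      ring
    have := hmax _ hiso
    have := Submodule.finrank_lt_finrank_of_lt hlt
    omega
  have heq : B.orthogonal L = L := le_antisymm hle2 hle1
  have hfin := LinearMap.BilinForm.finrank_orthogonal hB L
  rw [heq, hV] at hfin
  have hLle : finrank F L ≤ 2 * k := by rw [← hV]; exact Submodule.finrank_le L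
  exact ⟨L, by omega, hLiso⟩

end Cfsg.Agent.Lib.Helper20
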