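import Mathlib
import Cfsg.Agent.Lib.Helper73.RUDefs

set_option autoImplicit false

/-!
# Definitions for the pack K-RU2 (S2278: `SL_3(F)` is generated by two conjugate regular unipotent elements)

`A3` upper Jordan block; for a parameter `μ`: `gM μ` (lower triangular conjugator, `det = 1`),
`dM μ = A3⁻¹ (gM μ) A3 (gM μ)⁻¹` (lower triangular, diagonal `μ, μ⁻², μ`, not semisimple).
For `|F| = 4`: `vM4 ω`, `vM4inv ω`, `g4 ω`.  `cL` = lower Jordan block.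
-/

namespace Cfsg.Agent.Lib.Helper20.RU2

open Matrix

variable (F : Type*) [Field F]

/-- the upper Jordan block -/
def A3 : Matrix (Fin 3) (Fin 3) F := !![1, 1, 0; 0, 1, 1; 0, 0, 1]

/-- the lower Jordan block -/
def cL : Matrix (Fin 3) (Fin 3) F := !![1, 0, 0; 1, 1, 0; 0, 1, 1]

variable {F}

/-- the mixed element `d = A3⁻¹ v` -/
def dM (μ : F) : Matrix (Fin 3) (Fin 3) F :=
  !![μ, 0, 0; 3 - 2 * μ - μ⁻¹ ^ 2, μ⁻¹ ^ 2, 0; -(μ * (μ - 1) ^ 3), 0, μ]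

/-- the conjugator: `gM μ * A3 = (A3 * dM μ) * gM μ` -/
def gM (μ : F) : Matrix (Fin 3) (Fin 3) F :=
  !![μ⁻¹, 0, 0; μ⁻¹ + μ ^ 2 - 2 * μ, μ, 0; (μ - 1) ^ 2, μ - 1, 1]

/-- the second generator for `|F| = 4` (`ω ^ 2 = ω + 1`) -/
def vM4 (ω : F) : Matrix (Fin 3) (Fin 3) F := !![1, 0, 0; 1, 1, 0; ω, 1, 1]

/-- the inverse of `vM4 ω` (characteristic 2) -/
def vM4inv (ω : F) : Matrix (Fin 3) (Fin 3) F := !![1, 0, 0; 1, 1, 0; ω + 1, 1, 1]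

/-- the conjugator for `|F| = 4`: `g4 ω * A3 = vM4 ω * g4 ω` -/
def g4 (ω : F) : Matrix (Fin 3) (Fin 3) F := !![0, 0, 1; 0, 1, 0; 1, ω, 0]

end Cfsg.Agent.Lib.Helper20.RU2
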