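import Mathlib
import Cfsg.Agent.Lib.Helper16.BG1363Defs
import Cfsg.Agent.Lib.Helper55.Basic
import Cfsg.Agent.Lib.Helper71.BG11a

/-!
# K-1435-P9 (keystone 143514, architect helper31): `NU.not_normalizer_le`
-/

set_option autoImplicit false

namespace Cfsg.Agent.Lib.Helper20.BG1435

open Cfsg Subgroup Cfsg.Agent.Lib.Helper55 Cfsg.Agent.Lib.Helper11.BG14D Cfsg.Agent.Lib.Helper16.BG1363

variable {G : Type*} [Group G] [Finite G]

open scoped Pointwise

theorem NU.not_normalizer_le (hG : IsMinSimpleOddOrder G) {M K U R H : Subgroup G} {r : ℕ}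
    (c : NU M K U R H r) (hp : (Nat.card K).Prime) (hpH : Nat.card K ∉ sigma H)
    (hnc : ∀ g : G, H ≠ M.map (MulAut.conj g).toMonoidHom)
    (hnil : Group.IsNilpotent (sigmaCore H)) (hUσ : U ≤ sigmaCore H) (hMH : M ⊓ H = U ⊔ K) :
    ¬ H ⊓ normalizer (U : Set G) ≤ M := by
  intro hcon
  have hσH : sigmaCore H ≤ H := Cfsg.Agent.Lib.Helper71.BG11.sigmaCore_le H
  have hKN : K ≤ normalizer (U : Set G) := c.hKU.normal
  -- `H_σ ⊓ K = ⊥`
  have hσK : sigmaCore H ⊓ K = ⊥ := by
    have hd : Nat.card (sigmaCore H ⊓ K : Subgroup G) ∣ Nat.card K :=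
      Subgroup.card_dvd_of_le inf_le_right
    rcases (Nat.dvd_prime hp).mp hd with h1 | h1
    · exact Subgroup.card_eq_one.mp h1
    · exfalso
      apply hpH
      refine Cfsg.Agent.Lib.Helper71.BG11.sigmaCore_pi hG c.hH hp ?_
      rw [← h1]
      exact Subgroup.card_dvd_of_le inf_le_left
  -- `T := H_σ ⊓ N(U) ≤ U`
  have hTU : sigmaCore H ⊓ normalizer (U : Set G) ≤ U := by
    intro x hx
    obtain ⟨hxσ, hxN⟩ := mem_inf.mp hx
    have hxM : x ∈ M := hcon (mem_inf.mpr ⟨hσH hxσ, hxN⟩)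
    have hxUK : x ∈ U ⊔ K := by
      rw [← hMH]; exact mem_inf.mpr ⟨hxM, hσH hxσ⟩
    have hset : ((U ⊔ K : Subgroup G) : Set G) = (U : Set G) * (K : Set G) :=
      Subgroup.coe_mul_of_right_le_normalizer_left U K hKN
    have hx' : x ∈ (U : Set G) * (K : Set G) := by
      rw [← hset]; exact hxUK
    obtain ⟨u, hu, k, hk, rfl⟩ := hx'
    have hkσ : k ∈ sigmaCore H := by
      have : k = u⁻¹ * (u * k) := by group
      rw [this]
      exact mul_mem (inv_mem (hUσ hu)) hxσ
    have hk1 : k ∈ (sigmaCore H ⊓ K : Subgroup G) := mem_inf.mpr ⟨hkσ, hk⟩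
    rw [hσK, mem_bot] at hk1
    rw [hk1]
    show u * 1 ∈ U
    rw [mul_one]
    exact hu
  -- `U = H_σ` by the normalizer condition
  have hUtop : U.subgroupOf (sigmaCore H) = ⊤ := by
    by_contra hne
    have hlt : U.subgroupOf (sigmaCore H) < ⊤ := lt_top_iff_ne_top.mpr hne
    have hnc' := Group.normalizerCondition_of_isNilpotent (G := ↥(sigmaCore H)) _ hlt
    have hle : normalizer ((U.subgroupOf (sigmaCore H) : Subgroup ↥(sigmaCore H)) : Set ↥(sigmaCore H))
        ≤ U.subgroupOf (sigmaCore H) := by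
      intro x hx
      rw [mem_subgroupOf]
      apply hTU
      refine mem_inf.mpr ⟨x.2, ?_⟩
      rw [mem_normalizer_iff] at hx ⊢
      intro g
      constructor
      · intro hg
        have hgσ : g ∈ sigmaCore H := hUσ hg
        have := (hx ⟨g, hgσ⟩).mp (by rw [mem_subgroupOf]; exact hg)
        rw [mem_subgroupOf] at this
        simpa using this
      · intro hg
        -- `g = x⁻¹ (x g x⁻¹) x`
        have hgσ : g ∈ sigmaCore H := by
          have h2 : (x : G) * g * (x : G)⁻¹ ∈ sigmaCore H := hUσ hg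
          have : g = (x : G)⁻¹ * ((x : G) * g * (x : G)⁻¹) * (x : G) := by group
          rw [this]
          exact mul_mem (mul_mem (inv_mem x.2) h2) x.2
        have := (hx ⟨g, hgσ⟩).mpr (by rw [mem_subgroupOf]; simpa using hg)
        rw [mem_subgroupOf] at this
        exact this
    exact absurd (lt_of_lt_of_le hnc' hle) (lt_irrefl _)
  have hσU : sigmaCore H ≤ U := by
    intro x hx
    have : (⟨x, hx⟩ : ↥(sigmaCore H)) ∈ U.subgroupOf (sigmaCore H) := by
      rw [hUtop]; exact mem_top _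
    rw [mem_subgroupOf] at this
    exact this
  have hUeq : U = sigmaCore H := le_antisymm hUσ hσU
  -- `H ≤ N(U)`
  have hHN : H ≤ normalizer (U : Set G) := by
    rw [hUeq]
    exact Cfsg.Agent.Lib.Helper71.BG11.le_normalizer_sigmaCore H
  have hHM : H ≤ M := fun x hx => hcon (mem_inf.mpr ⟨hx, hHN hx⟩)
  have hMeq : M = H := by
    rcases (c.hH.le_iff).mp hHM with h | h
    · exact absurd h c.hM.1
    · exact h
  apply hnc 1
  rw [hMeq]
  ext x
  simp
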