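import Mathlib
import Cfsg.Agent.Lib.Helper41.Frobenius
import Cfsg.Agent.Lib.Helper01.FCStructB
import Cfsg.Agent.Lib.Helper29.Sup

/-!
# K-S0690-9: cyclic odd Sylow subgroups, at most one involution, order prime to 3 ⇒ solvable
-/

universe u

namespace Cfsg.Agent.Lib.Helper20.Zass

open Subgroup

/-- A finite group all of whose Sylow subgroups are cyclic has a normal subgroup of odd order
containing every element of odd order. -/
theorem exists_normal_odd_of_sylow_cyclic {G₀ : Type u} [Group G₀] [Finite G₀]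
    (hcyc : ∀ (p : ℕ) [Fact p.Prime] (P : Sylow p G₀), IsCyclic P) :
    ∃ K : Subgroup G₀, K.Normal ∧ Odd (Nat.card K) ∧ ∀ x : G₀, Odd (orderOf x) → x ∈ K := by
  by_cases hev : 2 ∣ Nat.card G₀
  · have hmin : (Nat.card G₀).minFac = 2 := (Nat.minFac_eq_two_iff _).mpr hev
    have : Fact (Nat.Prime 2) := ⟨Nat.prime_two⟩
    let P : Sylow 2 G₀ := default
    have hP : IsCyclic P := hcyc 2 P
    have hNC : normalizer ((P : Subgroup G₀) : Set G₀) ≤ centralizer ((P : Subgroup G₀) : Set G₀) :=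
      IsCyclic.normalizer_le_centralizer hmin hP
    have hK : (MonoidHom.transferSylow P hNC).ker.IsComplement' (P : Subgroup G₀) :=
      MonoidHom.ker_transferSylow_isComplement' P hNC
    refine ⟨(MonoidHom.transferSylow P hNC).ker, inferInstance, ?_, ?_⟩
    · have h1 : (P : Subgroup G₀).index = Nat.card (MonoidHom.transferSylow P hNC).ker :=
        hK.index_eq_card
      have h2 : ¬ 2 ∣ (P : Subgroup G₀).index := P.not_dvd_index
      rw [h1] at h2
      exact Nat.odd_iff.mpr (Nat.two_dvd_ne_zero.mp h2)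
    · intro x hx
      exact Cfsg.Agent.Lib.Helper41.mem_of_coprime_of_isComplement' P hK
        (Nat.coprime_two_right.mpr hx)
  · refine ⟨⊤, inferInstance, ?_, fun x _ => mem_top x⟩
    rw [Subgroup.card_top]
    exact Nat.odd_iff.mpr (Nat.two_dvd_ne_zero.mp hev)

/-- Frobenius' condition for the prime `2`. -/
theorem frobCond_two {Y : Type u} [Group Y] [Finite Y]
    (hodd : ∀ p : ℕ, p.Prime → p ≠ 2 → ∀ Q : Subgroup Y, IsPGroup p Q → IsCyclic Q)
    (hinv : ∀ s t : Y, orderOf s = 2 → orderOf t = 2 → s = t)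
    (h3 : ¬ 3 ∣ Nat.card Y) : Cfsg.Agent.Lib.Helper41.FrobCond 2 Y := by
  intro Q hQ g hg hcop
  have : Fact (Nat.Prime 2) := ⟨Nat.prime_two⟩
  set H : Subgroup Y := Q ⊔ zpowers g with hH
  have hQH : Q ≤ H := le_sup_left
  have hgH : g ∈ H := (le_sup_right : zpowers g ≤ H) (mem_zpowers g)
  have hQs : Group.IsSolvable Q := by
    have : Group.IsNilpotent Q := hQ.isNilpotent
    infer_instance
  have hZs : Group.IsSolvable (zpowers g) := inferInstance
  have hsolv : Group.IsSolvable H :=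
    Cfsg.Agent.Lib.Helper29.sup_isSolvable_of_le_normalizer Q (zpowers g)
      ((zpowers_le).mpr hg) hQs hZs
  have hoddH : ∀ p : ℕ, p.Prime → p ≠ 2 → ∀ Q' : Subgroup H, IsPGroup p Q' → IsCyclic Q' := by
    intro p hp hp2 Q' hQ'
    have h1 : IsCyclic (Q'.map H.subtype) := hodd p hp hp2 (Q'.map H.subtype) (hQ'.map _)
    exact isCyclic_of_surjective (Q'.equivMapOfInjective H.subtype H.subtype_injective).symm
      (MulEquiv.surjective _)
  have hinvH : ∀ s t : H, orderOf s = 2 → orderOf t = 2 → s = t := by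
    intro s t hs ht
    apply Subtype.ext
    apply hinv
    · rw [Subgroup.orderOf_coe]; exact hs
    · rw [Subgroup.orderOf_coe]; exact ht
  obtain ⟨G₀, hG₀n, ⟨f, hf⟩, hcyc⟩ := Cfsg.Agent.Lib.Helper01.fc_structure hsolv hoddH hinvH
  obtain ⟨K, hKn, hKodd, hKmem⟩ := exists_normal_odd_of_sylow_cyclic (G₀ := G₀) hcyc
  -- the element `g` in `H`
  let x : H := ⟨g, hgH⟩
  have hxo : orderOf x = orderOf g := by
    rw [← Subgroup.orderOf_coe]
  have hgodd : Odd (orderOf g) := Nat.coprime_two_right.mp hcop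
  have hg3 : ¬ 3 ∣ orderOf g := fun h => h3 (h.trans (orderOf_dvd_natCard g))
  have hx0 : x ∈ G₀ := by
    rw [← hf, MonoidHom.mem_ker]
    have h1 : orderOf (f x) ∣ orderOf g := hxo ▸ orderOf_map_dvd f x
    have h2 : orderOf (f x) ∣ 24 := by
      have := orderOf_dvd_natCard (f x)
      rwa [Nat.card_eq_fintype_card, Fintype.card_perm, Fintype.card_fin] at this
    have h4 : (orderOf (f x)).Coprime 2 := Nat.Coprime.coprime_dvd_left h1 hcop
    have h5 : (orderOf (f x)).Coprime 8 := by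
      have : (8 : ℕ) = 2 ^ 3 := by norm_num
      rw [this]; exact Nat.Coprime.pow_right 3 h4
    have h6 : orderOf (f x) ∣ 3 := by
      have : (24 : ℕ) = 8 * 3 := by norm_num
      rw [this] at h2
      exact Nat.Coprime.dvd_of_dvd_mul_left h5 h2
    have h7 : orderOf (f x) = 1 := by
      rcases (Nat.dvd_prime Nat.prime_three).mp h6 with h | h
      · exact h
      · exact absurd (h ▸ h1) hg3
    exact orderOf_eq_one_iff.mp h7
  rw [mem_centralizer_iff]
  intro q hq
  let qH : H := ⟨q, hQH hq⟩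
  have hy0 : qH * x * qH⁻¹ ∈ G₀ := hG₀n.conj_mem x hx0 qH
  have hyo : orderOf (qH * x * qH⁻¹) = orderOf x := by
    have := MulEquiv.orderOf_eq (MulAut.conj qH) x
    rwa [MulAut.conj_apply] at this
  let x₀ : G₀ := ⟨x, hx0⟩
  let y₀ : G₀ := ⟨qH * x * qH⁻¹, hy0⟩
  have hx₀K : x₀ ∈ K := by
    apply hKmem
    have : orderOf x₀ = orderOf x := by rw [← Subgroup.orderOf_coe]
    rw [this, hxo]; exact hgodd
  have hy₀K : y₀ ∈ K := by
    apply hKmem
    have : orderOf y₀ = orderOf (qH * x * qH⁻¹) := by rw [← Subgroup.orderOf_coe]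
    rw [this, hyo, hxo]; exact hgodd
  have hcK : y₀ * x₀⁻¹ ∈ K := K.mul_mem hy₀K (K.inv_mem hx₀K)
  have hco : Odd (orderOf (y₀ * x₀⁻¹)) :=
    Odd.of_dvd_nat hKodd (Subgroup.orderOf_dvd_natCard K hcK)
  -- the commutator as an element of `Y`
  have hcY : (((y₀ * x₀⁻¹ : G₀) : H) : Y) = q * g * q⁻¹ * g⁻¹ := rfl
  have hco' : Odd (orderOf (q * g * q⁻¹ * g⁻¹)) := by
    rw [← hcY, Subgroup.orderOf_coe, Subgroup.orderOf_coe]; exact hco
  have hcQ : q * g * q⁻¹ * g⁻¹ ∈ Q := by
    have h1 : g * q⁻¹ * g⁻¹ ∈ Q := (mem_normalizer_iff.mp hg q⁻¹).mp (Q.inv_mem hq)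
    have h2 : q * (g * q⁻¹ * g⁻¹) ∈ Q := Q.mul_mem hq h1
    have h3' : q * (g * q⁻¹ * g⁻¹) = q * g * q⁻¹ * g⁻¹ := by group
    rwa [h3'] at h2
  obtain ⟨k, hk⟩ := hQ ⟨q * g * q⁻¹ * g⁻¹, hcQ⟩
  have hk' : (q * g * q⁻¹ * g⁻¹) ^ 2 ^ k = 1 := by
    have := congrArg (Subtype.val) hk
    simpa using this
  have hdvd : orderOf (q * g * q⁻¹ * g⁻¹) ∣ 2 ^ k := orderOf_dvd_of_pow_eq_one hk'
  have hcop2 : (orderOf (q * g * q⁻¹ * g⁻¹)).Coprime (2 ^ k) :=
    Nat.Coprime.pow_right k (Nat.coprime_two_right.mpr hco')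
  have hone : orderOf (q * g * q⁻¹ * g⁻¹) = 1 := Nat.Coprime.eq_one_of_dvd hcop2 hdvd
  have hc1 : q * g * q⁻¹ * g⁻¹ = 1 := orderOf_eq_one_iff.mp hone
  have : q * g = g * q := by
    have h := congrArg (fun z => z * g * q) hc1
    simpa [mul_assoc] using h
  exact this

/-- **K-S0690-9.** A finite group with cyclic odd Sylow subgroups, at most one involution and
order prime to `3` is solvable. -/
theorem solvable_of_three_not_dvd {Y : Type u} [Group Y] [Finite Y]
    (hodd : ∀ p : ℕ, p.Prime → p ≠ 2 → ∀ Q : Subgroup Y, IsPGroup p Q → IsCyclic Q)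
    (hinv : ∀ s t : Y, orderOf s = 2 → orderOf t = 2 → s = t)
    (h3 : ¬ 3 ∣ Nat.card Y) : Group.IsSolvable Y := by
  have : Fact (Nat.Prime 2) := ⟨Nat.prime_two⟩
  obtain ⟨P, N, hNn, hNP⟩ :=
    Cfsg.Agent.Lib.Helper41.hasNormalPComplement_of_frobCond (frobCond_two hodd hinv h3)
  -- `N` has odd order
  have hNodd : ¬ 2 ∣ Nat.card N := by
    have h1 : (P : Subgroup Y).index = Nat.card N := hNP.index_eq_card
    have h2 : ¬ 2 ∣ (P : Subgroup Y).index := P.not_dvd_index
    rwa [h1] at h2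
  -- `N` is a Z-group
  have hZ : IsZGroup N := by
    refine ⟨fun p hp S => ?_⟩
    by_cases hp2 : p = 2
    · subst hp2
      -- trivial Sylow subgroup
      have hS : IsPGroup 2 (S : Subgroup N) := S.isPGroup'
      obtain ⟨k, hk⟩ := hS.exists_card_eq
      have hdvd : Nat.card (S : Subgroup N) ∣ Nat.card N := Subgroup.card_subgroup_dvd_card _
      have hk0 : k = 0 := by
        by_contra hne
        apply hNodd
        refine dvd_trans ?_ hdvd
        rw [hk]
        exact dvd_pow_self 2 hne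
      rw [hk0, pow_zero] at hk
      have : Subsingleton (S : Subgroup N) := (Nat.card_eq_one_iff_unique.mp hk).1
      exact isCyclic_of_subsingleton
    · have h1 : IsCyclic ((S : Subgroup N).map N.subtype) :=
        hodd p hp hp2 ((S : Subgroup N).map N.subtype) (S.isPGroup'.map _)
      exact isCyclic_of_surjective
        ((S : Subgroup N).equivMapOfInjective N.subtype N.subtype_injective).symm
        (MulEquiv.surjective _)
  have hNs : Group.IsSolvable N := inferInstance
  -- the quotient is a `2`-group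
  have hQ2 : IsPGroup 2 (Y ⧸ N) := by
    obtain ⟨k, hk⟩ := (P.isPGroup').exists_card_eq
    have h1 : N.index = Nat.card (P : Subgroup Y) := hNP.symm.index_eq_card
    apply IsPGroup.of_card (n := k)
    rw [← hk, ← h1]
    rfl
  have hQn : Group.IsNilpotent (Y ⧸ N) := hQ2.isNilpotent
  have hQs : Group.IsSolvable (Y ⧸ N) := inferInstance
  exact Group.isSolvable_of_ker_le_range N.subtype (QuotientGroup.mk' N)
    (by rw [QuotientGroup.ker_mk', Subgroup.range_subtype])

end Cfsg.Agent.Lib.Helper20.Zass
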