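import Mathlib
import Cfsg.Prelude.Def_Local
import Cfsg.Agent.Lib.Helper12.GLDefs
import Cfsg.Agent.S0215
import Cfsg.Agent.Lib.Helper41.AG

/-!
# K-S1301-GL-3b: Z* + Alperin–Goldschmidt in the semidirect product `X ⋊ V`
-/

set_option autoImplicit false
universe u

namespace Cfsg.Agent.Lib.Helper20.GL

open Cfsg.Agent.Lib.Helper12.GL SemidirectProduct

section semi

variable {X : Type u} [Group X] {V : Subgroup (MulAut X)}

/-- cardinality of a subgroup of `X ⋊ V` described by its left components -/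
theorem card_of_left {K : Subgroup (X ⋊[V.subtype] V)} {A : Subgroup X}
    (h : ∀ x, x ∈ K ↔ x.left ∈ A) : Nat.card K = Nat.card A * Nat.card V := by
  rw [← Nat.card_prod]
  exact Nat.card_congr
    { toFun := fun k => (⟨k.1.left, (h _).mp k.2⟩, k.1.right)
      invFun := fun p => ⟨⟨p.1.1, p.2⟩, (h _).mpr p.1.2⟩
      left_inv := fun k => rfl
      right_inv := fun p => rfl }

theorem inr_mul_inl_mul_inr_inv (w : V) (y : X) :
    (inr w * inl y * (inr w)⁻¹ : X ⋊[V.subtype] V) = inl ((w : MulAut X) y) := by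
  rw [← map_inv, ← inl_aut]; rfl

/-- conjugating by `inl y`  -/
theorem inl_conj_left (y : X) (d : X ⋊[V.subtype] V) :
    (inl y * d * (inl y)⁻¹).left = y * d.left * ((d.right : MulAut X) y)⁻¹ := by
  simp [mul_left, inv_left, mul_right]

theorem inl_conj_right (y : X) (d : X ⋊[V.subtype] V) :
    (inl y * d * (inl y)⁻¹).right = d.right := by
  simp [mul_right, inv_right]

/-- the subgroup `{h | h.left ∈ A}` of `X ⋊ V` for a `V`-invariant subgroup `A` -/
def leftSub (A : Subgroup X) (hA : ∀ v ∈ V, ∀ a ∈ A, v a ∈ A) : Subgroup (X ⋊[V.subtype] V) where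
  carrier := {h | h.left ∈ A}
  one_mem' := A.one_mem
  mul_mem' := by
    intro a b ha hb
    show (a * b).left ∈ A
    rw [mul_left]
    exact A.mul_mem ha (hA _ a.right.2 _ hb)
  inv_mem' := by
    intro a ha
    show (a⁻¹).left ∈ A
    rw [inv_left]
    exact hA _ (a.right⁻¹).2 _ (A.inv_mem ha)

theorem mem_leftSub {A : Subgroup X} {hA : ∀ v ∈ V, ∀ a ∈ A, v a ∈ A} {h : X ⋊[V.subtype] V} :
    h ∈ leftSub A hA ↔ h.left ∈ A := Iff.rfl

end semi

theorem relIndex_mul_card' {G : Type*} [Group G] {H K : Subgroup G} (h : H ≤ K) :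
    H.relIndex K * Nat.card H = Nat.card K := by
  have := Subgroup.card_mul_index (H.subgroupOf K)
  rw [Nat.card_congr (Subgroup.subgroupOfEquivOfLe h).toEquiv] at this
  rw [Subgroup.relIndex, mul_comm]; exact this

/-- a chain all of whose steps centralize `u` centralizes `u` -/
theorem chain_fix {G : Type*} [Group G] {𝓕 : Set (Subgroup G)} {u : G}
    (h : ∀ D ∈ 𝓕, u ∈ D → ∀ x ∈ Subgroup.normalizer (D : Set G), x * u = u * x) :
    ∀ (L : List (Subgroup G × G)), Cfsg.Agent.Lib.Helper41.Chain 𝓕 {u} L →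
      (L.map Prod.snd).prod * u = u * (L.map Prod.snd).prod := by
  intro L
  induction L with
  | nil => intro _; simp
  | cons a L ih =>
    obtain ⟨D, x⟩ := a
    intro hc
    obtain ⟨hD, hx, hsub, hrest⟩ := hc
    have hxu : x * u = u * x := h D hD (hsub rfl) x hx
    have hr : Cfsg.Agent.Lib.Helper41.rconj x {u} = {u} := by
      unfold Cfsg.Agent.Lib.Helper41.rconj
      rw [Set.image_singleton]
      congr 1
      rw [mul_assoc, ← hxu, ← mul_assoc, inv_mul_cancel, one_mul]
    rw [hr] at hrest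
    have := ih hrest
    simp only [List.map_cons, List.prod_cons]
    rw [mul_assoc, this, ← mul_assoc, hxu, mul_assoc]

section key

variable {X : Type u} [Group X] [Finite X] {V : Subgroup (MulAut X)}

/-- elements of `N_H(D)` centralize `inr V`, for `D` in the Alperin–Goldschmidt family -/
theorem normalizer_commute (S : Sylow 2 X)
    (hVc : ∀ a ∈ V, ∀ b ∈ V, a * b = b * a) (hVS : ∀ v ∈ V, ∀ s ∈ S, v s = s)
    (hloc : ∀ Q : Subgroup X, Q ≤ (S : Subgroup X) →
        ¬ 2 ∣ ((S : Subgroup X) ⊓ locSub Q V).relIndex (locSub Q V) →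
        ∀ y ∈ locSub Q V, ∀ v ∈ V, v y = y)
    (hSinv : ∀ v ∈ V, ∀ a ∈ (S : Subgroup X), v a ∈ (S : Subgroup X))
    (D : Subgroup (X ⋊[V.subtype] V)) (hDT : D ≤ leftSub (S : Subgroup X) hSinv)
    (hidx : ¬ 2 ∣ (leftSub (S : Subgroup X) hSinv ⊓ Subgroup.normalizer (D : Set _)).relIndex
      (Subgroup.normalizer (D : Set (X ⋊[V.subtype] V))))
    (hcen : leftSub (S : Subgroup X) hSinv ⊓ Subgroup.centralizer (D : Set _) ≤ D) :
    ∀ x ∈ Subgroup.normalizer (D : Set (X ⋊[V.subtype] V)), ∀ w : V, x * inr w = inr w * x := by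
  classical
  have : Finite (X ⋊[V.subtype] V) := Finite.of_equiv _ SemidirectProduct.equivProd.symm
  set T₀ := leftSub (S : Subgroup X) hSinv with hT₀
  -- 1. inr w ∈ T₀
  have hinrT : ∀ w : V, (inr w : X ⋊[V.subtype] V) ∈ T₀ := fun w => by
    show (inr w : X ⋊[V.subtype] V).left ∈ (S : Subgroup X)
    rw [left_inr]; exact Subgroup.one_mem _
  -- 2. inr w is central in T₀
  have hinrZ : ∀ w : V, ∀ t ∈ T₀, t * (inr w : X ⋊[V.subtype] V) = inr w * t := by
    intro w t ht
    have htS : t.left ∈ (S : Subgroup X) := ht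
    apply SemidirectProduct.ext
    · simp only [mul_left, left_inr, right_inr, map_one, mul_one, one_mul, Subgroup.coe_subtype]
      exact (hVS w w.2 _ htS).symm
    · simp only [mul_right, right_inr]
      exact Subtype.ext (show ((t.right * w : V) : MulAut X) = ((w * t.right : V) : MulAut X) from
        hVc _ t.right.2 _ w.2)
  -- 3. inr w ∈ D
  have hinrD : ∀ w : V, (inr w : X ⋊[V.subtype] V) ∈ D := fun w => by
    apply hcen
    refine Subgroup.mem_inf.mpr ⟨hinrT w, ?_⟩
    rw [Subgroup.mem_centralizer_iff]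
    intro d hd
    exact hinrZ w d (hDT hd)
  -- 4. Q
  set Q : Subgroup X := D.comap (inl : X →* X ⋊[V.subtype] V) with hQ
  have hQS : Q ≤ (S : Subgroup X) := by
    intro q hq
    have : (inl q : X ⋊[V.subtype] V) ∈ T₀ := hDT hq
    exact this
  -- 5. D by left components
  have hDQ : ∀ d : X ⋊[V.subtype] V, d ∈ D ↔ d.left ∈ Q := by
    intro d
    have hd : inl d.left * inr d.right = d := inl_left_mul_inr_right d
    constructor
    · intro h
      show inl d.left ∈ D
      have : inl d.left = d * (inr d.right)⁻¹ := by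
        rw [eq_mul_inv_iff_mul_eq]; exact hd
      rw [this]
      exact D.mul_mem h (D.inv_mem (hinrD _))
    · intro h
      rw [← hd]
      exact D.mul_mem h (hinrD _)
  -- 6. normalizer versus locSub
  have hNL : ∀ y : X, (inl y : X ⋊[V.subtype] V) ∈ Subgroup.normalizer (D : Set _) ↔
      y ∈ locSub Q V := by
    intro y
    constructor
    · intro hn
      rw [Subgroup.mem_normalizer_iff] at hn
      refine ⟨?_, ?_⟩
      · rw [Subgroup.mem_normalizer_iff]
        intro q
        have := hn (inl q)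
        rw [← map_inv, ← map_mul, ← map_mul] at this
        exact this
      · intro w hw
        have h1 := (hn (inr ⟨w, hw⟩)).mp (hinrD _)
        have h2 := (hDQ _).mp h1
        rw [inl_conj_left] at h2
        simpa using h2
    · rintro ⟨hyN, hyV⟩
      rw [Subgroup.mem_normalizer_iff]
      intro d
      rw [hDQ, hDQ, inl_conj_left]
      have h1 : y * d.left * ((d.right : MulAut X) y)⁻¹ =
          (y * d.left * y⁻¹) * (y * ((d.right : MulAut X) y)⁻¹) := by group
      rw [h1, Subgroup.mul_mem_cancel_right _ (hyV _ d.right.2)]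
      exact Subgroup.mem_normalizer_iff.mp hyN d.left
  -- 7. N by left components
  have hN : ∀ h : X ⋊[V.subtype] V, h ∈ Subgroup.normalizer (D : Set _) ↔ h.left ∈ locSub Q V := by
    intro h
    rw [← hNL]
    have hd : inl h.left * inr h.right = h := inl_left_mul_inr_right h
    have hr : (inr h.right : X ⋊[V.subtype] V) ∈ Subgroup.normalizer (D : Set _) :=
      Subgroup.le_normalizer (hinrD _)
    constructor
    · intro hh
      have : inl h.left = h * (inr h.right)⁻¹ := by
        rw [eq_mul_inv_iff_mul_eq]; exact hd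
      rw [this]
      exact Subgroup.mul_mem _ hh (Subgroup.inv_mem _ hr)
    · intro hh
      rw [← hd]
      exact Subgroup.mul_mem _ hh hr
  have hTN : ∀ h : X ⋊[V.subtype] V, h ∈ T₀ ⊓ Subgroup.normalizer (D : Set _) ↔
      h.left ∈ (S : Subgroup X) ⊓ locSub Q V := by
    intro h
    rw [Subgroup.mem_inf, Subgroup.mem_inf, hN]
    exact Iff.rfl
  -- 9. index computation
  have hidxX : ¬ 2 ∣ ((S : Subgroup X) ⊓ locSub Q V).relIndex (locSub Q V) := by
    have c1 := card_of_left hN
    have c2 := card_of_left hTN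
    have r1 := relIndex_mul_card' (inf_le_right :
      T₀ ⊓ Subgroup.normalizer (D : Set _) ≤ Subgroup.normalizer (D : Set _))
    have r2 := relIndex_mul_card' (inf_le_right :
      (S : Subgroup X) ⊓ locSub Q V ≤ locSub Q V)
    have hVpos : 0 < Nat.card V := Nat.card_pos
    have hpos : 0 < Nat.card ((S : Subgroup X) ⊓ locSub Q V : Subgroup X) := Nat.card_pos
    have : (T₀ ⊓ Subgroup.normalizer (D : Set _)).relIndex (Subgroup.normalizer (D : Set _)) =
        ((S : Subgroup X) ⊓ locSub Q V).relIndex (locSub Q V) := by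
      rw [c1, c2, ← r2] at r1
      have h3 : (T₀ ⊓ Subgroup.normalizer (D : Set _)).relIndex (Subgroup.normalizer (D : Set _)) *
          (Nat.card ((S : Subgroup X) ⊓ locSub Q V : Subgroup X) * Nat.card V) =
          ((S : Subgroup X) ⊓ locSub Q V).relIndex (locSub Q V) *
          (Nat.card ((S : Subgroup X) ⊓ locSub Q V : Subgroup X) * Nat.card V) := by
        rw [r1]; ring
      exact Nat.eq_of_mul_eq_mul_right (Nat.mul_pos hpos hVpos) h3
    rw [← this]
    exact hidx
  -- 10. fixed points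
  have hfix := hloc Q hQS hidxX
  -- 11. conclusion
  intro x hx w
  have hxL : x.left ∈ locSub Q V := (hN x).mp hx
  have hd : inl x.left * inr x.right = x := inl_left_mul_inr_right x
  have h1 : (inr w * inl x.left : X ⋊[V.subtype] V) = inl x.left * inr w := by
    have := inr_mul_inl_mul_inr_inv w x.left
    rw [hfix _ hxL _ w.2, mul_inv_eq_iff_eq_mul] at this
    exact this
  have h2 : (inr w * inr x.right : X ⋊[V.subtype] V) = inr x.right * inr w := by
    rw [← map_mul, ← map_mul]
    congr 1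
    exact Subtype.ext (show ((w * x.right : V) : MulAut X) = ((x.right * w : V) : MulAut X) from
      hVc _ w.2 _ x.right.2)
  rw [← hd, mul_assoc, ← h2, ← mul_assoc, ← mul_assoc, h1]

end key

/-- **K-S1301-GL-3b.** -/
theorem eq_bot_of_local_fix (X : Type u) [Group X] [Finite X]
    (hO : Cfsg.pPrimeCore 2 X = ⊥) (S : Sylow 2 X) (V : Subgroup (MulAut X))
    (hV2 : ∀ v ∈ V, v * v = 1) (hVS : ∀ v ∈ V, ∀ s ∈ S, v s = s)
    (hloc : ∀ Q : Subgroup X, Q ≤ (S : Subgroup X) →
        ¬ 2 ∣ ((S : Subgroup X) ⊓ locSub Q V).relIndex (locSub Q V) →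
        ∀ y ∈ locSub Q V, ∀ v ∈ V, v y = y) : V = ⊥ := by
  classical
  have hprime : Fact (Nat.Prime 2) := ⟨Nat.prime_two⟩
  rw [Subgroup.eq_bot_iff_forall]
  intro v hv
  by_contra hv1
  -- `V` is abelian
  have hinv : ∀ a ∈ V, a⁻¹ = a := fun a ha => inv_eq_of_mul_eq_one_left (hV2 a ha)
  have hVc : ∀ a ∈ V, ∀ b ∈ V, a * b = b * a := by
    intro a ha b hb
    have h1 := hinv (a * b) (V.mul_mem ha hb)
    rw [mul_inv_rev, hinv a ha, hinv b hb] at h1
    exact h1.symm
  have hfin : Finite (X ⋊[V.subtype] V) := Finite.of_equiv _ SemidirectProduct.equivProd.symm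
  have hSinv : ∀ w ∈ V, ∀ a ∈ (S : Subgroup X), w a ∈ (S : Subgroup X) := by
    intro w hw a ha
    rw [hVS w hw a ha]; exact ha
  set T₀ : Subgroup (X ⋊[V.subtype] V) := leftSub (S : Subgroup X) hSinv with hT₀
  -- cardinalities
  have cT : Nat.card T₀ = Nat.card (S : Subgroup X) * Nat.card V :=
    card_of_left (fun x => Iff.rfl)
  have cH : Nat.card (X ⋊[V.subtype] V) = Nat.card X * Nat.card V := SemidirectProduct.card
  have hV2g : IsPGroup 2 V := by
    intro w
    refine ⟨1, ?_⟩
    rw [pow_one, pow_two]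
    exact Subtype.ext (hV2 w w.2)
  obtain ⟨a, ha⟩ := (S.isPGroup').exists_card_eq
  obtain ⟨b, hb⟩ := hV2g.exists_card_eq
  have hT2 : IsPGroup 2 T₀ := by
    apply IsPGroup.of_card (n := a + b)
    rw [cT, ha, hb, pow_add]
  have hidxT : ¬ 2 ∣ T₀.index := by
    have h1 := Subgroup.card_mul_index T₀
    have h2 := Subgroup.card_mul_index (S : Subgroup X)
    have hVpos : 0 < Nat.card V := Nat.card_pos
    have hSpos : 0 < Nat.card (S : Subgroup X) := Nat.card_pos
    have : T₀.index = (S : Subgroup X).index := by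
      rw [cT, cH, ← h2] at h1
      have h3 : T₀.index * (Nat.card (S : Subgroup X) * Nat.card V) =
          (S : Subgroup X).index * (Nat.card (S : Subgroup X) * Nat.card V) := by
        rw [mul_comm, h1]; ring
      exact Nat.eq_of_mul_eq_mul_right (Nat.mul_pos hSpos hVpos) h3
    rw [this]
    exact S.not_dvd_index
  let T : Sylow 2 (X ⋊[V.subtype] V) := hT2.toSylow hidxT
  have hTmem : ∀ h : X ⋊[V.subtype] V, h ∈ T ↔ h ∈ T₀ := fun h => IsPGroup.mem_toSylow hT2 hidxT
  have hTcoe : (T : Subgroup (X ⋊[V.subtype] V)) = T₀ := by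
    ext h; exact hTmem h
  -- the involution
  let u : X ⋊[V.subtype] V := inr ⟨v, hv⟩
  have hu1 : u ≠ 1 := by
    intro h
    have : (⟨v, hv⟩ : V) = 1 := inr_injective (by rw [map_one]; exact h)
    exact hv1 (congrArg Subtype.val this)
  have hu2 : u ^ 2 = 1 := by
    show (inr ⟨v, hv⟩ : X ⋊[V.subtype] V) ^ 2 = 1
    rw [← map_pow, pow_two]
    have : (⟨v, hv⟩ : V) * ⟨v, hv⟩ = 1 := Subtype.ext (hV2 v hv)
    rw [this, map_one]
  have huo : orderOf u = 2 := orderOf_eq_prime hu2 hu1
  have huT : u ∈ T := by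
    rw [hTmem]
    show (inr ⟨v, hv⟩ : X ⋊[V.subtype] V).left ∈ (S : Subgroup X)
    rw [left_inr]; exact Subgroup.one_mem _
  -- steps of Alperin–Goldschmidt chains centralize `u`
  have hstep : ∀ D ∈ Cfsg.Agent.Lib.Helper41.agFamily 2 T, u ∈ D →
      ∀ x ∈ Subgroup.normalizer (D : Set (X ⋊[V.subtype] V)), x * u = u * x := by
    intro D hD _ x hx
    obtain ⟨hDT, hidx, hcen, _⟩ := hD
    rw [hTcoe] at hDT hidx hcen
    exact normalizer_commute S hVc hVS hloc hSinv D hDT hidx hcen x hx ⟨v, hv⟩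
  -- isolation
  have hiso : ∀ g : X ⋊[V.subtype] V, g * u * g⁻¹ ∈ T → g * u * g⁻¹ = u := by
    intro g hg
    have hA : ({u} : Set (X ⋊[V.subtype] V)) ⊆ (T : Subgroup (X ⋊[V.subtype] V)) := by
      intro z hz
      rw [Set.mem_singleton_iff] at hz
      rw [hz]; exact huT
    have hgA : Cfsg.Agent.Lib.Helper41.rconj g⁻¹ ({u} : Set (X ⋊[V.subtype] V)) ⊆
        (T : Subgroup (X ⋊[V.subtype] V)) := by
      rintro z ⟨z', hz', rfl⟩
      rw [Set.mem_singleton_iff] at hz'
      rw [hz', inv_inv]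
      exact hg
    obtain ⟨g', ⟨L, hchain, hprod⟩, heq⟩ := Cfsg.Agent.Lib.Helper41.ag_reach T hA hgA
    have h1 := chain_fix hstep L hchain
    rw [hprod] at h1
    have h2 := heq u rfl
    rw [inv_inv] at h2
    rw [← h2, mul_assoc, ← h1, ← mul_assoc, inv_mul_cancel, one_mul]
  -- Z*
  obtain ⟨N, hNn, hNodd, hN⟩ := Cfsg.Agent.S0215.result T u huo huT hiso
  have hM : N.comap (inl : X →* X ⋊[V.subtype] V) ≤ Cfsg.pPrimeCore 2 X := by
    have hMn : (N.comap (inl : X →* X ⋊[V.subtype] V)).Normal := hNn.comap _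
    apply le_sSup
    refine ⟨hMn, ?_⟩
    have hdvd : Nat.card (N.comap (inl : X →* X ⋊[V.subtype] V)) ∣ Nat.card N :=
      Subgroup.card_comap_dvd_of_injective N _ inl_injective
    exact Nat.Coprime.coprime_dvd_left hdvd (Nat.coprime_two_right.mpr hNodd)
  rw [hO] at hM
  apply hv1
  ext x
  have h1 := hN (inl x)
  have h2 : u * inl x * u⁻¹ * (inl x)⁻¹ = inl (v x * x⁻¹) := by
    show (inr ⟨v, hv⟩ : X ⋊[V.subtype] V) * inl x * (inr ⟨v, hv⟩)⁻¹ * (inl x)⁻¹ = inl (v x * x⁻¹)
    rw [inr_mul_inl_mul_inr_inv, ← map_inv, ← map_mul]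
  rw [h2] at h1
  have h3 : v x * x⁻¹ ∈ (⊥ : Subgroup X) := hM h1
  rw [Subgroup.mem_bot, mul_inv_eq_one] at h3
  rw [h3]; rfl

end Cfsg.Agent.Lib.Helper20.GL
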