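import Mathlib
import Cfsg.Agent.S1409
import Cfsg.Agent.Lib.Helper15.BG139Defs
import Cfsg.Agent.Lib.Helper31.BG12a
import Cfsg.Agent.Lib.Helper31.BG134Glue
import Cfsg.Agent.Lib.Helper58.BG134CJ
import Cfsg.Agent.Lib.Helper54.BG134A3a
import Cfsg.Agent.Lib.Helper71.BG10Sub
import Cfsg.Agent.Lib.Helper12.CNMaxSub
import Cfsg.Agent.Lib.Helper58.BG139K2c
import Cfsg.Agent.Lib.Helper01.BG134T3N
import Cfsg.Agent.Lib.Helper21.BG14R1
import Cfsg.Agent.Lib.Helper68.BG14D1tail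

/-!
# S1353 pack (architect helper58), keystone 135306 K-S1353-D1 `tau1_nonregular_of_tau3`
(steps (0)-(6); the tail (7)-(9) is helper68's `d1_tail`)
-/

set_option autoImplicit false
set_option linter.unusedSectionVars false
set_option linter.unusedVariables false
set_option linter.style.haveILetI false

namespace Cfsg.Agent.Lib.Helper20.BG14

open Cfsg Cfsg.Agent.Lib.Helper55 Cfsg.Agent.Lib.Helper31.BG134 Cfsg.Agent.Lib.Helper15.BG139

variable {G : Type*} [Group G] [Finite G]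

/-- `H` is not conjugate to `M` when `s ∈ τ₃(M)` and `s ∈ σ(H) ∪ τ₂(H)`. -/
theorem d1_not_conj_of_tau3 {M H : Subgroup G} {s : ℕ} [Fact s.Prime] (hs : s ∈ tau3 M)
    (hH : s ∈ sigma H ∨ s ∈ tau2 H) : ∀ g : G, cj g M ≠ H := by
  intro g hg
  subst hg
  rcases hH with h | h
  · apply hs.2.1
    have := Cfsg.Agent.Lib.Helper31.BG12.mem_sigma_cj h g⁻¹
    rwa [cj_inv_cj] at this
  · exact h.2.2.2 (Cfsg.Agent.Lib.Helper01.BGNarrow.pRankLE_of_mulEquiv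
      (Cfsg.Agent.Lib.Helper58.BG134.cjEquiv g M) hs.2.2.2)

theorem tau1_nonregular_of_tau3 (hG : IsMinSimpleOddOrder G) {M E S₀ P : Subgroup G}
    (hM : IsCoatom M) (hE : IsComplIn E (sigmaCore M) M) {s : ℕ} (hs : s ∈ tau3 M)
    (hS₀E : S₀ ≤ E) (hS₀c : Nat.card S₀ = s)
    (hC₃ : sigmaCore M ⊓ Subgroup.centralizer (S₀ : Set G) ≠ ⊥) {p : ℕ} (hp : p ∈ tau1 M)
    (hPE : P ≤ E) (hPc : Nat.card P = p)
    (hpa : ∀ L EL EL₁ : Subgroup G, IsCoatom L → IsComplIn EL (sigmaCore L) L →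
      IsPiHallOf (tau1 L) EL₁ EL → PrimeAct L EL₁)
    (hD6 : ∀ (H : Subgroup G) (p' : ℕ) (P' : Subgroup G), IsCoatom H → (∀ g : G, cj g M ≠ H) →
      E ≤ H → E ≤ Subgroup.normalizer (S₀ : Set G) → Subgroup.normalizer (S₀ : Set G) ≤ H →
      s ∈ tau2 H → p'.Prime → p' ∉ sigma H → P' ≤ E → Nat.card P' = p' →
      sigmaCore M ⊓ Subgroup.centralizer (S₀ : Set G) ≤ Subgroup.centralizer (P' : Set G)) :
    sigmaCore M ⊓ Subgroup.centralizer (P : Set G) ≠ ⊥ := by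
  intro hCP
  have hsp : s.Prime := hs.1
  haveI : Fact s.Prime := ⟨hsp⟩
  have hpp : p.Prime := hp.1
  have hEM : E ≤ M := hE.1
  -- (0) `τ₂(M) = ∅`
  have hτ2 : ∀ q, q ∉ tau2 M := by
    intro q hq
    exact hC₃ (Cfsg.Agent.Lib.Helper21.BG14.tau3_regular_of_tau2 hG hM hE hq hs hS₀E hS₀c)
  obtain ⟨E₁, E₃, hE₁, hE₁c, hPE₁, hE₃, hE₃c, hE₃d, hE₃n, hfac⟩ :=
    Cfsg.Agent.Lib.Helper54.BG134.exists_hall_tau1_tau3 hG hM hE hp hPE hPc
      (fun t _ _ => hτ2 t)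
  have hS₀E₃ : S₀ ≤ E₃ := by
    apply Cfsg.Agent.Lib.Helper71.BG10.le_of_isPiHallOf_normal hE₃ hE₃n hS₀E
    intro t ht hdvd
    rw [hS₀c] at hdvd
    have : t = s := (Nat.prime_dvd_prime_iff_eq ht hsp).mp hdvd
    rw [this]
    exact hs
  -- (1) `E ≤ N_G(S₀) ≤ H`
  have hES : E ≤ Subgroup.normalizer (S₀ : Set G) :=
    hE₃n.trans (Cfsg.Agent.Lib.Helper01.BG134.normalizer_le_normalizer_of_isCyclic E₃ S₀ hE₃c hS₀E₃)
  have hS₀1 : S₀ ≠ ⊥ := by
    intro h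
    rw [h, Subgroup.card_bot] at hS₀c
    exact hsp.one_lt.ne hS₀c
  have hS₀top : S₀ ≠ ⊤ := by
    intro h
    apply hM.1
    rw [eq_top_iff, ← h]
    exact hS₀E.trans hEM
  obtain ⟨H, hH, hNH⟩ := Cfsg.Agent.Lib.Helper12.CNMaxSub.exists_coatom_normalizer_le hG hS₀1 hS₀top
  have hEH : E ≤ H := hES.trans hNH
  have hS₀H : S₀ ≤ H := hS₀E.trans hEH
  -- (2) `s ∈ σ(H)` or `s ∈ τ₂(H)`
  have hcase : s ∈ sigma H ∨ s ∈ tau2 H := by
    by_cases hsσ : s ∈ sigma H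
    · left; exact hsσ
    · right
      obtain ⟨⟨h2, h1⟩, -, -⟩ := Cfsg.Agent.S1409.result hG H hH s hsσ S₀ hS₀c hNH
      exact ⟨hsp, hsσ, h2, h1⟩
  have hnc : ∀ g : G, cj g M ≠ H := d1_not_conj_of_tau3 hs hcase
  have hs1H : s ∉ tau1 H := by
    intro h
    rcases hcase with hsσ | hs2
    · exact h.2.1 hsσ
    · exact hs2.2.2.2 h.2.2.2.2
  -- (3) `M_σ ∩ H = C_{M_σ}(S₀)`
  have h131 := Cfsg.Agent.Lib.Helper31.BG134.t131 hG
  have hC : sigmaCore M ⊓ H = sigmaCore M ⊓ Subgroup.centralizer (S₀ : Set G) := by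
    apply le_antisymm
    · have hS₀p : IsPGroup s S₀ := IsPGroup.of_card (n := 1) (by rw [hS₀c, pow_one])
      have h1 := h131 M H hM hH hnc s hs.2.1 S₀ hS₀p (hS₀E.trans hEM) hS₀H hs1H
      intro z hz
      refine ⟨hz.1, ?_⟩
      show z ∈ Subgroup.centralizer (S₀ : Set G)
      rw [Subgroup.mem_centralizer_iff]
      intro y hy
      exact (Subgroup.mem_centralizer_iff.mp (h1 hy) z hz).symm
    · exact le_inf inf_le_left
        (inf_le_right.trans ((Subgroup.centralizer_le_normalizer _).trans hNH))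
  -- (4) `E₁` is regular on `M_σ`
  have hpaM : PrimeAct M E₁ := hpa M E E₁ hM hE hE₁
  have h4 : ∀ x ∈ E₁, x ≠ 1 → sigmaCore M ⊓ Subgroup.centralizer ({x} : Set G) = ⊥ := by
    intro x hx hx1
    rw [eq_bot_iff, ← hCP]
    refine le_inf inf_le_left ((hpaM x hx hx1).trans ?_)
    exact Subgroup.centralizer_le (by exact_mod_cast hPE₁)
  -- (5) the primes of `|E₁|` are in `τ₁(H)`
  have h5 : ∀ u : ℕ, u.Prime → u ∣ Nat.card E₁ → u ∈ tau1 H := by
    intro u hu hdvd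
    by_contra hu1
    haveI : Fact u.Prime := ⟨hu⟩
    have huM : u ∈ tau1 M := hE₁.2.1 u hu hdvd
    obtain ⟨x, hxE₁, hxo⟩ := Cfsg.Agent.Lib.Helper58.BG139.exists_mem_orderOf_eq_of_dvd_card hu hdvd
    have hx1 : x ≠ 1 := by
      intro h
      rw [h, orderOf_one] at hxo
      exact hu.one_lt.ne hxo
    have hxE : x ∈ E := hE₁.1 hxE₁
    have hUp : IsPGroup u (Subgroup.zpowers x) :=
      IsPGroup.of_card (n := 1) (by rw [Nat.card_zpowers, hxo, pow_one])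
    have hUE : Subgroup.zpowers x ≤ E := (Subgroup.zpowers_le).mpr hxE
    have h1 := h131 M H hM hH hnc u huM.2.1 (Subgroup.zpowers x) hUp (hUE.trans hEM)
      (hUE.trans hEH) hu1
    apply hC₃
    rw [eq_bot_iff, ← h4 x hxE₁ hx1, ← hC]
    refine le_inf inf_le_left ?_
    intro z hz
    rw [Subgroup.mem_centralizer_iff]
    intro y hy
    rw [Set.mem_singleton_iff] at hy
    subst hy
    exact (Subgroup.mem_centralizer_iff.mp (h1 (Subgroup.mem_zpowers y)) z hz).symm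
  have hpE₁ : p ∣ Nat.card E₁ := by
    rw [← hPc]
    exact Subgroup.card_dvd_of_le hPE₁
  have hpH : p ∉ sigma H := (h5 p hpp hpE₁).2.1
  -- (6) `s ∉ τ₂(H)`
  have hsH : s ∈ sigma H := by
    rcases hcase with h | hs2
    · exact h
    · exfalso
      have h6 := hD6 H p P hH hnc hEH hES hNH hs2 hpp hpH hPE hPc
      apply hC₃
      rw [eq_bot_iff, ← hCP]
      exact le_inf inf_le_left h6
  -- (7)-(9)
  exact Cfsg.Agent.Lib.Helper68.BG14.d1_tail hG hM hE hE₁ hE₃ hτ2 hs hS₀E hS₀c hH hEH hNH hsH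
    h5 h4 (fun EH EH₁ h1 h2 => hpa H EH EH₁ hH h1 h2)

end Cfsg.Agent.Lib.Helper20.BG14
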