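import Mathlib
import Cfsg.Agent.Lib.Helper20.BSGroup
import Cfsg.Agent.Lib.Helper20.SylowNormal
import Cfsg.Agent.Lib.Helper42.PPrimeCore

/-!
# Groups with a quaternion Sylow 2-subgroup of order 8: the centralizer of an element of order 4
(helper20)
-/

set_option autoImplicit false
set_option linter.unusedSectionVars false

namespace Cfsg.Agent.Lib.Helper20

open QuaternionGroup

theorem q8_centralizer : ∀ x y : QuaternionGroup 2, x ^ 2 ≠ 1 → x * y = y * x →
    (y = 1 ∨ y = x ∨ y = x ^ 2 ∨ y = x ^ 3) := by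
  decide

theorem q8_pow_four : ∀ x : QuaternionGroup 2, x ^ 4 = 1 := by
  decide

section

variable {G : Type*} [Group G] (S : Subgroup G) (e : S ≃* QuaternionGroup 2)
include e

theorem q8_pow_four_of_mem (s : G) (hs : s ∈ S) : s ^ 4 = 1 := by
  have h := q8_pow_four (e ⟨s, hs⟩)
  rw [← map_pow, ← map_one e] at h
  have h2 := e.injective h
  exact congrArg Subtype.val h2

theorem q8_mem_zpowers_of_commute (x y : G) (hx : x ∈ S) (hy : y ∈ S) (hx2 : x ^ 2 ≠ 1)
    (hc : x * y = y * x) : y ∈ Subgroup.zpowers x := by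
  have h1 : (e ⟨x, hx⟩) ^ 2 ≠ 1 := by
    intro h
    rw [← map_pow, ← map_one e] at h
    exact hx2 (congrArg Subtype.val (e.injective h))
  have h2 : e ⟨x, hx⟩ * e ⟨y, hy⟩ = e ⟨y, hy⟩ * e ⟨x, hx⟩ := by
    rw [← map_mul, ← map_mul]
    congr 1
    exact Subtype.ext hc
  have key : ∀ k : ℕ, e ⟨y, hy⟩ = (e ⟨x, hx⟩) ^ k → y = x ^ k := by
    intro k hk
    rw [← map_pow] at hk
    exact congrArg Subtype.val (e.injective hk)
  rcases q8_centralizer _ _ h1 h2 with h | h | h | h
  · have := key 0 (by rw [pow_zero]; exact h)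
    rw [this]; exact Subgroup.npow_mem_zpowers x 0
  · have := key 1 (by rw [pow_one]; exact h)
    rw [this]; exact Subgroup.npow_mem_zpowers x 1
  · rw [key 2 h]; exact Subgroup.npow_mem_zpowers x 2
  · rw [key 3 h]; exact Subgroup.npow_mem_zpowers x 3

end

section

variable {G : Type*} [Group G] [Finite G] (S : Sylow 2 G)
  (e : (S : Subgroup G) ≃* QuaternionGroup 2)
include e

/-- a 2-subgroup centralizing an element `x` of order four and containing it lies in `⟨x⟩` -/
theorem q8_two_subgroup_le_zpowers (x : G) (hx2 : x ^ 2 ≠ 1) (T : Subgroup G)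
    (hT : IsPGroup 2 T) (hxT : x ∈ T) (hcomm : ∀ t ∈ T, x * t = t * x) :
    T ≤ Subgroup.zpowers x := by
  have : Fact (Nat.Prime 2) := ⟨Nat.prime_two⟩
  obtain ⟨P, hP⟩ := hT.exists_le_sylow
  obtain ⟨g, hg⟩ := MulAction.exists_smul_eq G S P
  intro t ht
  have hmem : ∀ s ∈ T, g⁻¹ * s * g ∈ (S : Subgroup G) := by
    intro s hs
    have h1 : s ∈ (P : Subgroup G) := hP hs
    rw [← hg, Sylow.coe_subgroup_smul, Subgroup.mem_pointwise_smul_iff_inv_smul_mem] at h1
    simpa [MulAut.smul_def, MulAut.conj_apply] using h1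
  have h1 := q8_mem_zpowers_of_commute (S : Subgroup G) e (g⁻¹ * x * g) (g⁻¹ * t * g)
    (hmem x hxT) (hmem t ht) (by
      intro h
      apply hx2
      have : (g⁻¹ * x * g) ^ 2 = g⁻¹ * x ^ 2 * g := by
        rw [sq, sq]; group
      rw [this] at h
      have h3 : x ^ 2 = g * (g⁻¹ * x ^ 2 * g) * g⁻¹ := by group
      rw [h3, h]; group) (by
      have := hcomm t ht
      calc g⁻¹ * x * g * (g⁻¹ * t * g) = g⁻¹ * (x * t) * g := by group
        _ = g⁻¹ * (t * x) * g := by rw [this]
        _ = g⁻¹ * t * g * (g⁻¹ * x * g) := by group)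
  obtain ⟨k, hk⟩ := Subgroup.mem_zpowers_iff.mp h1
  rw [Subgroup.mem_zpowers_iff]
  refine ⟨k, ?_⟩
  have h2 : (g⁻¹ * x * g) ^ k = g⁻¹ * x ^ k * g := by
    have := map_zpow (MulAut.conj g⁻¹) x k
    simpa [MulAut.conj_apply] using this.symm
  rw [h2] at hk
  have h3 : x ^ k = g * (g⁻¹ * x ^ k * g) * g⁻¹ := by group
  rw [h3, hk]; group


theorem bsA_sq_ne_one : bsA (S : Subgroup G) e ^ 2 ≠ 1 := by
  intro h
  have h1 := orderOf_dvd_of_pow_eq_one h
  rw [orderOf_bsA] at h1
  omega

theorem bsA_pow_four : bsA (S : Subgroup G) e ^ 4 = 1 := by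
  have := pow_orderOf_eq_one (bsA (S : Subgroup G) e)
  rwa [orderOf_bsA] at this

/-- the centralizer of an element `x` of order four is `K ⋊ ⟨x⟩` with `K` of odd order -/
theorem q8_exists_complement' (x : G) (hx : orderOf x = 4) :
    ∃ K : Subgroup (Subgroup.centralizer ({x} : Set G)),
      K.Normal ∧ Odd (Nat.card K) ∧
      K ⊔ Subgroup.zpowers (⟨x, Subgroup.mem_centralizer_singleton_iff.mpr rfl⟩ :
          Subgroup.centralizer ({x} : Set G)) = ⊤ ∧
      ∀ c : Subgroup.centralizer ({x} : Set G), Odd (orderOf c) → c ∈ K := by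
  have : Fact (Nat.Prime 2) := ⟨Nat.prime_two⟩
  have hx2 : x ^ 2 ≠ 1 := by
    intro h
    have h1 := orderOf_dvd_of_pow_eq_one h
    rw [hx] at h1
    omega
  set C := Subgroup.centralizer ({x} : Set G) with hC
  set a' : C := ⟨x, Subgroup.mem_centralizer_singleton_iff.mpr rfl⟩ with ha'
  have hord : orderOf a' = 4 := by
    rw [Subgroup.orderOf_mk, hx]
  set R : Subgroup C := Subgroup.zpowers a' with hR
  have hRp : IsPGroup 2 R := by
    apply IsPGroup.of_card (n := 2)
    rw [hR, Nat.card_zpowers, hord]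
    norm_num
  have hidx : ¬ 2 ∣ R.index := by
    obtain ⟨Q, hQ⟩ := hRp.exists_le_sylow
    have hle : (Q : Subgroup C) ≤ R := by
      intro q hq
      have hT : IsPGroup 2 ((Q : Subgroup C).map C.subtype) := Q.2.map C.subtype
      have h1 := q8_two_subgroup_le_zpowers S e x hx2
        ((Q : Subgroup C).map C.subtype) hT
        (Subgroup.mem_map.mpr ⟨a', hQ (Subgroup.mem_zpowers a'), rfl⟩)
        (by
          rintro t ht
          obtain ⟨c, -, rfl⟩ := Subgroup.mem_map.mp ht
          exact ((Subgroup.mem_centralizer_singleton_iff.mp c.2)).symm)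
      have h2 : (q : G) ∈ Subgroup.zpowers x := h1 (Subgroup.mem_map.mpr ⟨q, hq, rfl⟩)
      obtain ⟨k, hk⟩ := Subgroup.mem_zpowers_iff.mp h2
      rw [hR, Subgroup.mem_zpowers_iff]
      exact ⟨k, Subtype.ext (by rw [Subgroup.coe_zpow]; exact hk)⟩
    have heq : (Q : Subgroup C) = R := le_antisymm hle hQ
    rw [← heq]
    exact Q.not_dvd_index
  have heven : 2 ∣ Nat.card C := by
    have := orderOf_dvd_natCard a'
    rw [hord] at this
    exact dvd_trans (by norm_num) this
  exact exists_normal_two_complement R (by rw [hR]; infer_instance) hRp hidx heven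

/-- the centralizer of the element `a` of order four is `K ⋊ ⟨a⟩` with `K` of odd order -/
theorem q8_exists_complement :
    ∃ K : Subgroup (Subgroup.centralizer ({bsA (S : Subgroup G) e} : Set G)),
      K.Normal ∧ Odd (Nat.card K) ∧
      K ⊔ Subgroup.zpowers (⟨bsA (S : Subgroup G) e,
        Subgroup.mem_centralizer_singleton_iff.mpr rfl⟩ :
          Subgroup.centralizer ({bsA (S : Subgroup G) e} : Set G)) = ⊤ ∧
      ∀ c : Subgroup.centralizer ({bsA (S : Subgroup G) e} : Set G), Odd (orderOf c) → c ∈ K :=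
  q8_exists_complement' S e _ (by rw [orderOf_bsA])

/-- the hypothesis of S0947 (ii): the centralizer of an element of order four has a normal
2-complement -/
theorem q8_pPrimeCore_index (x : G) (hx : orderOf x = 4) :
    ∃ k : ℕ, (Cfsg.pPrimeCore 2 (Subgroup.centralizer ({x} : Set G))).index = 2 ^ k := by
  set C := Subgroup.centralizer ({x} : Set G) with hC
  set a' : C := ⟨x, Subgroup.mem_centralizer_singleton_iff.mpr rfl⟩ with ha'
  obtain ⟨K, hKn, hKodd, hsup, -⟩ := q8_exists_complement' S e x hx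
  have hle : K ≤ Cfsg.pPrimeCore 2 C :=
    Cfsg.Agent.Lib.Helper42.le_pPrimeCore K
      (Nat.Coprime.symm ((Nat.Prime.coprime_iff_not_dvd Nat.prime_two).mpr hKodd.not_two_dvd_nat))
  have h1 : (Cfsg.pPrimeCore 2 C).index ∣ K.index := Subgroup.index_dvd_of_le hle
  have h2 : K.index ∣ 4 := by
    have h3 : K.index = K.relIndex (Subgroup.zpowers a') := by
      rw [← Subgroup.relIndex_top_right, ← hsup, Subgroup.relIndex_sup_left]
    rw [h3]
    have h4 := Subgroup.relIndex_dvd_card K (Subgroup.zpowers a')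
    rwa [Nat.card_zpowers, Subgroup.orderOf_mk, hx] at h4
  have h5 : (Cfsg.pPrimeCore 2 C).index ∣ 2 ^ 2 := by
    have := h1.trans h2
    simpa using this
  obtain ⟨k, -, hk⟩ := (Nat.dvd_prime_pow Nat.prime_two).mp h5
  exact ⟨k, hk⟩

end

theorem orderOf_neg_one_units : orderOf (-1 : ℂˣ) = 2 := by
  rw [orderOf_eq_iff (by norm_num)]
  refine ⟨by norm_num, ?_⟩
  intro m hm hm0
  have : m = 1 := by omega
  subst this
  rw [pow_one]
  intro h
  have h1 := congrArg (fun u : ℂˣ => (u : ℂ)) h
  simp only [Units.val_neg, Units.val_one] at h1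
  norm_num at h1

theorem neg_one_units_ne_one : (-1 : ℂˣ) ≠ 1 := by
  intro h
  have h1 := congrArg (fun u : ℂˣ => (u : ℂ)) h
  simp only [Units.val_neg, Units.val_one] at h1
  norm_num at h1

theorem pow_odd_of_pow_four {H : Type*} [Group H] (a : H) (ha : a ^ 4 = 1) (t : ℕ) (ht : Odd t) :
    a ^ t = a ∨ a ^ t = a⁻¹ := by
  obtain ⟨q, hq⟩ := ht
  rcases Nat.even_or_odd' q with ⟨r, hr | hr⟩
  · left
    have : t = 4 * r + 1 := by omega
    rw [this, pow_add, pow_mul, ha, one_pow, one_mul, pow_one]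
  · right
    have : t = 4 * r + 3 := by omega
    rw [this, pow_add, pow_mul, ha, one_pow, one_mul]
    apply eq_inv_of_mul_eq_one_left
    rw [← pow_succ, ha]

/-- the linear character of order two of `K ⋊ ⟨a⟩`, `a` of order four -/
theorem exists_nu {H : Type*} [Group H] [Finite H] (K : Subgroup H) [K.Normal]
    (hK : Odd (Nat.card K)) (a : H) (ha : orderOf a = 4)
    (hsup : K ⊔ Subgroup.zpowers a = ⊤) :
    ∃ ν : H →* ℂˣ, ν a = -1 ∧ (∀ k ∈ K, ν k = 1) ∧ (∀ y : H, ν y = 1 ∨ ν y = -1) ∧
      (∀ y : H, ν y ≠ 1 ↔ 4 ∣ orderOf y) := by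
  set f := QuotientGroup.mk' K with hf
  set ā := f a with hā
  have hfsurj : Function.Surjective f := QuotientGroup.mk'_surjective K
  have hgen : ∀ q : H ⧸ K, q ∈ Subgroup.zpowers ā := by
    intro q
    have h1 : q ∈ Subgroup.map f ⊤ := by
      rw [Subgroup.map_top_of_surjective f hfsurj]; exact Subgroup.mem_top q
    rw [← hsup, Subgroup.map_sup, QuotientGroup.map_mk'_self, bot_sup_eq,
      MonoidHom.map_zpowers] at h1
    exact h1
  have hcop : Nat.Coprime (Nat.card K) 4 := by
    have : Nat.Coprime (Nat.card K) (2 ^ 2) :=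
      Nat.Coprime.pow_right _ (Nat.Coprime.symm
        ((Nat.Prime.coprime_iff_not_dvd Nat.prime_two).mpr hK.not_two_dvd_nat))
    simpa using this
  have hordā : orderOf ā = 4 := by
    apply Nat.dvd_antisymm
    · rw [← ha]; exact orderOf_map_dvd f a
    · rw [← ha, orderOf_dvd_iff_pow_eq_one]
      set t := orderOf ā with ht
      have h1 : ā ^ t = 1 := pow_orderOf_eq_one ā
      have h2 : a ^ t ∈ K := by
        rw [hā, ← map_pow, hf, QuotientGroup.mk'_apply, QuotientGroup.eq_one_iff] at h1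
        exact h1
      have h3 : orderOf (a ^ t) ∣ Nat.card K := by
        have := orderOf_dvd_natCard (⟨a ^ t, h2⟩ : K)
        rwa [Subgroup.orderOf_mk] at this
      have h4 : orderOf (a ^ t) ∣ 4 := by
        rw [← ha]; exact orderOf_pow_dvd t
      have h6 : orderOf (a ^ t) = 1 := Nat.eq_one_of_dvd_coprimes hcop h3 h4
      exact orderOf_eq_one_iff.mp h6
  have hdvd : orderOf (-1 : ℂˣ) ∣ orderOf ā := by
    rw [orderOf_neg_one_units, hordā]
    norm_num
  set φ : H ⧸ K →* ℂˣ := monoidHomOfForallMemZpowers hgen hdvd with hφ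
  have hφā : φ ā = -1 := monoidHomOfForallMemZpowers_apply_gen hgen hdvd
  have hpow : ∀ y : H, ∃ j : ℕ, f y = ā ^ j ∧ (φ.comp f) y = (-1) ^ j := by
    intro y
    have hmem : f y ∈ Submonoid.powers ā := (mem_powers_iff_mem_zpowers).mpr (hgen (f y))
    obtain ⟨j, hj⟩ := hmem
    refine ⟨j, hj.symm, ?_⟩
    rw [MonoidHom.comp_apply, ← hj, map_pow, hφā]
  have hval : ∀ y : H, (φ.comp f) y = 1 ∨ (φ.comp f) y = -1 := by
    intro y
    obtain ⟨j, -, hj⟩ := hpow y
    rw [hj]
    rcases Nat.even_or_odd j with h | h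
    · left; exact h.neg_one_pow
    · right; exact h.neg_one_pow
  refine ⟨φ.comp f, hφā, ?_, hval, ?_⟩
  · intro k hk
    have : f k = 1 := by
      rw [hf, QuotientGroup.mk'_apply, QuotientGroup.eq_one_iff]; exact hk
    rw [MonoidHom.comp_apply, this, map_one]
  · intro y
    obtain ⟨j, hj1, hj2⟩ := hpow y
    constructor
    · intro hy
      have hjodd : Odd j := by
        rcases Nat.even_or_odd j with h | h
        · exfalso; apply hy; rw [hj2]; exact h.neg_one_pow
        · exact h
      have h1 : orderOf (f y) = 4 := by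
        rw [hj1, orderOf_pow, hordā]
        have : Nat.gcd 4 j = 1 := by
          have h2 : Nat.Coprime j 2 := Nat.Coprime.symm
            ((Nat.Prime.coprime_iff_not_dvd Nat.prime_two).mpr hjodd.not_two_dvd_nat)
          have h3 : Nat.Coprime j (2 ^ 2) := Nat.Coprime.pow_right 2 h2
          exact Nat.Coprime.symm (by simpa using h3)
        rw [this]
      rw [← h1]
      exact orderOf_map_dvd f y
    · intro h4 hy
      have hjeven : Even j := by
        rcases Nat.even_or_odd j with h | h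
        · exact h
        · exfalso
          rw [hj2, h.neg_one_pow] at hy
          exact neg_one_units_ne_one hy
      obtain ⟨r, hr⟩ := hjeven
      have h1 : f (y ^ 2) = 1 := by
        rw [map_pow, hj1, ← pow_mul, hr]
        have : (r + r) * 2 = 4 * r := by ring
        rw [this, pow_mul, ← hordā, pow_orderOf_eq_one, one_pow]
      have h2 : y ^ 2 ∈ K := by
        rw [hf, QuotientGroup.mk'_apply, QuotientGroup.eq_one_iff] at h1
        exact h1
      have h3 : orderOf (y ^ 2) ∣ Nat.card K := by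
        have := orderOf_dvd_natCard (⟨y ^ 2, h2⟩ : K)
        rwa [Subgroup.orderOf_mk] at this
      have h5 : orderOf (y ^ 2) = orderOf y / 2 := by
        rw [orderOf_pow, Nat.gcd_eq_right (dvd_trans (by norm_num) h4)]
      obtain ⟨c, hc⟩ := h4
      rw [h5, hc] at h3
      have h6 : 4 * c / 2 = 2 * c := by omega
      rw [h6] at h3
      exact hK.not_two_dvd_nat (dvd_trans (dvd_mul_right 2 c) h3)

end Cfsg.Agent.Lib.Helper20
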