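import Mathlib

/-!
# K-CP-B (keystone 227202, pack for S2272, architect helper73)

`SL_d(F)`, `d ≥ 3`, sends two given standard basis vectors to any linearly independent pair.
-/

set_option autoImplicit false

namespace Cfsg.Agent.Lib.Helper20.CP

open Matrix

variable {F : Type*} [Field F] {d : ℕ}

/-- a permutation with two prescribed values -/
theorem cpb_exists_perm {α : Type*} [DecidableEq α] (i j a b : α) (hij : i ≠ j) (hab : a ≠ b) :
    ∃ σ : Equiv.Perm α, σ i = a ∧ σ j = b := by
  have h1 : Equiv.swap i a j ≠ a := by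
    intro h
    have : Equiv.swap i a j = Equiv.swap i a i := by rw [h, Equiv.swap_apply_left]
    exact hij ((Equiv.swap i a).injective this).symm
  refine ⟨(Equiv.swap i a).trans (Equiv.swap (Equiv.swap i a j) b), ?_, ?_⟩
  · rw [Equiv.trans_apply, Equiv.swap_apply_left]
    exact Equiv.swap_apply_of_ne_of_ne (Ne.symm h1) hab
  · rw [Equiv.trans_apply, Equiv.swap_apply_left]

/-- a basis of `F^d` indexed by `Fin d` with two prescribed members -/
theorem cpb_exists_basis (i j : Fin d) (hij : i ≠ j) (v w : Fin d → F)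
    (h : LinearIndependent F ![v, w]) :
    ∃ b : Module.Basis (Fin d) F (Fin d → F), b i = v ∧ b j = w := by
  classical
  have hs : LinearIndepOn F id (Set.range ![v, w]) := h.linearIndepOn_id
  let B := Module.Basis.extend hs
  have hvs : v ∈ Set.range ![v, w] := ⟨0, rfl⟩
  have hws : w ∈ Set.range ![v, w] := ⟨1, rfl⟩
  have hvw : v ≠ w := by
    intro hvw
    have := h.injective (a₁ := 0) (a₂ := 1) (by simpa using hvw)
    exact absurd this (by decide)
  let v' : ↥(hs.extend (Set.subset_univ _)) := ⟨v, hs.subset_extend _ hvs⟩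
  let w' : ↥(hs.extend (Set.subset_univ _)) := ⟨w, hs.subset_extend _ hws⟩
  have hv'w' : v' ≠ w' := fun hh => hvw (congrArg Subtype.val hh)
  have : Finite ↥(hs.extend (Set.subset_univ _)) := Module.Finite.finite_basis B
  have hcard : Nat.card ↥(hs.extend (Set.subset_univ _)) = d := by
    rw [← Module.finrank_eq_nat_card_basis B]; simp
  let e0 : ↥(hs.extend (Set.subset_univ _)) ≃ Fin d := Finite.equivFinOfCardEq hcard
  obtain ⟨σ, hσi, hσj⟩ := cpb_exists_perm i j (e0 v') (e0 w') hij
    (fun hh => hv'w' (e0.injective hh))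
  refine ⟨B.reindex (e0.trans σ.symm), ?_, ?_⟩
  · rw [Module.Basis.reindex_apply]
    have : (e0.trans σ.symm).symm i = v' := by
      rw [Equiv.symm_trans_apply, Equiv.symm_symm, hσi, Equiv.symm_apply_apply]
    rw [this, Module.Basis.extend_apply_self]
  · rw [Module.Basis.reindex_apply]
    have : (e0.trans σ.symm).symm j = w' := by
      rw [Equiv.symm_trans_apply, Equiv.symm_symm, hσj, Equiv.symm_apply_apply]
    rw [this, Module.Basis.extend_apply_self]

theorem exists_sl_mulVec_single (hd : 3 ≤ d) (i j : Fin d) (hij : i ≠ j) (v w : Fin d → F)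
    (h : LinearIndependent F ![v, w]) :
    ∃ P : SpecialLinearGroup (Fin d) F,
      (P : Matrix (Fin d) (Fin d) F) *ᵥ Pi.single i 1 = v ∧
      (P : Matrix (Fin d) (Fin d) F) *ᵥ Pi.single j 1 = w := by
  classical
  obtain ⟨b, hbi, hbj⟩ := cpb_exists_basis i j hij v w h
  obtain ⟨k, hki, hkj⟩ : ∃ k : Fin d, k ≠ i ∧ k ≠ j := by
    have h3 : ({i, j} : Finset (Fin d)).card < (Finset.univ : Finset (Fin d)).card := by
      rw [Finset.card_pair hij, Finset.card_univ, Fintype.card_fin]; omega
    obtain ⟨k, -, hk⟩ := Finset.exists_mem_notMem_of_card_lt_card h3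
    exact ⟨k, fun hh => hk (by simp [hh]), fun hh => hk (by simp [hh])⟩
  let P0 : Matrix (Fin d) (Fin d) F := Matrix.of fun r c => b c r
  have hcol : P0.col = ⇑b := by
    funext c r; rfl
  have hunit : IsUnit P0 := by
    rw [← Matrix.linearIndependent_cols_iff_isUnit, hcol]
    exact b.linearIndependent
  have hdet : P0.det ≠ 0 := ((Matrix.isUnit_iff_isUnit_det P0).1 hunit).ne_zero
  let D : Matrix (Fin d) (Fin d) F := Matrix.diagonal (Function.update (fun _ => (1 : F)) k (P0.det)⁻¹)
  have hDdet : D.det = (P0.det)⁻¹ := by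
    rw [Matrix.det_diagonal, Finset.prod_update_of_mem (Finset.mem_univ k)]
    simp
  have hPdet : (P0 * D).det = 1 := by
    rw [Matrix.det_mul, hDdet, mul_inv_cancel₀ hdet]
  have hDsingle : ∀ l : Fin d, l ≠ k → D *ᵥ Pi.single l 1 = Pi.single l 1 := by
    intro l hl
    rw [Matrix.mulVec_single_one]
    funext r
    show D r l = _
    by_cases hrl : r = l
    · subst hrl
      simp [D, Matrix.diagonal_apply_eq, Function.update_of_ne hl]
    · simp [D, Matrix.diagonal_apply_ne _ hrl, Pi.single_eq_of_ne hrl]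
  refine ⟨⟨P0 * D, hPdet⟩, ?_, ?_⟩
  · show (P0 * D) *ᵥ Pi.single i 1 = v
    rw [← Matrix.mulVec_mulVec, hDsingle i (Ne.symm hki), Matrix.mulVec_single_one, hcol, hbi]
  · show (P0 * D) *ᵥ Pi.single j 1 = w
    rw [← Matrix.mulVec_mulVec, hDsingle j (Ne.symm hkj), Matrix.mulVec_single_one, hcol, hbj]

end Cfsg.Agent.Lib.Helper20.CP
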