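import Mathlib
import Cfsg.Agent.Lib.Helper03.FrobThompson

set_option autoImplicit false

namespace Cfsg.Agent.Lib.Helper20.CaminaGrp

universe u

open scoped commutatorElement

variable {G : Type u} [Group G] [Finite G] (N : Subgroup G) [hN : N.Normal]

/-- conjugate elements have the same order (in the form used here) -/
theorem orderOf_eq_of_conj {a b x : G} (h : x * a * x⁻¹ = b) : orderOf b = orderOf a := by
  have hs : SemiconjBy x a b := by
    show x * a = b * x
    rw [← h]; group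
  exact (hs.orderOf_eq x).symm

/-- **Claim A**: in a Camina pair, an element of `N` of prime order `q` cannot commute with `g ∉ N` unless
`q` divides the order of `gN`. -/
theorem claimA (hcam : ∀ g : G, g ∉ N → ∀ n ∈ N, ∃ x : G, x * g * x⁻¹ = g * n)
    (g : G) (hg : g ∉ N) (q : ℕ) (hq : q.Prime)
    (hqo : ¬ q ∣ orderOf (g : G ⧸ N)) (y : G) (hy : y ∈ N) (hyq : orderOf y = q)
    (hc : g * y = y * g) : False := by
  set n := orderOf g with hn
  have hn0 : n ≠ 0 := (orderOf_pos g).ne'
  set a := n.factorization q with ha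
  set g' := g ^ (q ^ a) with hg'
  -- g' ∉ N
  have hg'N : g' ∉ N := by
    intro hmem
    have h1 : ((g : G ⧸ N)) ^ (q ^ a) = 1 := by
      rw [← QuotientGroup.mk_pow]
      exact (QuotientGroup.eq_one_iff _).2 hmem
    have h2 : orderOf (g : G ⧸ N) ∣ q ^ a := orderOf_dvd_of_pow_eq_one h1
    obtain ⟨j, -, hj⟩ := (Nat.dvd_prime_pow hq).1 h2
    rcases Nat.eq_zero_or_pos j with h0 | hpos
    · rw [h0, pow_zero, orderOf_eq_one_iff] at hj
      exact hg ((QuotientGroup.eq_one_iff _).1 hj)
    · apply hqo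
      rw [hj]
      exact dvd_pow_self q hpos.ne'
  -- order of g'
  have hdvd : q ^ a ∣ n := Nat.ordProj_dvd n q
  have hord : orderOf g' = n / q ^ a := by
    rw [hg', orderOf_pow' g (pow_ne_zero a hq.ne_zero), ← hn, Nat.gcd_eq_right hdvd]
  have hnq : ¬ q ∣ n / q ^ a := Nat.not_dvd_ordCompl hq hn0
  -- g' commutes with y
  have hc' : Commute g' y := (Commute.pow_left (show Commute g y from hc) _)
  obtain ⟨x, hx⟩ := hcam g' hg'N y hy
  have ho : orderOf (g' * y) = orderOf g' := orderOf_eq_of_conj hx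
  have h1 : (g' * y) ^ orderOf g' = 1 := by rw [← ho]; exact pow_orderOf_eq_one _
  rw [hc'.mul_pow, pow_orderOf_eq_one, one_mul] at h1
  have h2 : q ∣ orderOf g' := by
    rw [← hyq]
    exact orderOf_dvd_of_pow_eq_one h1
  rw [hord] at h2
  exact hnq h2


/-- a power of prime order -/
theorem exists_pow_prime_order {H : Type*} [Group H] [Finite H] (x : H) (hx : x ≠ 1) :
    ∃ q : ℕ, q.Prime ∧ q ∣ orderOf x ∧ orderOf (x ^ (orderOf x / q)) = q := by
  have h1 : orderOf x ≠ 1 := by
    intro h; exact hx (orderOf_eq_one_iff.1 h)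
  refine ⟨(orderOf x).minFac, Nat.minFac_prime h1, Nat.minFac_dvd _, ?_⟩
  exact orderOf_pow_orderOf_div (orderOf_pos x).ne' (Nat.minFac_dvd _)

/-- **Step 1**: a Camina pair which is not Frobenius has commuting `x ∈ N` of prime order `p` and `g ∉ N`
with `gN` of order `p`. -/
theorem step1 (hcam : ∀ g : G, g ∉ N → ∀ n ∈ N, ∃ x : G, x * g * x⁻¹ = g * n)
    (hF : ¬ ∀ x ∈ N, x ≠ 1 → Subgroup.centralizer ({x} : Set G) ≤ N) :
    ∃ p : ℕ, p.Prime ∧ ∃ x ∈ N, orderOf x = p ∧ ∃ g : G, g ∉ N ∧ orderOf (g : G ⧸ N) = p ∧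
      g * x = x * g := by
  push_neg at hF
  obtain ⟨x, hxN, hx1, hcent⟩ := hF
  obtain ⟨g, hgc, hgN⟩ := Set.not_subset.1 hcent
  have hgx : g * x = x * g := by
    have := Subgroup.mem_centralizer_iff.1 hgc x (Set.mem_singleton x)
    exact this.symm
  obtain ⟨q, hq, -, hqo⟩ := exists_pow_prime_order x hx1
  have hgbar : (g : G ⧸ N) ≠ 1 := fun h => hgN ((QuotientGroup.eq_one_iff _).1 h)
  obtain ⟨p, hp, -, hpo⟩ := exists_pow_prime_order (g : G ⧸ N) hgbar
  set k := orderOf (g : G ⧸ N) / p with hk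
  set x' := x ^ (orderOf x / q) with hx'
  have hx'N : x' ∈ N := N.pow_mem hxN _
  have hg'bar : ((g ^ k : G) : G ⧸ N) = (g : G ⧸ N) ^ k := QuotientGroup.mk_pow N g k
  have hg'o : orderOf ((g ^ k : G) : G ⧸ N) = p := by rw [hg'bar]; exact hpo
  have hg'N : g ^ k ∉ N := by
    intro h
    have h1 : ((g ^ k : G) : G ⧸ N) = 1 := (QuotientGroup.eq_one_iff _).2 h
    rw [h1, orderOf_one] at hg'o
    exact hp.one_lt.ne' hg'o.symm
  have hcomm : g ^ k * x' = x' * g ^ k :=
    ((Commute.pow_left (show Commute g x from hgx) k).pow_right _)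
  have hqp : q = p := by
    by_contra hne
    apply claimA N hcam (g ^ k) hg'N q hq _ x' hx'N hqo hcomm
    rw [hg'o]
    intro hdvd
    exact hne ((Nat.prime_dvd_prime_iff_eq hq hp).1 hdvd)
  exact ⟨p, hp, x', hx'N, hqp ▸ hqo, g ^ k, hg'N, hg'o, hcomm⟩

/-- centralizers in `N` of elements whose image in `G ⧸ N` is a nontrivial `p`-element are `p`-groups. -/
theorem pow_eq_one_of_commute (hcam : ∀ g : G, g ∉ N → ∀ n ∈ N, ∃ x : G, x * g * x⁻¹ = g * n)
    (p : ℕ) (hp : p.Prime) (g : G) (hg : g ∉ N) (k : ℕ) (hgo : orderOf (g : G ⧸ N) ∣ p ^ k)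
    (y : G) (hy : y ∈ N) (hc : g * y = y * g) : ∃ j : ℕ, y ^ (p ^ j) = 1 := by
  have hall : ∀ d : ℕ, d.Prime → d ∣ orderOf y → d = p := by
    intro d hd hdy
    by_contra hne
    have hy' : orderOf (y ^ (orderOf y / d)) = d :=
      orderOf_pow_orderOf_div (orderOf_pos y).ne' hdy
    apply claimA N hcam g hg d hd _ (y ^ (orderOf y / d)) (N.pow_mem hy _) hy'
      ((Commute.pow_right (show Commute g y from hc) _))
    intro hdvd
    have h1 : d ∣ p ^ k := hdvd.trans hgo
    exact hne ((Nat.prime_dvd_prime_iff_eq hd hp).1 (hd.dvd_of_dvd_pow h1))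
  have h2 := Nat.eq_prime_pow_of_unique_prime_dvd (orderOf_pos y).ne' (fun {d} hd hdy => hall d hd hdy)
  exact ⟨_, by rw [← h2]; exact pow_orderOf_eq_one y⟩


/-- **(F6)** in a Frobenius pair no prime divides both `|N|` and `|G : N|`. -/
theorem not_dvd_of_frobenius (hF : ∀ x ∈ N, x ≠ 1 → Subgroup.centralizer ({x} : Set G) ≤ N)
    (s : ℕ) [Fact s.Prime] (h1 : s ∣ Nat.card N) (h2 : s ∣ N.index) : False := by
  obtain ⟨S⟩ : Nonempty (Sylow s G) := inferInstance
  let φ : ↥(S : Subgroup G) →* MulAut N :=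
    (MulAut.conjNormal (H := N)).comp (S : Subgroup G).subtype
  letI : MulAction ↥(S : Subgroup G) N := MulAction.compHom N φ
  have hS : IsPGroup s ↥(S : Subgroup G) := S.isPGroup'
  have h1' : (1 : N) ∈ MulAction.fixedPoints ↥(S : Subgroup G) N := by
    intro g
    show φ g 1 = 1
    simp
  obtain ⟨b, hb, hb1⟩ := hS.exists_fixed_point_of_prime_dvd_card_of_fixed_point N h1 h1'
  have hle : (S : Subgroup G) ≤ N := by
    intro g hg
    have hb1' : (b : G) ≠ 1 := by
      intro h
      apply hb1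
      apply Subtype.ext
      simpa using h.symm
    apply hF b b.2 hb1'
    rw [Subgroup.mem_centralizer_iff]
    intro y hy
    rw [Set.mem_singleton_iff.1 hy]
    have h3 : φ ⟨g, hg⟩ b = b := hb ⟨g, hg⟩
    have h4 : g * (b : G) * g⁻¹ = b := by
      have := congrArg (Subtype.val) h3
      simpa [φ] using this
    calc (b : G) * g = g * (b : G) * g⁻¹ * g := by rw [h4]
      _ = g * b := by group
  have h3 : N.index ∣ (S : Subgroup G).index := Subgroup.index_dvd_of_le hle
  exact S.not_dvd_index (h2.trans h3)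


/-- **(F8)** a finite nilpotent group whose abelianization is a `p`-group is a `p`-group. -/
theorem isPGroup_of_nilpotent_of_abelianization {H : Type u} [Group H] [Finite H]
    (hnil : Group.IsNilpotent H) (p : ℕ) [Fact p.Prime] (j : ℕ)
    (hab : Nat.card (Abelianization H) = p ^ j) : IsPGroup p H := by
  obtain ⟨P⟩ : Nonempty (Sylow p H) := inferInstance
  haveI : (P : Subgroup H).Normal := inferInstance
  -- the quotient
  have hQnil : Group.IsNilpotent (H ⧸ (P : Subgroup H)) := inferInstance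
  have hcardQ : Nat.card (H ⧸ (P : Subgroup H)) = (P : Subgroup H).index :=
    ((P : Subgroup H).index_eq_card).symm
  have hpQ : ¬ p ∣ Nat.card (H ⧸ (P : Subgroup H)) := by
    rw [hcardQ]; exact P.not_dvd_index
  -- the abelianization of the quotient
  have h1 : Nat.card (Abelianization (H ⧸ (P : Subgroup H))) ∣ Nat.card (H ⧸ (P : Subgroup H)) :=
    Subgroup.card_quotient_dvd_card _
  have hsurj : Function.Surjective (Abelianization.map (QuotientGroup.mk' (P : Subgroup H))) := by
    intro x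
    obtain ⟨y, rfl⟩ := QuotientGroup.mk_surjective x
    obtain ⟨z, rfl⟩ := QuotientGroup.mk_surjective y
    exact ⟨Abelianization.of z, Abelianization.map_of _ z⟩
  have h2 : Nat.card (Abelianization (H ⧸ (P : Subgroup H))) ∣ Nat.card (Abelianization H) :=
    Subgroup.card_dvd_of_surjective _ hsurj
  rw [hab] at h2
  obtain ⟨i, -, hi⟩ := (Nat.dvd_prime_pow (Fact.out : p.Prime)).1 h2
  have hi0 : i = 0 := by
    by_contra h0
    apply hpQ
    refine dvd_trans ?_ h1
    rw [hi]
    exact dvd_pow_self p h0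
  rw [hi0, pow_zero] at hi
  -- so the quotient is perfect, hence trivial
  have htriv : Subsingleton (H ⧸ (P : Subgroup H)) := by
    by_contra hns
    rw [not_subsingleton_iff_nontrivial] at hns
    have hlt := IsSolvable.commutator_lt_top_of_nontrivial (H ⧸ (P : Subgroup H))
    have hidx : (commutator (H ⧸ (P : Subgroup H))).index = 1 := by
      rw [Subgroup.index_eq_card]; exact hi
    exact hlt.ne (Subgroup.index_eq_one.1 hidx)
  have htop : (P : Subgroup H) = ⊤ := by
    rw [← Subgroup.index_eq_one, ← hcardQ]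
    exact Nat.card_eq_one_iff_unique.2 ⟨htriv, ⟨1⟩⟩
  have h3 : IsPGroup p (P : Subgroup H) := P.isPGroup'
  rw [htop] at h3
  exact IsPGroup.of_equiv h3 Subgroup.topEquiv

/-- **(F7)** (Thompson) in a Camina pair, if a prime `r` divides `|G : N|` but not `|N|` then `N` is
nilpotent. -/
theorem nilpotent_of_prime_not_dvd
    (hcam : ∀ g : G, g ∉ N → ∀ n ∈ N, ∃ x : G, x * g * x⁻¹ = g * n)
    (r : ℕ) (hr : r.Prime) (h1 : ¬ r ∣ Nat.card N) (h2 : r ∣ N.index) :
    Group.IsNilpotent N := by
  haveI : Fact r.Prime := ⟨hr⟩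
  have hrG : r ∣ Nat.card G := h2.trans (Subgroup.index_dvd_card N)
  obtain ⟨h, hh⟩ := exists_prime_orderOf_dvd_card' r hrG
  -- nonidentity elements of ⟨h⟩ lie outside N and have order r
  have key : ∀ e ∈ Subgroup.zpowers h, e ≠ 1 → e ∉ N ∧ orderOf (e : G ⧸ N) = r := by
    intro e he he1
    have her : e ^ r = 1 := by
      obtain ⟨k, rfl⟩ := Subgroup.mem_zpowers_iff.1 he
      rw [← zpow_natCast, ← zpow_mul, mul_comm, zpow_mul, zpow_natCast, ← hh, pow_orderOf_eq_one,
        one_zpow]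
    have hoe : orderOf e = r := by
      rcases (Nat.dvd_prime hr).1 (orderOf_dvd_of_pow_eq_one her) with h0 | h0
      · exact absurd (orderOf_eq_one_iff.1 h0) he1
      · exact h0
    have heN : e ∉ N := by
      intro hmem
      apply h1
      have : orderOf (⟨e, hmem⟩ : N) = r := by
        rw [← hoe]; exact Subgroup.orderOf_mk e hmem
      rw [← this]
      exact orderOf_dvd_natCard _
    refine ⟨heN, ?_⟩
    have h3 : (e : G ⧸ N) ^ r = 1 := by
      rw [← QuotientGroup.mk_pow, her]; rfl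
    rcases (Nat.dvd_prime hr).1 (orderOf_dvd_of_pow_eq_one h3) with h0 | h0
    · exact absurd ((QuotientGroup.eq_one_iff _).1 (orderOf_eq_one_iff.1 h0)) heN
    · exact h0
  apply Cfsg.Agent.Lib.Helper03.FrobThompson.isNilpotent_of_fpf N (Subgroup.zpowers h)
  · intro hbot
    have : h = 1 := by
      have := Subgroup.mem_zpowers h
      rw [hbot] at this
      exact Subgroup.mem_bot.1 this
    rw [this, orderOf_one] at hh
    exact hr.one_lt.ne' hh.symm
  · intro e _ u hu
    exact hN.conj_mem u hu e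
  · intro e he he1 u hu hcomm
    obtain ⟨heN, heo⟩ := key e he he1
    by_contra hu1
    obtain ⟨q, hq, hqd, hqo⟩ := exists_pow_prime_order u hu1
    apply claimA N hcam e heN q hq _ (u ^ (orderOf u / q)) (N.pow_mem hu _) hqo
      ((Commute.pow_right (show Commute e u from hcomm) _))
    rw [heo]
    intro hdvd
    have hqr : q = r := (Nat.prime_dvd_prime_iff_eq hq hr).1 hdvd
    apply h1
    rw [← hqr]
    have hou : orderOf (⟨u, hu⟩ : N) = orderOf u := Subgroup.orderOf_mk u hu
    rw [← hou] at hqd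
    exact hqd.trans (orderOf_dvd_natCard _)


section Quot

variable (D : Subgroup G) [hD : D.Normal]

/-- the Camina condition passes to quotients by normal subgroups contained in `N` -/
theorem camina_quot (hcam : ∀ g : G, g ∉ N → ∀ n ∈ N, ∃ x : G, x * g * x⁻¹ = g * n) :
    ∀ g : G ⧸ D, g ∉ N.map (QuotientGroup.mk' D) → ∀ n ∈ N.map (QuotientGroup.mk' D),
      ∃ x : G ⧸ D, x * g * x⁻¹ = g * n := by
  intro g hg n hn
  obtain ⟨g0, rfl⟩ := QuotientGroup.mk_surjective g
  obtain ⟨n0, hn0, rfl⟩ := Subgroup.mem_map.1 hn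
  have hg0 : g0 ∉ N := fun h => hg (Subgroup.mem_map.2 ⟨g0, h, rfl⟩)
  obtain ⟨x, hx⟩ := hcam g0 hg0 n0 hn0
  refine ⟨(x : G ⧸ D), ?_⟩
  have := congrArg (QuotientGroup.mk' D) hx
  simpa using this

omit [Finite G] hN in
theorem map_index (hDN : D ≤ N) : (N.map (QuotientGroup.mk' D)).index = N.index :=
  Subgroup.index_map_eq N (QuotientGroup.mk'_surjective D)
    (by rw [QuotientGroup.ker_mk']; exact hDN)

omit [Finite G] hN in
theorem map_comm_of_commutator_le (hD' : ⁅N, N⁆ ≤ D) :
    ∀ x ∈ N.map (QuotientGroup.mk' D), ∀ y ∈ N.map (QuotientGroup.mk' D), x * y = y * x := by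
  intro x hx y hy
  obtain ⟨x0, hx0, rfl⟩ := Subgroup.mem_map.1 hx
  obtain ⟨y0, hy0, rfl⟩ := Subgroup.mem_map.1 hy
  have h1 : ⁅x0, y0⁆ ∈ D := hD' (Subgroup.commutator_mem_commutator hx0 hy0)
  have h2 : (QuotientGroup.mk' D) ⁅x0, y0⁆ = 1 := (QuotientGroup.eq_one_iff _).2 h1
  rw [commutatorElement_def, map_mul, map_mul, map_mul, map_inv, map_inv] at h2
  have h3 := mul_inv_eq_one.1 h2
  exact mul_inv_eq_iff_eq_mul.1 h3

end Quot

omit [Finite G] hN in
/-- the image of `N` in `G ⧸ ⁅N,N⁆` has the order of the abelianization of `N` -/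
theorem card_map_commutator [hNn : N.Normal] :
    Nat.card (N.map (QuotientGroup.mk' ⁅N, N⁆)) = Nat.card (Abelianization N) := by
  set π := QuotientGroup.mk' ⁅N, N⁆ with hπ
  have hsurj := MonoidHom.subgroupMap_surjective π N
  have hker : (π.subgroupMap N).ker = commutator N := by
    rw [Subgroup.ker_subgroupMap, hπ, QuotientGroup.ker_mk', ← Subgroup.map_subtype_commutator,
      Subgroup.subgroupOf, Subgroup.comap_map_eq_self_of_injective N.subtype_injective]
  have e := QuotientGroup.quotientKerEquivOfSurjective (π.subgroupMap N) hsurj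
  rw [← Nat.card_congr e.toEquiv, ← Subgroup.index_eq_card, hker, Subgroup.index_eq_card]
  rfl

end Cfsg.Agent.Lib.Helper20.CaminaGrp
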