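import Mathlib
import Cfsg.Agent.S0840

/-!
# Counting products of two conjugates of an involution (helper20)
-/

set_option autoImplicit false

namespace Cfsg.Agent.Lib.Helper20

section

variable {G : Type*} [Group G] [Fintype G] [DecidableEq G]

theorem orderOf_conj_two (t g : G) (ht : orderOf t = 2) : orderOf (g * t * g⁻¹) = 2 := by
  have := (MulAut.conj g).orderOf_eq t
  rw [← ht, ← this]
  simp [MulAut.conj_apply]

theorem inv_eq_self_of_orderOf_two (x : G) (hx : orderOf x = 2) : x⁻¹ = x := by
  have h : x * x = 1 := by rw [← sq, ← hx]; exact pow_orderOf_eq_one x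
  exact inv_eq_of_mul_eq_one_left h

theorem card_filter_conj_inv (t x : G) (ht : orderOf t = 2)
    (hinv : ∀ s : G, orderOf s = 2 → IsConj t s) :
    (Finset.univ.filter fun g : G => g * t * g⁻¹ = x).card =
      if orderOf x = 2 then Nat.card (Subgroup.centralizer ({t} : Set G)) else 0 := by
  split_ifs with h
  · exact Cfsg.Agent.S0840.card_filter_conj_eq t x (hinv x h)
  · rw [Finset.card_eq_zero, Finset.filter_eq_empty_iff]
    intro g _ hg
    apply h
    rw [← hg]
    exact orderOf_conj_two t g ht

theorem card_filter_comp_conj (t : G) (ht : orderOf t = 2)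
    (hinv : ∀ s : G, orderOf s = 2 → IsConj t s) (Q : G → Prop) [DecidablePred Q] :
    (Finset.univ.filter fun g : G => Q (g * t * g⁻¹)).card =
      Nat.card (Subgroup.centralizer ({t} : Set G)) *
        (Finset.univ.filter fun x : G => orderOf x = 2 ∧ Q x).card := by
  rw [Finset.card_eq_sum_card_fiberwise (f := fun g : G => g * t * g⁻¹) (t := Finset.univ)
    (fun _ _ => Finset.mem_univ _)]
  have h1 : ∀ x : G, ((Finset.univ.filter fun g : G => Q (g * t * g⁻¹)).filter
      (fun g => g * t * g⁻¹ = x)).card =
      if orderOf x = 2 ∧ Q x then Nat.card (Subgroup.centralizer ({t} : Set G)) else 0 := by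
    intro x
    by_cases hQ : Q x
    · have : ((Finset.univ.filter fun g : G => Q (g * t * g⁻¹)).filter
          (fun g => g * t * g⁻¹ = x)) = Finset.univ.filter fun g : G => g * t * g⁻¹ = x := by
        ext g
        simp only [Finset.mem_filter, Finset.mem_univ, true_and]
        constructor
        · exact fun h => h.2
        · intro h; exact ⟨by rw [h]; exact hQ, h⟩
      rw [this, card_filter_conj_inv t x ht hinv]
      simp [hQ]
    · have : ((Finset.univ.filter fun g : G => Q (g * t * g⁻¹)).filter
          (fun g => g * t * g⁻¹ = x)) = ∅ := by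
        rw [Finset.filter_eq_empty_iff]
        intro g hg hgx
        rw [Finset.mem_filter] at hg
        apply hQ
        rw [← hgx]; exact hg.2
      rw [this]
      simp [hQ]
  simp only [h1]
  rw [← Finset.sum_filter, Finset.sum_const, smul_eq_mul, mul_comm]

theorem card_pairs_conj_inv (t u : G) (ht : orderOf t = 2)
    (hinv : ∀ s : G, orderOf s = 2 → IsConj t s) :
    (Finset.univ.filter fun ab : G × G =>
        (ab.1 * t * ab.1⁻¹) * (ab.2 * t * ab.2⁻¹) = u).card =
      Nat.card (Subgroup.centralizer ({t} : Set G)) ^ 2 *
        (Finset.univ.filter fun x : G => orderOf x = 2 ∧ orderOf (x * u) = 2).card := by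
  rw [Finset.card_filter, Fintype.sum_prod_type]
  have h1 : ∀ a : G, (∑ b : G, if (a * t * a⁻¹) * (b * t * b⁻¹) = u then 1 else 0) =
      if orderOf ((a * t * a⁻¹) * u) = 2 then Nat.card (Subgroup.centralizer ({t} : Set G))
      else 0 := by
    intro a
    rw [← Finset.card_filter]
    have h2 : (Finset.univ.filter fun b : G => (a * t * a⁻¹) * (b * t * b⁻¹) = u) =
        Finset.univ.filter fun b : G => b * t * b⁻¹ = (a * t * a⁻¹) * u := by
      ext b
      simp only [Finset.mem_filter, Finset.mem_univ, true_and]
      have hx := inv_eq_self_of_orderOf_two _ (orderOf_conj_two t a ht)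
      constructor
      · intro h
        rw [← h, ← mul_assoc]
        nth_rewrite 1 [← hx]
        rw [inv_mul_cancel, one_mul]
      · intro h
        rw [h, ← mul_assoc]
        nth_rewrite 1 [← hx]
        rw [inv_mul_cancel, one_mul]
    rw [h2, card_filter_conj_inv t _ ht hinv]
  simp only [h1]
  rw [← Finset.sum_filter, Finset.sum_const, smul_eq_mul,
    card_filter_comp_conj t ht hinv (fun x => orderOf (x * u) = 2)]
  ring

end

end Cfsg.Agent.Lib.Helper20
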