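import Mathlib

/-!
# A subgroup isomorphic to the dihedral group of order eight (helper20)

Elementary facts about a subgroup `D` of a group `G` together with an isomorphism
`e : D ≃* DihedralGroup 4`, expressed with the two generators
`d8A = e⁻¹ (r 1)` and `d8B = e⁻¹ (sr 0)` viewed in `G`.
-/

set_option autoImplicit false

namespace Cfsg.Agent.Lib.Helper20

open DihedralGroup

theorem d8_central_eq (x : DihedralGroup 4) (h : ∀ y, x * y = y * x) (hx : x ≠ 1) :
    x = r 2 := by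
  revert x; decide

theorem d8_comm_r_one (x : DihedralGroup 4) (h : x * r 1 = r 1 * x) : ∃ i : ZMod 4, x = r i := by
  revert x; decide

theorem d8_conj_r_one : (sr 0 : DihedralGroup 4) * r 1 * (sr 0)⁻¹ = (r 1)⁻¹ := by decide

theorem d8_conj_r_one' : (sr 0 : DihedralGroup 4)⁻¹ * r 1 * sr 0 = (r 1)⁻¹ := by decide

theorem d8_r_eq_pow (i : ZMod 4) : (r i : DihedralGroup 4) = (r 1) ^ i.val := by
  rw [r_one_pow, ZMod.natCast_zmod_val]

theorem d8_sr_mul_inv (i : ZMod 4) : ∃ j : ZMod 4, (sr i : DihedralGroup 4) * (sr 0)⁻¹ = r j := by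
  revert i; decide

theorem d8_r_sq_eq_one (i : ZMod 4) (h : (r i : DihedralGroup 4) * r i = 1) (h1 : r i ≠ (1 : DihedralGroup 4)) :
    (r i : DihedralGroup 4) = r 2 := by
  revert i; decide

section pkg

variable {G : Type*} [Group G] (D : Subgroup G) (e : D ≃* DihedralGroup 4)

/-- the rotation generator, in `G` -/
noncomputable def d8A : G := ((e.symm (r 1) : D) : G)

/-- a reflection, in `G` -/
noncomputable def d8B : G := ((e.symm (sr 0) : D) : G)

theorem d8A_mem : d8A D e ∈ D := (e.symm (r 1)).2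

theorem d8B_mem : d8B D e ∈ D := (e.symm (sr 0)).2

theorem orderOf_d8A : orderOf (d8A D e) = 4 := by
  rw [d8A, Subgroup.orderOf_coe, MulEquiv.orderOf_eq, orderOf_r_one]

theorem d8B_conj : d8B D e * d8A D e * (d8B D e)⁻¹ = (d8A D e)⁻¹ := by
  have h := congrArg (fun q => ((e.symm q : D) : G)) d8_conj_r_one
  simp only [map_mul, map_inv, Subgroup.coe_mul, Subgroup.coe_inv] at h
  exact h

theorem d8B_conj' : (d8B D e)⁻¹ * d8A D e * d8B D e = (d8A D e)⁻¹ := by
  have h := congrArg (fun q => ((e.symm q : D) : G)) d8_conj_r_one'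
  simp only [map_mul, map_inv, Subgroup.coe_mul, Subgroup.coe_inv] at h
  exact h

theorem d8_coe_symm_r (i : ZMod 4) : ((e.symm (r i) : D) : G) = d8A D e ^ i.val := by
  rw [d8_r_eq_pow, map_pow, Subgroup.coe_pow]
  rfl

theorem d8_zpowers_le : Subgroup.zpowers (d8A D e) ≤ D := by
  rw [Subgroup.zpowers_le]; exact d8A_mem D e

theorem d8_apply_eq_r_of_mem {x : G} (hx : x ∈ D) (h : x ∈ Subgroup.zpowers (d8A D e)) :
    ∃ i : ZMod 4, e ⟨x, hx⟩ = r i := by
  obtain ⟨k, hk⟩ := Subgroup.mem_zpowers_iff.mp h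
  have h1 : (⟨x, hx⟩ : D) = (e.symm (r 1)) ^ k := by
    apply Subtype.ext
    rw [Subgroup.coe_zpow]
    exact hk.symm
  rw [h1, map_zpow, MulEquiv.apply_symm_apply]
  have : (r 1 : DihedralGroup 4) ^ k ∈ Subgroup.zpowers (r 1 : DihedralGroup 4) :=
    Subgroup.zpow_mem_zpowers _ k
  obtain ⟨j, hj⟩ := Subgroup.mem_zpowers_iff.mp this
  have hgen : ∀ m : ℤ, ∃ i : ZMod 4, (r 1 : DihedralGroup 4) ^ m = r i := by
    intro m
    induction m with
    | zero => exact ⟨0, by rw [zpow_zero]; rfl⟩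
    | succ n ih =>
      obtain ⟨i, hi⟩ := ih
      exact ⟨i + 1, by rw [zpow_add_one, hi, r_mul_r]⟩
    | pred n ih =>
      obtain ⟨i, hi⟩ := ih
      refine ⟨i - 1, ?_⟩
      rw [zpow_sub_one, hi]
      have : (r 1 : DihedralGroup 4)⁻¹ = r (-1) := rfl
      rw [this, r_mul_r, sub_eq_add_neg]
  exact hgen k

theorem d8_mem_of_apply_eq_r {x : G} (hx : x ∈ D) (i : ZMod 4) (h : e ⟨x, hx⟩ = r i) :
    x ∈ Subgroup.zpowers (d8A D e) := by
  have h1 : x = ((e.symm (e ⟨x, hx⟩) : D) : G) := by rw [MulEquiv.symm_apply_apply]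
  rw [h1, h, d8_coe_symm_r]
  exact Subgroup.npow_mem_zpowers _ _

theorem d8_mem_cases {x : G} (hx : x ∈ D) :
    x ∈ Subgroup.zpowers (d8A D e) ∨ x * (d8B D e)⁻¹ ∈ Subgroup.zpowers (d8A D e) := by
  rcases h : e ⟨x, hx⟩ with i | i
  · left
    exact d8_mem_of_apply_eq_r D e hx i h
  · right
    obtain ⟨j, hj⟩ := d8_sr_mul_inv i
    have hmem : x * (d8B D e)⁻¹ ∈ D := D.mul_mem hx (D.inv_mem (d8B_mem D e))
    apply d8_mem_of_apply_eq_r D e hmem j
    have h2 : (⟨x * (d8B D e)⁻¹, hmem⟩ : D) = ⟨x, hx⟩ * (e.symm (sr 0))⁻¹ := by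
      apply Subtype.ext
      rfl
    rw [h2, map_mul, map_inv, MulEquiv.apply_symm_apply, h, hj]

theorem d8B_not_mem : d8B D e ∉ Subgroup.zpowers (d8A D e) := by
  intro h
  obtain ⟨i, hi⟩ := d8_apply_eq_r_of_mem D e (d8B_mem D e) h
  have h2 : (⟨d8B D e, d8B_mem D e⟩ : D) = e.symm (sr 0) := Subtype.ext rfl
  rw [h2, MulEquiv.apply_symm_apply] at hi
  cases hi

theorem d8_comm_mem {x : G} (hx : x ∈ D) (h : x * d8A D e = d8A D e * x) :
    x ∈ Subgroup.zpowers (d8A D e) := by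
  have h1 : e ⟨x, hx⟩ * r 1 = r 1 * e ⟨x, hx⟩ := by
    have h2 : (⟨x, hx⟩ : D) * e.symm (r 1) = e.symm (r 1) * ⟨x, hx⟩ := Subtype.ext h
    have := congrArg e h2
    rwa [map_mul, map_mul, MulEquiv.apply_symm_apply] at this
  obtain ⟨i, hi⟩ := d8_comm_r_one _ h1
  exact d8_mem_of_apply_eq_r D e hx i hi

theorem d8_orderOf_of_not_mem {x : G} (hx : x ∈ D) (h : x ∉ Subgroup.zpowers (d8A D e)) :
    orderOf x = 2 := by
  rcases h1 : e ⟨x, hx⟩ with i | i
  · exact absurd (d8_mem_of_apply_eq_r D e hx i h1) h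
  · have h2 : orderOf (e ⟨x, hx⟩) = 2 := by rw [h1, orderOf_sr]
    rw [MulEquiv.orderOf_eq, Subgroup.orderOf_mk] at h2
    exact h2

theorem d8_central {x : G} (hx : x ∈ D) (hc : ∀ y ∈ D, x * y = y * x) (hx1 : x ≠ 1) :
    x = d8A D e ^ 2 := by
  have h1 : e ⟨x, hx⟩ = r 2 := by
    apply d8_central_eq
    · intro y
      have h2 := hc (e.symm y : D) (e.symm y).2
      have h3 : (⟨x, hx⟩ : D) * e.symm y = e.symm y * ⟨x, hx⟩ := Subtype.ext h2
      have := congrArg e h3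
      rwa [map_mul, map_mul, MulEquiv.apply_symm_apply] at this
    · intro h
      apply hx1
      have : (⟨x, hx⟩ : D) = 1 := by
        rw [← e.map_eq_one_iff]; exact h
      exact congrArg Subtype.val this
  have h2 : x = ((e.symm (e ⟨x, hx⟩) : D) : G) := by rw [MulEquiv.symm_apply_apply]
  rw [h2, h1, d8_coe_symm_r]
  rfl

theorem d8_mem_zpowers_sq_eq_one {x : G} (hx : x ∈ Subgroup.zpowers (d8A D e)) (h2 : x * x = 1)
    (h1 : x ≠ 1) : x = d8A D e ^ 2 := by
  have hxD : x ∈ D := d8_zpowers_le D e hx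
  obtain ⟨i, hi⟩ := d8_apply_eq_r_of_mem D e hxD hx
  have h3 : (r i : DihedralGroup 4) * r i = 1 := by
    rw [← hi, ← map_mul]
    have : (⟨x, hxD⟩ : D) * ⟨x, hxD⟩ = 1 := Subtype.ext h2
    rw [this, map_one]
  have h4 : (r i : DihedralGroup 4) ≠ 1 := by
    rw [← hi]
    intro h
    apply h1
    have : (⟨x, hxD⟩ : D) = 1 := by
      rw [← e.map_eq_one_iff]; exact h
    exact congrArg Subtype.val this
  have h5 := d8_r_sq_eq_one i h3 h4
  have h6 : x = ((e.symm (e ⟨x, hxD⟩) : D) : G) := by rw [MulEquiv.symm_apply_apply]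
  rw [h6, hi, h5, d8_coe_symm_r]
  rfl

include e in
theorem d8_card : Nat.card D = 8 := by
  rw [Nat.card_congr e.toEquiv, DihedralGroup.nat_card]

theorem d8_card_zpowers : Nat.card (Subgroup.zpowers (d8A D e)) = 4 := by
  rw [Nat.card_zpowers, orderOf_d8A]

end pkg

end Cfsg.Agent.Lib.Helper20
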