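import Mathlib
import Cfsg.Agent.Lib.Helper20.BSQ8Group

/-!
# Groups with a quaternion Sylow 2-subgroup of order 8 and a central involution (helper20)
-/

set_option autoImplicit false
set_option linter.unusedSectionVars false

namespace Cfsg.Agent.Lib.Helper20

open QuaternionGroup

theorem q8_sq_cases : ∀ q : QuaternionGroup 2, q ^ 2 = 1 ∨ q ^ 2 = a 2 := by decide
theorem q8_sq_of_ne : ∀ q : QuaternionGroup 2, q ≠ 1 → q ≠ a 2 → q ^ 2 = a 2 := by decide
theorem q8_conj_inv : ∀ q : QuaternionGroup 2, ∃ r : QuaternionGroup 2, r * q * r⁻¹ = q⁻¹ := by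
  decide
theorem q8_a2_sq : (a 2 : QuaternionGroup 2) ^ 2 = 1 := by decide
theorem q8_a2_ne : (a 2 : QuaternionGroup 2) ≠ 1 := by decide
theorem q8_sq_eq_one : ∀ q : QuaternionGroup 2, q ^ 2 = 1 → q = 1 ∨ q = a 2 := by decide

section

variable {G : Type*} [Group G] (S : Subgroup G) (e : S ≃* QuaternionGroup 2)

/-- the involution of the quaternion subgroup -/
noncomputable def q8Z : G := ((e.symm (a 2) : S) : G)

theorem q8Z_mem : q8Z S e ∈ S := (e.symm (a 2)).2

theorem q8Z_sq : q8Z S e ^ 2 = 1 := by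
  have h : (e.symm (a 2)) ^ 2 = 1 := by
    rw [← map_pow, q8_a2_sq, map_one]
  exact congrArg Subtype.val h

theorem q8Z_ne_one : q8Z S e ≠ 1 := by
  intro h
  have h1 : e.symm (a 2) = 1 := Subtype.ext h
  rw [← map_one e.symm] at h1
  exact q8_a2_ne (e.symm.injective h1)

theorem orderOf_q8Z : orderOf (q8Z S e) = 2 :=
  orderOf_eq_prime (q8Z_sq S e) (q8Z_ne_one S e)

theorem q8_mem_sq_cases (x : G) (hx : x ∈ S) : x ^ 2 = 1 ∨ x ^ 2 = q8Z S e := by
  rcases q8_sq_cases (e ⟨x, hx⟩) with h | h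
  · left
    rw [← map_pow, ← map_one e] at h
    exact congrArg Subtype.val (e.injective h)
  · right
    have h1 : (⟨x, hx⟩ : S) ^ 2 = e.symm (a 2) := by
      rw [← h, map_pow, MulEquiv.symm_apply_apply]
    exact congrArg Subtype.val h1

theorem q8_mem_sq_of_ne (x : G) (hx : x ∈ S) (h1 : x ≠ 1) (hz : x ≠ q8Z S e) :
    x ^ 2 = q8Z S e := by
  have h := q8_sq_of_ne (e ⟨x, hx⟩) (by
    intro h
    rw [← map_one e] at h
    exact h1 (congrArg Subtype.val (e.injective h))) (by
    intro h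
    apply hz
    have : (⟨x, hx⟩ : S) = e.symm (a 2) := by rw [← h, MulEquiv.symm_apply_apply]
    exact congrArg Subtype.val this)
  have h2 : (⟨x, hx⟩ : S) ^ 2 = e.symm (a 2) := by
    rw [← h, map_pow, MulEquiv.symm_apply_apply]
  exact congrArg Subtype.val h2

theorem q8_mem_of_sq_eq_one (x : G) (hx : x ∈ S) (h : x ^ 2 = 1) : x = 1 ∨ x = q8Z S e := by
  have h1 : (e ⟨x, hx⟩) ^ 2 = 1 := by
    rw [← map_pow]
    have : (⟨x, hx⟩ : S) ^ 2 = 1 := Subtype.ext h
    rw [this, map_one]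
  rcases q8_sq_eq_one _ h1 with h2 | h2
  · left
    rw [← map_one e] at h2
    exact congrArg Subtype.val (e.injective h2)
  · right
    have : (⟨x, hx⟩ : S) = e.symm (a 2) := by rw [← h2, MulEquiv.symm_apply_apply]
    exact congrArg Subtype.val this

include e in
theorem q8_mem_conj_inv (x : G) (hx : x ∈ S) : ∃ r : G, r * x * r⁻¹ = x⁻¹ := by
  obtain ⟨r, hr⟩ := q8_conj_inv (e ⟨x, hx⟩)
  refine ⟨((e.symm r : S) : G), ?_⟩
  have h : e.symm r * ⟨x, hx⟩ * (e.symm r)⁻¹ = (⟨x, hx⟩ : S)⁻¹ := by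
    apply e.injective
    rw [map_mul, map_mul, map_inv, map_inv, MulEquiv.apply_symm_apply, hr]
  exact congrArg Subtype.val h

include e in
theorem q8_card : Nat.card S = 8 := by
  rw [Nat.card_congr e.toEquiv, Nat.card_eq_fintype_card, QuaternionGroup.card]

end

section

variable {G : Type*} [Group G] [Finite G] (S : Sylow 2 G)
  (e : (S : Subgroup G) ≃* QuaternionGroup 2)

open scoped Pointwise

theorem orderOf_conj_inv_mul' {H : Type*} [Group H] (x g : H) :
    orderOf (x⁻¹ * g * x) = orderOf g := by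
  have := (MulAut.conj x⁻¹).orderOf_eq g
  simpa [MulAut.conj_apply] using this

/-- every 2-element is conjugate into a given Sylow 2-subgroup -/
theorem exists_conj_mem_sylow (g : G) (hg : ∃ k : ℕ, orderOf g = 2 ^ k) :
    ∃ c : G, c⁻¹ * g * c ∈ (S : Subgroup G) := by
  have : Fact (Nat.Prime 2) := ⟨Nat.prime_two⟩
  obtain ⟨k, hk⟩ := hg
  have hgp : IsPGroup 2 (Subgroup.zpowers g) :=
    IsPGroup.of_card (n := k) (by rw [Nat.card_zpowers, hk])
  obtain ⟨Q, hQ⟩ := hgp.exists_le_sylow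
  obtain ⟨c, hc⟩ := MulAction.exists_smul_eq G S Q
  have hgQ : g ∈ (Q : Subgroup G) := hQ (Subgroup.mem_zpowers g)
  rw [← hc, Sylow.coe_subgroup_smul, Subgroup.mem_pointwise_smul_iff_inv_smul_mem] at hgQ
  refine ⟨c, ?_⟩
  simpa [MulAut.smul_def, MulAut.conj_apply] using hgQ

include e in
theorem q8_center_iff (hc : Nat.card (Subgroup.center G) = 2) (g : G) :
    g ∈ Subgroup.center G ↔ g = 1 ∨ g = q8Z (S : Subgroup G) e := by
  have : Fact (Nat.Prime 2) := ⟨Nat.prime_two⟩
  have hp : IsPGroup 2 (Subgroup.center G) := IsPGroup.of_card (n := 1) (by rw [hc, pow_one])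
  have hle : Subgroup.center G ≤ (S : Subgroup G) := IsPGroup.le_sylow_of_normal hp S
  have hfwd : ∀ g : G, g ∈ Subgroup.center G → g = 1 ∨ g = q8Z (S : Subgroup G) e := by
    intro g hg
    apply q8_mem_of_sq_eq_one (S : Subgroup G) e g (hle hg)
    have h1 : (⟨g, hg⟩ : Subgroup.center G) ^ 2 = 1 := by
      rw [← hc]; exact pow_card_eq_one'
    exact congrArg Subtype.val h1
  constructor
  · exact hfwd g
  · rintro (rfl | rfl)
    · exact Subgroup.one_mem _
    · have : Nontrivial (Subgroup.center G) := by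
        rw [← Finite.one_lt_card_iff_nontrivial, hc]; norm_num
      obtain ⟨x, hx⟩ := exists_ne (1 : Subgroup.center G)
      rcases hfwd x x.2 with h | h
      · exact absurd (Subtype.ext h) hx
      · rw [← h]; exact x.2

include e in
theorem q8_orderOf_four (x : G) (hx : x ∈ (S : Subgroup G)) (h1 : x ≠ 1)
    (hz : x ≠ q8Z (S : Subgroup G) e) : orderOf x = 4 := by
  have h2 := q8_mem_sq_of_ne (S : Subgroup G) e x hx h1 hz
  have : Fact (Nat.Prime 2) := ⟨Nat.prime_two⟩
  have h3 := orderOf_eq_prime_pow (x := x) (n := 1) (p := 2) (by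
    rw [pow_one, h2]; exact q8Z_ne_one _ e) (by
    have : x ^ 2 ^ (1 + 1) = (x ^ 2) ^ 2 := by rw [← pow_mul]; norm_num
    rw [this, h2, q8Z_sq])
  simpa using h3

include e in
/-- an element of order four of `G` lying in `S` is neither `1` nor the involution -/
theorem q8_ne_of_orderOf_four (x : G) (h4 : orderOf x = 4) :
    x ≠ 1 ∧ x ≠ q8Z (S : Subgroup G) e := by
  constructor
  · rintro rfl
    rw [orderOf_one] at h4; omega
  · rintro rfl
    rw [orderOf_q8Z] at h4; omega


/-- the conclusion of S0950: the normalizer of `S` permutes the subgroups of order four of `S`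
transitively -/
def Q8Trans : Prop :=
  ∀ A B : Subgroup G, A ≤ (S : Subgroup G) → B ≤ (S : Subgroup G) → Nat.card A = 4 →
    Nat.card B = 4 → ∃ n ∈ Subgroup.normalizer ((S : Subgroup G) : Set G),
      B = A.map (MulAut.conj n).toMonoidHom

theorem q8_conj_or_inv (htrans : Q8Trans S) (x x' : G) (hx : x ∈ (S : Subgroup G))
    (hx' : x' ∈ (S : Subgroup G)) (h4 : orderOf x = 4) (h4' : orderOf x' = 4) :
    ∃ n : G, x' = n * x * n⁻¹ ∨ x' = n * x⁻¹ * n⁻¹ := by
  obtain ⟨n, -, hn⟩ := htrans (Subgroup.zpowers x) (Subgroup.zpowers x')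
    (Subgroup.zpowers_le.mpr hx) (Subgroup.zpowers_le.mpr hx')
    (by rw [Nat.card_zpowers, h4]) (by rw [Nat.card_zpowers, h4'])
  have h1 : x' ∈ (Subgroup.zpowers x).map (MulAut.conj n).toMonoidHom := by
    rw [← hn]; exact Subgroup.mem_zpowers x'
  obtain ⟨y, hy, hyx⟩ := Subgroup.mem_map.mp h1
  have hyx' : n * y * n⁻¹ = x' := by simpa [MulAut.conj_apply] using hyx
  have hmem : y ∈ Submonoid.powers x := (mem_powers_iff_mem_zpowers).mpr hy
  obtain ⟨k, hk⟩ := hmem
  replace hk : x ^ k = y := hk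
  have hx4 : x ^ 4 = 1 := by rw [← h4]; exact pow_orderOf_eq_one x
  have hy4 : orderOf y = 4 := by
    rw [← h4', ← hyx']
    have := (MulAut.conj n).orderOf_eq y
    simpa [MulAut.conj_apply] using this.symm
  have hkodd : Odd k := by
    rcases Nat.even_or_odd k with h | h
    · exfalso
      obtain ⟨r, hr⟩ := h
      have : y ^ 2 = 1 := by
        rw [← hk, ← pow_mul, hr]
        have : (r + r) * 2 = 4 * r := by ring
        rw [this, pow_mul, hx4, one_pow]
      have h5 := orderOf_dvd_of_pow_eq_one this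
      rw [hy4] at h5
      omega
    · exact h
  refine ⟨n, ?_⟩
  rcases pow_odd_of_pow_four x hx4 k hkodd with h | h
  · left; rw [← hyx', ← hk, h]
  · right; rw [← hyx', ← hk, h]

include e in
theorem q8_isConj_of_orderOf_four (htrans : Q8Trans S) (g g' : G) (h4 : orderOf g = 4)
    (h4' : orderOf g' = 4) : IsConj g g' := by
  obtain ⟨c, hc⟩ := exists_conj_mem_sylow S g ⟨2, by rw [h4]; norm_num⟩
  obtain ⟨c', hc'⟩ := exists_conj_mem_sylow S g' ⟨2, by rw [h4']; norm_num⟩
  have ho : orderOf (c⁻¹ * g * c) = 4 := by rw [orderOf_conj_inv_mul', h4]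
  have ho' : orderOf (c'⁻¹ * g' * c') = 4 := by rw [orderOf_conj_inv_mul', h4']
  obtain ⟨n, hn⟩ := q8_conj_or_inv S htrans _ _ hc hc' ho ho'
  have key : IsConj (c⁻¹ * g * c) (c'⁻¹ * g' * c') := by
    rcases hn with hn | hn
    · rw [hn]
      exact isConj_iff.mpr ⟨n, rfl⟩
    · obtain ⟨r, hr⟩ := q8_mem_conj_inv (S : Subgroup G) e _ hc
      rw [hn, ← hr]
      exact isConj_iff.mpr ⟨n * r, by group⟩
  have h1 : IsConj g (c⁻¹ * g * c) := isConj_iff.mpr ⟨c⁻¹, by group⟩
  have h2 : IsConj (c'⁻¹ * g' * c') g' := isConj_iff.mpr ⟨c', by group⟩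
  exact (h1.trans key).trans h2


include e in
theorem q8_reps [DecidableEq G] (htrans : Q8Trans S) (a : G) (ha : orderOf a = 4) :
    ∀ g : G, (∃ k : ℕ, orderOf g = 2 ^ k) →
      ∃! x, x ∈ ({1, q8Z (S : Subgroup G) e, a} : Finset G) ∧ IsConj g x := by
  intro g hg
  have hord : ∀ x : G, IsConj g x → orderOf x = orderOf g := by
    intro x hx
    obtain ⟨t, ht⟩ := isConj_iff.mp hx
    rw [← ht]
    have := (MulAut.conj t).orderOf_eq g
    simpa [MulAut.conj_apply] using this
  have huniq : ∀ x₁ x₂ : G, x₁ ∈ ({1, q8Z (S : Subgroup G) e, a} : Finset G) →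
      x₂ ∈ ({1, q8Z (S : Subgroup G) e, a} : Finset G) → orderOf x₁ = orderOf x₂ → x₁ = x₂ := by
    intro x₁ x₂ h1 h2 ho
    simp only [Finset.mem_insert, Finset.mem_singleton] at h1 h2
    rcases h1 with rfl | rfl | rfl <;> rcases h2 with rfl | rfl | rfl <;>
      simp only [orderOf_one, orderOf_q8Z, ha] at ho <;> first | rfl | omega
  obtain ⟨c, hc⟩ := exists_conj_mem_sylow S g hg
  have hconj : IsConj g (c⁻¹ * g * c) := isConj_iff.mpr ⟨c⁻¹, by group⟩
  have hex : ∃ x, x ∈ ({1, q8Z (S : Subgroup G) e, a} : Finset G) ∧ IsConj g x := by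
    by_cases h1 : c⁻¹ * g * c = 1
    · exact ⟨1, by simp, by rw [← h1]; exact hconj⟩
    · by_cases hz : c⁻¹ * g * c = q8Z (S : Subgroup G) e
      · exact ⟨q8Z (S : Subgroup G) e, by simp, by rw [← hz]; exact hconj⟩
      · have h4 := q8_orderOf_four S e _ hc h1 hz
        have h4' : orderOf g = 4 := by rw [← h4, orderOf_conj_inv_mul']
        exact ⟨a, by simp, q8_isConj_of_orderOf_four S e htrans g a h4' ha⟩
  obtain ⟨x, hx1, hx2⟩ := hex
  refine ⟨x, ⟨hx1, hx2⟩, ?_⟩
  rintro y ⟨hy1, hy2⟩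
  exact huniq y x hy1 hx1 (by rw [hord y hy2, hord x hx2])

/-- the image of `S` in the central quotient -/
noncomputable def q8QuotSylow : Sylow 2 (G ⧸ Subgroup.center G) :=
  haveI : Fact (Nat.Prime 2) := ⟨Nat.prime_two⟩
  S.mapSurjective (QuotientGroup.mk'_surjective (Subgroup.center G))

theorem coe_q8QuotSylow :
    ((q8QuotSylow S : Sylow 2 (G ⧸ Subgroup.center G)) : Subgroup (G ⧸ Subgroup.center G)) =
      (S : Subgroup G).map (QuotientGroup.mk' (Subgroup.center G)) := by
  have : Fact (Nat.Prime 2) := ⟨Nat.prime_two⟩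
  exact Sylow.coe_mapSurjective _ S

include e in
theorem card_q8QuotSylow (hc : Nat.card (Subgroup.center G) = 2) :
    Nat.card (q8QuotSylow S : Sylow 2 (G ⧸ Subgroup.center G)) = 4 := by
  have : Fact (Nat.Prime 2) := ⟨Nat.prime_two⟩
  have h1 := Sylow.card_eq_multiplicity S
  rw [q8_card (S : Subgroup G) e] at h1
  have h3 : (Nat.card G).factorization 2 = 3 := by
    have : (2 : ℕ) ^ 3 = 2 ^ (Nat.card G).factorization 2 := by rw [← h1]; norm_num
    exact (Nat.pow_right_injective (le_refl 2) this).symm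
  have h4 := Subgroup.card_eq_card_quotient_mul_card_subgroup (Subgroup.center G)
  rw [hc] at h4
  have h5 : (Nat.card (G ⧸ Subgroup.center G)).factorization 2 = 2 := by
    have h6 : (Nat.card G).factorization 2 =
        (Nat.card (G ⧸ Subgroup.center G)).factorization 2 + 1 := by
      rw [h4, Nat.factorization_mul Nat.card_pos.ne' (by norm_num), Finsupp.add_apply,
        Nat.prime_two.factorization_self]
    omega
  rw [Sylow.card_eq_multiplicity, h5]
  norm_num

include e in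
theorem q8QuotSylow_exp (hc : Nat.card (Subgroup.center G) = 2)
    (x : (q8QuotSylow S : Sylow 2 (G ⧸ Subgroup.center G))) : x * x = 1 := by
  apply Subtype.ext
  have hx : (x : G ⧸ Subgroup.center G) ∈
      ((q8QuotSylow S : Sylow 2 (G ⧸ Subgroup.center G)) : Subgroup (G ⧸ Subgroup.center G)) := x.2
  rw [coe_q8QuotSylow] at hx
  obtain ⟨s, hs, hsx⟩ := Subgroup.mem_map.mp hx
  rw [Subgroup.coe_mul, Subgroup.coe_one, ← hsx, ← map_mul, ← sq, QuotientGroup.mk'_apply,
    QuotientGroup.eq_one_iff, q8_center_iff S e hc]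
  exact q8_mem_sq_cases (S : Subgroup G) e s hs

include e in
theorem q8_quot_isConj (htrans : Q8Trans S) (hc : Nat.card (Subgroup.center G) = 2)
    (s t : G ⧸ Subgroup.center G) (hs : orderOf s = 2) (ht : orderOf t = 2) : IsConj s t := by
  have key : ∀ u : G ⧸ Subgroup.center G, orderOf u = 2 →
      ∃ x : G, x ∈ (S : Subgroup G) ∧ orderOf x = 4 ∧
        IsConj u (QuotientGroup.mk' (Subgroup.center G) x) := by
    intro u hu
    obtain ⟨c, hcu⟩ := exists_conj_mem_sylow (q8QuotSylow S) u ⟨1, by rw [hu, pow_one]⟩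
    rw [coe_q8QuotSylow] at hcu
    obtain ⟨x, hx, hxu⟩ := Subgroup.mem_map.mp hcu
    have hne : c⁻¹ * u * c ≠ 1 := by
      intro h
      have : u = 1 := by
        have h2 : u = c * (c⁻¹ * u * c) * c⁻¹ := by group
        rw [h2, h]; group
      rw [this, orderOf_one] at hu
      omega
    have hxc : x ∉ Subgroup.center G := by
      intro h
      apply hne
      rw [← hxu, QuotientGroup.mk'_apply, QuotientGroup.eq_one_iff]
      exact h
    rw [q8_center_iff S e hc] at hxc
    push Not at hxc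
    refine ⟨x, hx, q8_orderOf_four S e x hx hxc.1 hxc.2, ?_⟩
    rw [hxu]
    exact isConj_iff.mpr ⟨c⁻¹, by group⟩
  obtain ⟨x, hx, hx4, hxs⟩ := key s hs
  obtain ⟨x', hx', hx4', hxt⟩ := key t ht
  obtain ⟨n, hn⟩ := q8_conj_or_inv S htrans x x' hx hx' hx4 hx4'
  have hinv : QuotientGroup.mk' (Subgroup.center G) x⁻¹ = QuotientGroup.mk' (Subgroup.center G) x := by
    rw [map_inv, inv_eq_iff_mul_eq_one, ← map_mul, ← sq, QuotientGroup.mk'_apply,
      QuotientGroup.eq_one_iff, q8_center_iff S e hc]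
    exact q8_mem_sq_cases (S : Subgroup G) e x hx
  have hmid : IsConj (QuotientGroup.mk' (Subgroup.center G) x)
      (QuotientGroup.mk' (Subgroup.center G) x') := by
    rcases hn with hn | hn
    · rw [hn, map_mul, map_mul, map_inv]
      exact isConj_iff.mpr ⟨_, rfl⟩
    · rw [hn, map_mul, map_mul, hinv, map_inv]
      exact isConj_iff.mpr ⟨_, rfl⟩
  exact (hxs.trans hmid).trans hxt.symm

end

end Cfsg.Agent.Lib.Helper20
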