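import Mathlib
import Cfsg.Agent.Lib.Helper20.D8Group
import Cfsg.Agent.Lib.Helper20.Q8Central
import Cfsg.Agent.S0111

/-!
# Groups with an involution whose centralizer is dihedral of order eight (helper20)

Group-theoretic consequences: the centralizer is a Sylow `2`-subgroup, the cyclic subgroup of
order four is a TI-set with normalizer `D`, and (for perfect groups) all involutions are
conjugate.
-/

set_option autoImplicit false

namespace Cfsg.Agent.Lib.Helper20

open DihedralGroup

section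

variable {G : Type*} [Group G] (t : G) (e : Subgroup.centralizer ({t} : Set G) ≃* DihedralGroup 4)

theorem d8g_mem_iff (x : G) : x ∈ Subgroup.centralizer ({t} : Set G) ↔ t * x = x * t := by
  rw [Subgroup.mem_centralizer_iff]
  simp

theorem d8g_t_mem : t ∈ Subgroup.centralizer ({t} : Set G) := (d8g_mem_iff t t).mpr rfl

theorem d8g_t_eq (ht : orderOf t = 2) : t = d8A _ e ^ 2 := by
  apply d8_central _ e (d8g_t_mem t)
  · intro y hy
    exact (d8g_mem_iff t y).mp hy
  · intro h
    rw [h, orderOf_one] at ht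
    omega

theorem d8g_centralizer_a (ht : orderOf t = 2) (g : G)
    (hg : g * d8A _ e = d8A _ e * g) : g ∈ Subgroup.zpowers (d8A _ e) := by
  have hD : g ∈ Subgroup.centralizer ({t} : Set G) := by
    rw [d8g_mem_iff, d8g_t_eq t e ht, sq]
    calc d8A _ e * d8A _ e * g = d8A _ e * (d8A _ e * g) := mul_assoc _ _ _
      _ = d8A _ e * (g * d8A _ e) := by rw [hg]
      _ = (d8A _ e * g) * d8A _ e := (mul_assoc _ _ _).symm
      _ = (g * d8A _ e) * d8A _ e := by rw [hg]
      _ = g * (d8A _ e * d8A _ e) := mul_assoc _ _ _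
  exact d8_comm_mem _ e hD hg

theorem d8g_eq_or_sq (ht : orderOf t = 2) (y : G) (hy : y ∈ Subgroup.zpowers (d8A _ e))
    (hy1 : y ≠ 1) : y = t ∨ y * y = t := by
  classical
  have h4 := orderOf_d8A _ e
  have hfin : IsOfFinOrder (d8A _ e) := by
    rw [← orderOf_pos_iff, h4]; norm_num
  rw [hfin.mem_zpowers_iff_mem_range_orderOf, h4] at hy
  simp only [Finset.mem_image, Finset.mem_range] at hy
  obtain ⟨k, hk, rfl⟩ := hy
  have h44 : d8A _ e ^ 4 = 1 := by rw [← h4]; exact pow_orderOf_eq_one _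
  have hta : d8A _ e ^ 2 = t := (d8g_t_eq t e ht).symm
  interval_cases k
  · exact absurd (pow_zero _) hy1
  · right
    rw [pow_one, ← sq]
    exact hta
  · left; exact hta
  · right
    refine Eq.trans ?_ hta
    rw [← pow_add]
    show d8A _ e ^ (4 + 2) = _
    rw [pow_add, h44, one_mul]

theorem d8g_TI (ht : orderOf t = 2) (x y : G) (hy : y ∈ Subgroup.zpowers (d8A _ e)) (hy1 : y ≠ 1)
    (hxy : x⁻¹ * y * x ∈ Subgroup.zpowers (d8A _ e)) :
    x ∈ Subgroup.centralizer ({t} : Set G) := by
  have ht1 : t ≠ 1 := by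
    intro h; rw [h, orderOf_one] at ht; omega
  have htt : t * t = 1 := by
    rw [← sq, ← ht]; exact pow_orderOf_eq_one t
  have key : x⁻¹ * t * x = t := by
    have hmem : x⁻¹ * t * x ∈ Subgroup.zpowers (d8A _ e) := by
      rcases d8g_eq_or_sq t e ht y hy hy1 with h | h
      · have : x⁻¹ * t * x = x⁻¹ * y * x := by rw [h]
        rw [this]; exact hxy
      · have : x⁻¹ * t * x = (x⁻¹ * y * x) * (x⁻¹ * y * x) := by
          calc x⁻¹ * t * x = x⁻¹ * (y * y) * x := by rw [h]
            _ = (x⁻¹ * y * x) * (x⁻¹ * y * x) := by group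
        rw [this]
        exact Subgroup.mul_mem _ hxy hxy
    have h2 : (x⁻¹ * t * x) * (x⁻¹ * t * x) = 1 := by
      calc (x⁻¹ * t * x) * (x⁻¹ * t * x) = x⁻¹ * (t * t) * x := by group
        _ = 1 := by rw [htt]; group
    have h1 : x⁻¹ * t * x ≠ 1 := by
      intro h
      apply ht1
      calc t = x * (x⁻¹ * t * x) * x⁻¹ := by group
        _ = 1 := by rw [h]; group
    exact (d8_mem_zpowers_sq_eq_one _ e hmem h2 h1).trans (d8g_t_eq t e ht).symm
  rw [d8g_mem_iff]
  calc t * x = x * (x⁻¹ * t * x) := by group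
    _ = x * t := by rw [key]

variable [Finite G]

omit [Finite G] in
include e in
theorem d8g_isPGroup : IsPGroup 2 (Subgroup.centralizer ({t} : Set G)) :=
  IsPGroup.of_card (n := 3) (by rw [d8_card _ e]; norm_num)

include e in
theorem d8g_exists_sylow (ht : orderOf t = 2) :
    ∃ P : Sylow 2 G, (P : Subgroup G) = Subgroup.centralizer ({t} : Set G) := by
  have : Fact (Nat.Prime 2) := ⟨Nat.prime_two⟩
  obtain ⟨P, hP⟩ := (d8g_isPGroup t e).exists_le_sylow
  refine ⟨P, le_antisymm ?_ hP⟩
  by_contra hnot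
  have hnil : Group.IsNilpotent (P : Subgroup G) := P.isPGroup'.isNilpotent
  have hlt : (Subgroup.centralizer ({t} : Set G)).subgroupOf (P : Subgroup G) < ⊤ := by
    rw [lt_top_iff_ne_top]
    intro h
    apply hnot
    rw [Subgroup.subgroupOf_eq_top] at h
    exact h
  have hnc := Group.normalizerCondition_of_isNilpotent (G := (P : Subgroup G)) _ hlt
  obtain ⟨g, hgN, hgD⟩ := SetLike.exists_of_lt hnc
  rw [Subgroup.mem_subgroupOf] at hgD
  apply hgD
  -- `g` normalizes `D`
  have hnorm : ∀ d ∈ Subgroup.centralizer ({t} : Set G),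
      (g : G)⁻¹ * d * g ∈ Subgroup.centralizer ({t} : Set G) := by
    intro d hd
    have hdP : d ∈ (P : Subgroup G) := hP hd
    have h1 := (Subgroup.mem_normalizer_iff.mp hgN) (g⁻¹ * ⟨d, hdP⟩ * g)
    rw [Subgroup.mem_subgroupOf, Subgroup.mem_subgroupOf] at h1
    have h2 : ((g * (g⁻¹ * ⟨d, hdP⟩ * g) * g⁻¹ : (P : Subgroup G)) : G) = d := by
      simp only [Subgroup.coe_mul, Subgroup.coe_inv]
      group
    rw [h2] at h1
    have h3 := h1.mpr hd
    simpa only [Subgroup.coe_mul, Subgroup.coe_inv] using h3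
  have hnorm' : (g : G) * t * (g : G)⁻¹ ∈ Subgroup.centralizer ({t} : Set G) := by
    have h1 := (Subgroup.mem_normalizer_iff.mp hgN) ⟨t, hP (d8g_t_mem t)⟩
    rw [Subgroup.mem_subgroupOf, Subgroup.mem_subgroupOf] at h1
    have h3 := h1.mp (d8g_t_mem t)
    simpa only [Subgroup.coe_mul, Subgroup.coe_inv] using h3
  have ht1 : t ≠ 1 := by
    intro h; rw [h, orderOf_one] at ht; omega
  have hx1 : (g : G) * t * (g : G)⁻¹ ≠ 1 := by
    intro h
    apply ht1
    calc t = (g : G)⁻¹ * ((g : G) * t * (g : G)⁻¹) * g := by group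
      _ = 1 := by rw [h]; group
  have hcen : ∀ y ∈ Subgroup.centralizer ({t} : Set G),
      ((g : G) * t * (g : G)⁻¹) * y = y * ((g : G) * t * (g : G)⁻¹) := by
    intro y hy
    have h1 := (d8g_mem_iff t _).mp (hnorm y hy)
    calc ((g : G) * t * (g : G)⁻¹) * y = (g : G) * (t * ((g : G)⁻¹ * y * g)) * (g : G)⁻¹ := by group
      _ = (g : G) * (((g : G)⁻¹ * y * g) * t) * (g : G)⁻¹ := by rw [h1]
      _ = y * ((g : G) * t * (g : G)⁻¹) := by group
  have h5 := d8_central _ e hnorm' hcen hx1
  rw [← d8g_t_eq t e ht] at h5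
  rw [d8g_mem_iff]
  calc t * (g : G) = ((g : G) * t * (g : G)⁻¹)⁻¹ * ((g : G) * t * (g : G)⁻¹) * t * g := by group
    _ = (g : G) * t := by
      rw [h5]
      have htt : t * t = 1 := by
        rw [← sq, ← ht]; exact pow_orderOf_eq_one t
      calc t⁻¹ * t * t * (g : G) = t * g := by group
        _ = (g : G) * ((g : G)⁻¹ * t * g) := by group
        _ = (g : G) * t := by
          congr 1
          have : (g : G)⁻¹ * ((g : G) * t * (g : G)⁻¹) * g = (g : G)⁻¹ * t * g := by rw [h5]
          rw [← this]; group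

omit [Finite G] in
theorem d8g_relIndex :
    (Subgroup.zpowers (d8A _ e)).relIndex (Subgroup.centralizer ({t} : Set G)) = 2 := by
  have hle := d8_zpowers_le _ e
  have h1 := ((Subgroup.zpowers (d8A _ e)).subgroupOf
    (Subgroup.centralizer ({t} : Set G))).card_mul_index
  rw [Nat.card_congr (Subgroup.subgroupOfEquivOfLe hle).toEquiv, d8_card_zpowers, d8_card _ e] at h1
  rw [Subgroup.relIndex]
  omega

include e in
theorem d8g_isConj_of_orderOf_two (ht : orderOf t = 2) (hperf : commutator G = ⊤) (s : G)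
    (hs : orderOf s = 2) : IsConj t s := by
  have : Fact (Nat.Prime 2) := ⟨Nat.prime_two⟩
  obtain ⟨P, hP⟩ := d8g_exists_sylow t e ht
  obtain ⟨c, hc⟩ := exists_conj_mem_sylow P s ⟨1, by rw [hs, pow_one]⟩
  rw [hP] at hc
  set s' := c⁻¹ * s * c with hs'
  have hs'2 : orderOf s' = 2 := by
    have := (MulAut.conj c⁻¹).orderOf_eq s
    rw [hs', ← hs, ← this]
    simp [MulAut.conj_apply]
  have hss : s' * s' = 1 := by
    rw [← sq, ← hs'2]; exact pow_orderOf_eq_one s'
  have hs'1 : s' ≠ 1 := by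
    intro h; rw [h, orderOf_one] at hs'2; omega
  have hfin : ∀ u : G, u ∈ Subgroup.zpowers (d8A _ e) → u * u = 1 → u ≠ 1 → u = t := by
    intro u hu huu hu1
    exact (d8_mem_zpowers_sq_eq_one _ e hu huu hu1).trans (d8g_t_eq t e ht).symm
  have hconj : ∀ g : G, g * s' * g⁻¹ = t → IsConj t s := by
    intro g hg
    rw [isConj_comm, isConj_iff]
    refine ⟨g * c⁻¹, ?_⟩
    rw [← hg, hs']
    group
  by_cases hmem : s' ∈ Subgroup.zpowers (d8A _ e)
  · apply hconj 1
    rw [one_mul, inv_one, mul_one]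
    exact hfin s' hmem hss hs'1
  · have h1 := Cfsg.Agent.S0111.result P (Subgroup.zpowers (d8A _ e))
      (by rw [hP]; exact d8_zpowers_le _ e) (by rw [hP]; exact d8g_relIndex t e) s' hs'2
      (by rw [hP]; exact hc) hmem
    rcases h1 with ⟨M, hMn, hMi, -⟩ | ⟨g, hg⟩
    · exfalso
      have hcard : Nat.card (G ⧸ M) = 2 := by rw [← Subgroup.index_eq_card]; exact hMi
      have hcyc : IsCyclic (G ⧸ M) := isCyclic_of_prime_card hcard
      let _ : CommGroup (G ⧸ M) := IsCyclic.commGroup
      have hle := Abelianization.commutator_subset_ker (QuotientGroup.mk' M)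
      rw [QuotientGroup.ker_mk', hperf, top_le_iff] at hle
      rw [hle, Subgroup.index_top] at hMi
      omega
    · apply hconj g
      apply hfin _ hg
      · calc (g * s' * g⁻¹) * (g * s' * g⁻¹) = g * (s' * s') * g⁻¹ := by group
          _ = 1 := by rw [hss]; group
      · intro h
        apply hs'1
        calc s' = g⁻¹ * (g * s' * g⁻¹) * g := by group
          _ = 1 := by rw [h]; group

end

end Cfsg.Agent.Lib.Helper20
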