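import Mathlib
import Cfsg.Agent.Lib.Helper20.D8Char
import Cfsg.Agent.Lib.Helper20.D8Count
import Cfsg.Agent.Lib.Helper22.KleinFourBlock
import Cfsg.Agent.Lib.Helper04.Basis
import Cfsg.Agent.Lib.Helper82.Regular

/-!
# The order formula for groups with an involution centralizer `D₈` (helper20)
-/

set_option autoImplicit false
set_option linter.unusedSectionVars false

namespace Cfsg.Agent.Lib.Helper20

open scoped ComplexConjugate
open Cfsg
open Cfsg.Agent.Lib.Helper34

section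

variable {G : Type*} [Group G] (cfg : D8Config G)

theorem D8Config.a_pow_four : cfg.a ^ 4 = 1 := by
  rw [← cfg.ha4]; exact pow_orderOf_eq_one _

theorem D8Config.sum_C [Fintype cfg.C] (F : cfg.C → ℂ) :
    ∑ y, F y = F 1 + F cfg.a' + F (cfg.a' ^ 2) + F (cfg.a' ^ 3) := by
  classical
  have h4 := cfg.orderOf_a'
  have hfin : IsOfFinOrder cfg.a' := by rw [← orderOf_pos_iff, h4]; norm_num
  have huniv : (Finset.univ : Finset cfg.C) = (Finset.range 4).image (fun k => cfg.a' ^ k) := by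
    ext y
    simp only [Finset.mem_univ, true_iff]
    have := hfin.mem_zpowers_iff_mem_range_orderOf.mp (cfg.hgen y)
    rwa [h4] at this
  rw [huniv, Finset.sum_image]
  · simp [Finset.sum_range_succ]
  · intro i hi j hj hij
    apply pow_injOn_Iio_orderOf _ _ hij
    · simpa [h4] using hi
    · simpa [h4] using hj

theorem D8Config.inv_eq_conj : cfg.a⁻¹ = cfg.w⁻¹ * cfg.a * (cfg.w⁻¹)⁻¹ := by
  rw [inv_inv, cfg.hwa]

theorem D8Config.orderOf_a_sq : orderOf (cfg.a ^ 2) = 2 := by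
  rw [orderOf_pow' _ (by norm_num), cfg.ha4]
  norm_num

variable [Fintype G]

theorem D8Config.char_inv_a {χ : G → ℂ} (hχ : IsIrrCharacter G χ) : χ cfg.a⁻¹ = χ cfg.a := by
  rw [cfg.inv_eq_conj]
  exact Cfsg.Agent.Lib.Helper04.isClassFunction_of_isIrrCharacter hχ cfg.a cfg.w⁻¹

theorem D8Config.conj_char_a {χ : G → ℂ} (hχ : IsIrrCharacter G χ) : conj (χ cfg.a) = χ cfg.a := by
  rw [← Cfsg.Agent.Lib.Helper83.char_inv (Cfsg.Agent.Lib.Helper83.isCharacter_of_irr hχ),
    cfg.char_inv_a hχ]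

theorem D8Config.conj_char_a_sq {χ : G → ℂ} (hχ : IsIrrCharacter G χ) :
    conj (χ (cfg.a ^ 2)) = χ (cfg.a ^ 2) := by
  rw [← Cfsg.Agent.Lib.Helper83.char_inv (Cfsg.Agent.Lib.Helper83.isCharacter_of_irr hχ)]
  congr 1
  rw [inv_eq_iff_mul_eq_one, ← pow_add]
  exact cfg.a_pow_four

theorem D8Config.conj_char_a_cube {χ : G → ℂ} (hχ : IsIrrCharacter G χ) :
    conj (χ (cfg.a ^ 3)) = χ cfg.a := by
  rw [← Cfsg.Agent.Lib.Helper83.char_inv (Cfsg.Agent.Lib.Helper83.isCharacter_of_irr hχ)]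
  congr 1
  rw [inv_eq_iff_mul_eq_one, ← pow_succ]
  exact cfg.a_pow_four

theorem D8Config.classInner_Theta_irr {χ : G → ℂ} (hχ : IsIrrCharacter G χ) :
    classInner cfg.Theta χ = (χ cfg.a + χ (cfg.a ^ 2)) / 2 := by
  classical
  have : Fintype cfg.C := Fintype.ofFinite _
  rw [D8Config.Theta, classInner_indFun_left cfg.C cfg.theta χ
    (Cfsg.Agent.Lib.Helper04.isClassFunction_of_isIrrCharacter hχ), classInner_def, cfg.sum_C]
  have hcard : (Nat.card cfg.C : ℂ) = 4 := by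
    rw [Nat.card_zpowers, cfg.ha4]; norm_num
  have h1 : cfg.theta 1 = 0 := cfg.theta_one
  have h2 : cfg.theta cfg.a' = 1 - Complex.I := by
    rw [D8Config.theta_apply, cfg.hμa, iUnit_coe]
  have h3 : cfg.theta (cfg.a' ^ 2) = 2 := by
    rw [D8Config.theta_apply, map_pow, cfg.hμa, Units.val_pow_eq_pow_val, iUnit_coe,
      Complex.I_sq]
    norm_num
  have h4 : cfg.theta (cfg.a' ^ 3) = 1 + Complex.I := by
    rw [D8Config.theta_apply, map_pow, cfg.hμa, Units.val_pow_eq_pow_val, iUnit_coe,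
      Complex.I_pow_three]
    ring
  have e1 : ((cfg.a' : cfg.C) : G) = cfg.a := rfl
  have e2 : ((cfg.a' ^ 2 : cfg.C) : G) = cfg.a ^ 2 := rfl
  have e3 : ((cfg.a' ^ 3 : cfg.C) : G) = cfg.a ^ 3 := rfl
  rw [hcard, h1, h2, h3, h4, e1, e2, e3, cfg.conj_char_a hχ, cfg.conj_char_a_sq hχ,
    cfg.conj_char_a_cube hχ]
  ring

end

/-- the arithmetic at the end -/
theorem d8_arith (N d₂ : ℕ) (hd : 0 < d₂) (hmod : N % 16 = 8)
    (h : 256 * d₂ * (d₂ + 1) = N * (d₂ + 2) ^ 2 ∨ 256 * d₂ * (d₂ + 1) + N * (2 * d₂) = N * (d₂ ^ 2 + 1)) :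
    N = 168 ∨ N = 360 := by
  rcases h with h | h
  · -- `N < 256`
    have hN : N < 256 := by
      by_contra hge
      push Not at hge
      nlinarith
    have hN8 : N ≤ 248 := by omega
    have hb : d₂ < 96 := by
      by_contra hge
      push Not at hge
      nlinarith
    interval_cases d₂ <;> omega
  · have hN : 256 < N := by
      by_contra hge
      push Not at hge
      nlinarith
    have hN8 : 264 ≤ N := by omega
    have hb : d₂ < 100 := by
      by_contra hge
      push Not at hge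
      obtain ⟨M, rfl⟩ : ∃ M, N = 264 + M := ⟨N - 264, by omega⟩
      obtain ⟨k, rfl⟩ : ∃ k, d₂ = 100 + k := ⟨d₂ - 100, by omega⟩
      ring_nf at h
      nlinarith [Nat.zero_le (M * k ^ 2), Nat.zero_le (M * k), Nat.zero_le (k ^ 2)]
    interval_cases d₂ <;> omega

end Cfsg.Agent.Lib.Helper20
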