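import Mathlib
import Cfsg.Agent.Lib.Helper20.D8Order

/-!
# Order `168` or `360` from the exceptional characters (helper20)
-/

set_option autoImplicit false
set_option linter.unusedSectionVars false

namespace Cfsg.Agent.Lib.Helper20

open scoped ComplexConjugate
open Cfsg
open Cfsg.Agent.Lib.Helper34

section

variable {G : Type*} [Group G] [Fintype G] (cfg : D8Config G)

theorem D8Config.order
    (hcent : Nat.card (Subgroup.centralizer ({cfg.a ^ 2} : Set G)) = 8)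
    (hinv : ∀ s : G, orderOf s = 2 → IsConj (cfg.a ^ 2) s)
    (hcnt_a : Nat.card {x : G // orderOf x = 2 ∧ orderOf (x * cfg.a) = 2} = 4)
    (hcnt_t : Nat.card {x : G // orderOf x = 2 ∧ orderOf (x * cfg.a ^ 2) = 2} = 4)
    (hmod : Nat.card G % 16 = 8) : Nat.card G = 168 ∨ Nat.card G = 360 := by
  classical
  set T := cfg.a ^ 2 with hT
  have hT2 : orderOf T = 2 := cfg.orderOf_a_sq
  have hTinv : T⁻¹ = T := inv_eq_self_of_orderOf_two T hT2
  obtain ⟨s, hall, hs1, hs2⟩ := Cfsg.Agent.Lib.Helper82.regularDecomp (G := G)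
  have hs := Cfsg.Agent.Lib.Helper82.RegularDecomp.ite_form hs1 hs2
  obtain ⟨χ₁, χ₂, hχ₁, hχ₂, hne1, hne2, hne12, hdeg, hΘ⟩ := cfg.main
  set one : G → ℂ := fun _ => 1 with hone
  have hirr1 : IsIrrCharacter G one := Cfsg.Agent.Lib.Helper05.isIrrCharacter_one
  set X₀ : IrrCharacter G := ⟨one, hirr1⟩ with hX₀
  set X₁ : IrrCharacter G := ⟨χ₁, hχ₁⟩ with hX₁
  set X₂ : IrrCharacter G := ⟨χ₂, hχ₂⟩ with hX₂
  have h01 : X₀ ≠ X₁ := fun h => hne1 (congrArg Subtype.val h).symm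
  have h02 : X₀ ≠ X₂ := fun h => hne2 (congrArg Subtype.val h).symm
  have h12 : X₁ ≠ X₂ := fun h => hne12 (congrArg Subtype.val h)
  -- integrality at the involution
  have hint : ∀ χ : IrrCharacter G, ∃ n : ℤ, (χ : G → ℂ) T = n := fun χ =>
    Cfsg.Agent.Lib.Helper22.exists_int_char_of_orderOf_two
      (Cfsg.Agent.Lib.Helper83.isCharacter_of_irr χ.2) T hT2
  choose xi hxi using hint
  set x₁ := xi X₁ with hx₁def
  set x₂ := xi X₂ with hx₂def
  have hx₁ : χ₁ T = x₁ := hxi X₁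
  have hx₂ : χ₂ T = x₂ := hxi X₂
  have hx₀ : xi X₀ = 1 := by
    have := hxi X₀
    have h1 : ((xi X₀ : ℤ) : ℂ) = 1 := by rw [← this]
    exact_mod_cast h1
  have h3 : x₂ = x₁ + 3 := by
    have := hΘ T
    rw [cfg.Theta_a_sq, hx₁, hx₂] at this
    have h' : (x₂ : ℂ) = x₁ + 3 := by linear_combination -this
    exact_mod_cast h'
  -- second orthogonality at `T`
  have hE1 : ∑ χ ∈ s, (xi χ) ^ 2 = 8 := by
    have := Cfsg.Agent.Lib.Helper82.sum_char_mul_char_inv_eq_card_centralizer s hs T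
    rw [hTinv, hcent] at this
    have h' : ∑ χ ∈ s, ((xi χ : ℤ) : ℂ) ^ 2 = 8 := by
      rw [show (8 : ℂ) = ((8 : ℕ) : ℂ) by norm_num, ← this]
      apply Finset.sum_congr rfl
      intro χ _
      rw [hxi χ]; ring
    exact_mod_cast h'
  have hsub : ({X₀, X₁, X₂} : Finset (IrrCharacter G)) ⊆ s := fun χ _ => hall χ
  have hle : ∑ χ ∈ ({X₀, X₁, X₂} : Finset (IrrCharacter G)), (xi χ) ^ 2 ≤ ∑ χ ∈ s, (xi χ) ^ 2 :=
    Finset.sum_le_sum_of_subset_of_nonneg hsub (fun χ _ _ => sq_nonneg _)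
  rw [Finset.sum_insert (by simp [h01, h02]), Finset.sum_insert (by simp [h12]),
    Finset.sum_singleton, hE1, hx₀, ← hx₁def, ← hx₂def, h3] at hle
  have hx₁cases : x₁ = -1 ∨ x₁ = -2 := by
    have h1 : -3 < x₁ := by
      by_contra hcon
      push Not at hcon
      nlinarith
    have h2 : x₁ < 0 := by
      by_contra hcon
      push Not at hcon
      nlinarith
    omega
  -- the inner products with `Θ`
  have hΘfun : cfg.Theta = one + χ₂ - χ₁ := by
    funext g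
    rw [hΘ g]; rfl
  have hcI : ∀ χ : IrrCharacter G, classInner cfg.Theta (χ : G → ℂ) =
      (if χ = X₀ then (1 : ℂ) else 0) + (if χ = X₂ then 1 else 0) - (if χ = X₁ then 1 else 0) := by
    intro χ
    have key : ∀ (ψ : G → ℂ) (hψ : IsIrrCharacter G ψ),
        classInner ψ (χ : G → ℂ) = if χ = ⟨ψ, hψ⟩ then (1 : ℂ) else 0 := by
      intro ψ hψ
      split_ifs with h
      · rw [h]; exact Cfsg.Agent.Lib.Helper05.classInner_irr_self hψ
      · exact Cfsg.Agent.Lib.Helper05.classInner_irr_ne hψ χ.2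
          (fun h' => h (Subtype.ext h'.symm))
    rw [hΘfun, classInner_sub_left, classInner_add_left, key one hirr1, key χ₂ hχ₂, key χ₁ hχ₁]
  have hrel : ∀ χ : IrrCharacter G, (χ : G → ℂ) cfg.a⁻¹ + (χ : G → ℂ) T⁻¹ =
      2 * ((if χ = X₀ then (1 : ℂ) else 0) + (if χ = X₂ then 1 else 0) -
        (if χ = X₁ then 1 else 0)) := by
    intro χ
    rw [← hcI χ, cfg.classInner_Theta_irr χ.2, cfg.char_inv_a χ.2, hTinv]
    ring
  -- class multiplication constants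
  have hc64 : Nat.card (Subgroup.centralizer ({T} : Set G)) ^ 2 = 64 := by rw [hcent]; norm_num
  have hcardA : (Finset.univ.filter fun x : G => orderOf x = 2 ∧ orderOf (x * cfg.a) = 2).card
      = 4 := by
    rw [← hcnt_a, Nat.card_eq_fintype_card, Fintype.card_subtype]
  have hcardT : (Finset.univ.filter fun x : G => orderOf x = 2 ∧ orderOf (x * T) = 2).card
      = 4 := by
    rw [← hcnt_t, Nat.card_eq_fintype_card, Fintype.card_subtype]
  have hNA := Cfsg.Agent.Lib.Helper82.card_conj_mul_conj_eq s hs T T cfg.a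
  have hNT := Cfsg.Agent.Lib.Helper82.card_conj_mul_conj_eq s hs T T T
  rw [card_pairs_conj_inv T cfg.a hT2 hinv, hc64, hcardA] at hNA
  rw [card_pairs_conj_inv T T hT2 hinv, hc64, hcardT] at hNT
  have hsum : (512 : ℂ) = (Fintype.card G : ℂ) *
      ∑ χ ∈ s, (χ : G → ℂ) T * (χ : G → ℂ) T * ((χ : G → ℂ) cfg.a⁻¹ + (χ : G → ℂ) T⁻¹) /
        (χ : G → ℂ) 1 := by
    have : ∑ χ ∈ s, (χ : G → ℂ) T * (χ : G → ℂ) T * ((χ : G → ℂ) cfg.a⁻¹ + (χ : G → ℂ) T⁻¹) /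
        (χ : G → ℂ) 1 = ∑ χ ∈ s, (χ : G → ℂ) T * (χ : G → ℂ) T * (χ : G → ℂ) cfg.a⁻¹ /
        (χ : G → ℂ) 1 + ∑ χ ∈ s, (χ : G → ℂ) T * (χ : G → ℂ) T * (χ : G → ℂ) T⁻¹ /
        (χ : G → ℂ) 1 := by
      rw [← Finset.sum_add_distrib]
      apply Finset.sum_congr rfl
      intro χ _
      ring
    rw [this, mul_add, ← hNA, ← hNT]
    norm_num
  obtain ⟨d₂, hd₂⟩ := Cfsg.Agent.Lib.Helper83.char_one_eq_nat
    (Cfsg.Agent.Lib.Helper83.isCharacter_of_irr hχ₂)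
  have hd₂0 : d₂ ≠ 0 := by
    intro h
    exact Cfsg.Agent.Lib.Helper83.irr_degree_ne_zero X₂ (by
      show χ₂ 1 = 0
      rw [hd₂, h]; simp)
  have hd₁ : χ₁ 1 = (d₂ : ℂ) + 1 := by rw [hdeg, hd₂]
  have hsum2 : ∑ χ ∈ s, (χ : G → ℂ) T * (χ : G → ℂ) T *
      ((χ : G → ℂ) cfg.a⁻¹ + (χ : G → ℂ) T⁻¹) / (χ : G → ℂ) 1 =
      2 * (1 + (x₂ : ℂ) ^ 2 / d₂ - (x₁ : ℂ) ^ 2 / ((d₂ : ℂ) + 1)) := by
    simp only [hrel]
    have : ∀ χ : IrrCharacter G, (χ : G → ℂ) T * (χ : G → ℂ) T *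
        (2 * ((if χ = X₀ then (1 : ℂ) else 0) + (if χ = X₂ then 1 else 0) -
          (if χ = X₁ then 1 else 0))) / (χ : G → ℂ) 1 =
        (if χ = X₀ then 2 * ((χ : G → ℂ) T * (χ : G → ℂ) T / (χ : G → ℂ) 1) else 0) +
        (if χ = X₂ then 2 * ((χ : G → ℂ) T * (χ : G → ℂ) T / (χ : G → ℂ) 1) else 0) -
        (if χ = X₁ then 2 * ((χ : G → ℂ) T * (χ : G → ℂ) T / (χ : G → ℂ) 1) else 0) := by
      intro χ
      split_ifs <;> ring
    simp only [this, Finset.sum_add_distrib, Finset.sum_sub_distrib, Finset.sum_ite_eq', hall,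
      if_true]
    show 2 * (one T * one T / one 1) + 2 * (χ₂ T * χ₂ T / χ₂ 1) - 2 * (χ₁ T * χ₁ T / χ₁ 1) = _
    rw [hx₁, hx₂, hd₂, hd₁]
    simp only [hone]
    ring
  rw [hsum2] at hsum
  have hN : (Fintype.card G : ℂ) = (Nat.card G : ℂ) := by rw [Nat.card_eq_fintype_card]
  rw [hN] at hsum
  have hd₂c : (d₂ : ℂ) ≠ 0 := Nat.cast_ne_zero.mpr hd₂0
  have hd₁c : (d₂ : ℂ) + 1 ≠ 0 := by
    have : ((d₂ + 1 : ℕ) : ℂ) ≠ 0 := Nat.cast_ne_zero.mpr (Nat.succ_ne_zero d₂)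
    simpa using this
  apply d8_arith (Nat.card G) d₂ (Nat.pos_of_ne_zero hd₂0) hmod
  rcases hx₁cases with h | h
  · left
    have hx2 : x₂ = 2 := by rw [h3, h]; norm_num
    rw [h, hx2] at hsum
    have h' : (256 : ℂ) * d₂ * (d₂ + 1) = (Nat.card G : ℂ) * ((d₂ : ℂ) + 2) ^ 2 := by
      field_simp at hsum
      push_cast at hsum
      linear_combination hsum / 2
    exact_mod_cast h'
  · right
    have hx2 : x₂ = 1 := by rw [h3, h]; norm_num
    rw [h, hx2] at hsum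
    have h' : (256 : ℂ) * d₂ * (d₂ + 1) + (Nat.card G : ℂ) * (2 * d₂) =
        (Nat.card G : ℂ) * ((d₂ : ℂ) ^ 2 + 1) := by
      field_simp at hsum
      push_cast at hsum
      linear_combination hsum / 2
    exact_mod_cast h'

end

end Cfsg.Agent.Lib.Helper20
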