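import Mathlib
import Cfsg.Agent.Lib.Helper20.D8Global

/-!
# Pairs of involutions with a given product, centralizer `D₈` (helper20)
-/

set_option autoImplicit false

namespace Cfsg.Agent.Lib.Helper20

open DihedralGroup

section

variable {G : Type*} [Group G] (t : G) (e : Subgroup.centralizer ({t} : Set G) ≃* DihedralGroup 4)

theorem d8g_sq_eq_one_of_orderOf_two {x : G} (hx : orderOf x = 2) : x * x = 1 := by
  rw [← sq, ← hx]; exact pow_orderOf_eq_one x

theorem d8g_ne_one_of_orderOf_two {x : G} (hx : orderOf x = 2) : x ≠ 1 := by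
  intro h; rw [h, orderOf_one] at hx; omega

theorem d8g_pairs_a_iff (ht : orderOf t = 2) (x : G) :
    (orderOf x = 2 ∧ orderOf (x * d8A _ e) = 2) ↔
      (x ∈ Subgroup.centralizer ({t} : Set G) ∧ x ∉ Subgroup.zpowers (d8A _ e)) := by
  set A := d8A _ e with hA
  have hA4 : orderOf A = 4 := orderOf_d8A _ e
  have hA1 : A ≠ 1 := by
    intro h; rw [h, orderOf_one] at hA4; omega
  constructor
  · rintro ⟨hx2, hxa2⟩
    have hxx := d8g_sq_eq_one_of_orderOf_two hx2
    have hxaxa := d8g_sq_eq_one_of_orderOf_two hxa2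
    have hxinv : x⁻¹ = x := inv_eq_of_mul_eq_one_left hxx
    have hconj : x⁻¹ * A * x = A⁻¹ := by
      rw [hxinv]
      have : x * A * x * A = 1 := by
        calc x * A * x * A = (x * A) * (x * A) := by group
          _ = 1 := hxaxa
      exact eq_inv_of_mul_eq_one_left this
    have hmemA : A ∈ Subgroup.zpowers A := Subgroup.mem_zpowers A
    have hxD : x ∈ Subgroup.centralizer ({t} : Set G) :=
      d8g_TI t e ht x A hmemA hA1 (by rw [hconj]; exact Subgroup.inv_mem _ hmemA)
    refine ⟨hxD, ?_⟩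
    intro hxZ
    -- `x` commutes with `A`, so `A = A⁻¹`
    obtain ⟨k, hk⟩ := Subgroup.mem_zpowers_iff.mp hxZ
    have hcomm : x⁻¹ * A * x = A := by
      rw [← hk]; group
    rw [hcomm] at hconj
    have hAA : A ^ 2 = 1 := by
      rw [sq]
      nth_rewrite 1 [hconj]
      exact inv_mul_cancel A
    have := orderOf_dvd_of_pow_eq_one hAA
    rw [hA4] at this
    omega
  · rintro ⟨hxD, hxZ⟩
    refine ⟨d8_orderOf_of_not_mem _ e hxD hxZ, ?_⟩
    apply d8_orderOf_of_not_mem _ e
      (Subgroup.mul_mem _ hxD (d8A_mem _ e))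
    intro h
    apply hxZ
    have := Subgroup.mul_mem _ h (Subgroup.inv_mem _ (Subgroup.mem_zpowers A))
    rwa [mul_inv_cancel_right] at this

theorem d8g_pairs_t_iff (ht : orderOf t = 2) (x : G) :
    (orderOf x = 2 ∧ orderOf (x * d8A _ e ^ 2) = 2) ↔
      (x ∈ Subgroup.centralizer ({t} : Set G) ∧ x ∉ Subgroup.zpowers (d8A _ e)) := by
  set A := d8A _ e with hA
  have hAt : A ^ 2 = t := (d8g_t_eq t e ht).symm
  have htt := d8g_sq_eq_one_of_orderOf_two ht
  constructor
  · rintro ⟨hx2, hxt2⟩
    rw [hAt] at hxt2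
    have hxx := d8g_sq_eq_one_of_orderOf_two hx2
    have hxtxt := d8g_sq_eq_one_of_orderOf_two hxt2
    have hxD : x ∈ Subgroup.centralizer ({t} : Set G) := by
      rw [d8g_mem_iff]
      have h1 : x * t * x * t = 1 := by
        calc x * t * x * t = (x * t) * (x * t) := by group
          _ = 1 := hxtxt
      have h2 : x * t * x = t := by
        have := eq_inv_of_mul_eq_one_left h1
        rw [this]
        exact inv_eq_of_mul_eq_one_left htt
      calc t * x = (x * x) * t * x := by rw [hxx, one_mul]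
        _ = x * (x * t * x) := by group
        _ = x * t := by rw [h2]
    refine ⟨hxD, ?_⟩
    intro hxZ
    have hxt : x = t :=
      (d8_mem_zpowers_sq_eq_one _ e hxZ hxx (d8g_ne_one_of_orderOf_two hx2)).trans hAt
    rw [hxt, htt, orderOf_one] at hxt2
    omega
  · rintro ⟨hxD, hxZ⟩
    refine ⟨d8_orderOf_of_not_mem _ e hxD hxZ, ?_⟩
    have hmem : A ^ 2 ∈ Subgroup.zpowers A := Subgroup.pow_mem _ (Subgroup.mem_zpowers A) 2
    apply d8_orderOf_of_not_mem _ e
      (Subgroup.mul_mem _ hxD (d8_zpowers_le _ e hmem))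
    intro h
    apply hxZ
    have := Subgroup.mul_mem _ h (Subgroup.inv_mem _ hmem)
    rwa [mul_inv_cancel_right] at this

variable [Finite G]

include e in
theorem d8g_card_diff :
    Nat.card {x : G // x ∈ Subgroup.centralizer ({t} : Set G) ∧
      x ∉ Subgroup.zpowers (d8A _ e)} = 4 := by
  classical
  have : Fintype G := Fintype.ofFinite G
  have h8 : (Finset.univ.filter fun x : G => x ∈ Subgroup.centralizer ({t} : Set G)).card = 8 := by
    rw [← d8_card _ e, Nat.card_eq_fintype_card, Fintype.card_subtype]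
  have h4 : (Finset.univ.filter fun x : G => x ∈ Subgroup.zpowers (d8A _ e)).card = 4 := by
    rw [← d8_card_zpowers _ e, Nat.card_eq_fintype_card, Fintype.card_subtype]
  rw [Nat.card_eq_fintype_card, Fintype.card_subtype, Finset.filter_and_not,
    Finset.card_sdiff_of_subset, h8, h4]
  intro x hx
  rw [Finset.mem_filter] at hx ⊢
  exact ⟨hx.1, d8_zpowers_le _ e hx.2⟩

theorem d8g_card_pairs_a (ht : orderOf t = 2) :
    Nat.card {x : G // orderOf x = 2 ∧ orderOf (x * d8A _ e) = 2} = 4 := by
  rw [← d8g_card_diff t e]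
  exact Nat.card_congr (Equiv.subtypeEquivRight (d8g_pairs_a_iff t e ht))

theorem d8g_card_pairs_t (ht : orderOf t = 2) :
    Nat.card {x : G // orderOf x = 2 ∧ orderOf (x * d8A _ e ^ 2) = 2} = 4 := by
  rw [← d8g_card_diff t e]
  exact Nat.card_congr (Equiv.subtypeEquivRight (d8g_pairs_t_iff t e ht))

include e in
theorem d8g_card_mod (ht : orderOf t = 2) : Nat.card G % 16 = 8 := by
  have : Fact (Nat.Prime 2) := ⟨Nat.prime_two⟩
  obtain ⟨P, hP⟩ := d8g_exists_sylow t e ht
  have h1 := P.card_eq_multiplicity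
  have h2 : Nat.card (P : Subgroup G) = 8 := by rw [hP]; exact d8_card _ e
  rw [h2] at h1
  have h3 : (Nat.card G).factorization 2 = 3 := by
    have : (2 : ℕ) ^ 3 = 2 ^ (Nat.card G).factorization 2 := by rw [← h1]; norm_num
    exact (Nat.pow_right_injective (le_refl 2) this).symm
  have hpos : Nat.card G ≠ 0 := Nat.card_pos.ne'
  have h4 : 8 ∣ Nat.card G := by
    have := Nat.ordProj_dvd (Nat.card G) 2
    rwa [h3] at this
  have h5 : ¬ 16 ∣ Nat.card G := by
    have := Nat.pow_succ_factorization_not_dvd hpos Nat.prime_two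
    rwa [h3] at this
  omega

end

end Cfsg.Agent.Lib.Helper20
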