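import Mathlib
import Cfsg.Prelude.Def_Blocks
import Cfsg.Agent.Lib.Helper04.BurnsideSimple
import Cfsg.Agent.Lib.Helper22.KleinFourBlock
import Cfsg.Agent.Lib.Helper22.SectionOrth
import Cfsg.Agent.Lib.Helper82.DefectZero

/-!
# Kazarin's theorem: the character-theoretic core

`G = M⟨x⟩` with `M` a minimal normal subgroup, `x` with a class of `p`-power size, and a prime
`r ≠ p` dividing `|M|` but not the order of `x`: then `x` centralizes `M`.
-/

set_option autoImplicit false

namespace Cfsg.Agent.Lib.Helper20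

open Cfsg Module
open scoped ComplexConjugate

section scalar

variable {G : Type*} [Group G]

/-- an irreducible representation in which every group element acts as a scalar is
one-dimensional -/
theorem finrank_eq_one_of_scalar {V : Type*} [AddCommGroup V] [Module ℂ V]
    [FiniteDimensional ℂ V] (ρ : Representation ℂ G V) [ρ.IsIrreducible]
    (h : ∀ x : G, ∃ s : ℂ, ρ x = s • (LinearMap.id : V →ₗ[ℂ] V)) : finrank ℂ V = 1 := by
  have hnt := Cfsg.Agent.Lib.Helper04.nontrivial_of_irreducible ρ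
  obtain ⟨v, hv⟩ := exists_ne (0 : V)
  let τ : Subrepresentation ρ := ⟨Submodule.span ℂ {v}, by
    intro x w hw
    obtain ⟨s, hs⟩ := h x
    rw [hs]
    simpa using Submodule.smul_mem _ s hw⟩
  have hτ : τ = ⊤ := by
    rcases eq_bot_or_eq_top τ with h1 | h1
    · exfalso
      have : v ∈ τ := Submodule.mem_span_singleton_self v
      rw [h1] at this
      exact hv this
    · exact h1
  have h2 : Submodule.span ℂ {v} = ⊤ := by
    have := congrArg Subrepresentation.toSubmodule hτ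
    exact this
  have h3 := finrank_span_singleton (K := ℂ) hv
  rw [h2, finrank_top] at h3
  exact h3

end scalar

/-- a root of unity `ω ≠ 1` of order dividing `n` which is congruent to `1` modulo a maximal
ideal over `r` forces `r ∣ n` -/
theorem dvd_of_root_congr_one {r : ℕ} {Mr : Ideal AlgInt} (hMr : IsPModular r Mr) (ω : ℂ) (n : ℕ)
    (hω : ω ^ n = 1) (hne : ω ≠ 1) (hint : IsIntegral ℤ ω)
    (hcong : MemLocalIdeal Mr (1 - ω)) : r ∣ n := by
  have hprime : Mr.IsPrime := hMr.2.1.isPrime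
  have hgeom : ∑ i ∈ Finset.range n, ω ^ i = 0 := by
    have h := geom_sum_mul ω n
    rw [hω, sub_self] at h
    rcases mul_eq_zero.mp h with h | h
    · exact h
    · exact absurd (sub_eq_zero.mp h) hne
  have hω_loc : Cfsg.MemLocalRing Mr ω :=
    Cfsg.Agent.Lib.Helper82.memLocalRing_of_isIntegral hprime hint
  have hpow : ∀ i : ℕ, MemLocalIdeal Mr (1 - ω ^ i) := by
    intro i
    induction i with
    | zero => simpa using Cfsg.Agent.Lib.Helper82.memLocalIdeal_zero hprime
    | succ k ih =>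
      have : 1 - ω ^ (k + 1) = (1 - ω ^ k) + ω ^ k * (1 - ω) := by ring
      rw [this]
      exact Cfsg.Agent.Lib.Helper82.memLocalIdeal_add hprime ih
        (Cfsg.Agent.Lib.Helper82.memLocalIdeal_mul_left hprime
          (Cfsg.Agent.Lib.Helper82.memLocalRing_pow hprime hω_loc k) hcong)
  have hsum : MemLocalIdeal Mr (∑ i ∈ Finset.range n, (1 - ω ^ i)) :=
    Cfsg.Agent.Lib.Helper82.memLocalIdeal_sum hprime _ _ (fun i _ => hpow i)
  rw [Finset.sum_sub_distrib, hgeom, sub_zero] at hsum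
  simp only [Finset.sum_const, Finset.card_range, nsmul_eq_mul, mul_one] at hsum
  exact (Cfsg.Agent.Lib.Helper82.memLocalIdeal_natCast_iff hMr n).mp hsum


/-- `1 + p β = 0` is impossible for a prime `p` and an algebraic integer `β` -/
theorem false_of_one_add_prime_mul {p : ℕ} (hp : p.Prime) (B : ℂ) (hBint : IsIntegral ℤ B)
    (h : 1 + (p : ℂ) * B = 0) : False := by
  have hp0 : (p : ℂ) ≠ 0 := by exact_mod_cast hp.ne_zero
  have hBq : B = ((-1 / p : ℚ) : ℂ) := by
    push_cast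
    field_simp
    linear_combination h
  rw [hBq] at hBint
  have h4 : IsIntegral ℤ (-1 / p : ℚ) := by
    have := (isIntegral_algebraMap_iff (R := ℤ) (A := ℚ) (B := ℂ)
      (algebraMap ℚ ℂ).injective (x := (-1 / p : ℚ))).1
    exact this (by simpa using hBint)
  obtain ⟨m, hm⟩ := IsIntegrallyClosed.isIntegral_iff.1 h4
  have hpq : (p : ℚ) ≠ 0 := by exact_mod_cast hp.ne_zero
  have h5 : (m : ℚ) * p = -1 := by
    have : (algebraMap ℤ ℚ) m = (m : ℚ) := rfl
    rw [this] at hm
    rw [hm]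
    field_simp
  have h6 : (m * p : ℤ) = -1 := by exact_mod_cast h5
  have h7 : (p : ℤ) ∣ 1 := by
    refine ⟨-m, ?_⟩
    linarith
  have h8 : p ∣ 1 := by exact_mod_cast h7
  exact hp.one_lt.ne' (Nat.dvd_one.mp h8)

section core

universe u

variable {G : Type u} [Group G] [Finite G]

/-- The key step: a principal `r`-block character of degree prime to `p` is trivial. -/
theorem principal_trivial_of_not_dvd (M : Subgroup G) [hMn : M.Normal]
    (hmin : ∀ K : Subgroup G, K.Normal → K ≤ M → K = ⊥ ∨ K = M)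
    (x : G) (hgen : M ⊔ Subgroup.zpowers x = ⊤)
    (p a : ℕ) (hp : p.Prime) (hcl : (Subgroup.centralizer ({x} : Set G)).index = p ^ a)
    (r : ℕ) (hr : r.Prime) (hrp : r ≠ p) (hrx : ¬ r ∣ orderOf x)
    {Mr : Ideal AlgInt} (hMr : IsPModular r Mr)
    (m₀ : G) (hm₀ : m₀ ∈ M) (hne : m₀ * x ≠ x * m₀)
    (χ : IrrCharacter G) (hχ : χ ∈ principalBlock Mr G)
    (n : ℕ) (ρ : Representation ℂ G (Fin n → ℂ)) (hirr : ρ.IsIrreducible)
    (hρ : ρ.character = (χ : G → ℂ)) (hpn : ¬ p ∣ n) :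
    (χ : G → ℂ) = fun _ => 1 := by
  classical
  haveI := hirr
  have hprime : Mr.IsPrime := hMr.2.1.isPrime
  have hcop : Nat.Coprime (finrank ℂ (Fin n → ℂ))
      (Subgroup.centralizer ({x} : Set G)).index := by
    rw [Module.finrank_fin_fun, hcl]
    exact (((Nat.Prime.coprime_iff_not_dvd hp).mpr hpn).symm).pow_right a
  have hodd : ¬ r ∣ (Subgroup.centralizer ({x} : Set G)).index := by
    rw [hcl]
    intro h
    exact hrp ((Nat.prime_dvd_prime_iff_eq hr hp).mp (hr.dvd_of_dvd_pow h))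
  have hχx : (χ : G → ℂ) x ≠ 0 :=
    Cfsg.Agent.Lib.Helper22.principal_char_ne_zero hMr χ hχ x hodd
  have hnorm : ‖ρ.character x‖ = (finrank ℂ (Fin n → ℂ) : ℝ) := by
    rcases Cfsg.Agent.S0142.result ρ x hcop with h0 | h
    · exfalso
      rw [hρ] at h0
      exact hχx h0
    · exact h
  obtain ⟨ω, hω⟩ := (Cfsg.Agent.Lib.Helper04.norm_char_eq_iff ρ x).mp hnorm
  -- the commutator lies in the kernel
  set c : G := m₀ * x * m₀⁻¹ * x⁻¹ with hc
  have hc1 : c ≠ 1 := by
    intro h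
    apply hne
    have : m₀ * x = c * (x * m₀) := by rw [hc]; group
    rw [this, h, one_mul]
  have hcM : c ∈ M := by
    have h1 : x * m₀⁻¹ * x⁻¹ ∈ M := hMn.conj_mem _ (M.inv_mem hm₀) x
    have : c = m₀ * (x * m₀⁻¹ * x⁻¹) := by rw [hc]; group
    rw [this]
    exact M.mul_mem hm₀ h1
  have hcker : c ∈ ρ.ker := by
    rw [MonoidHom.mem_ker, hc, map_mul, map_mul, map_mul, hω]
    have : ρ m₀ * ω • (LinearMap.id : (Fin n → ℂ) →ₗ[ℂ] (Fin n → ℂ)) * ρ m₀⁻¹ =
        ω • (LinearMap.id : (Fin n → ℂ) →ₗ[ℂ] (Fin n → ℂ)) := by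
      rw [mul_smul_comm, smul_mul_assoc]
      have : ρ m₀ * LinearMap.id * ρ m₀⁻¹ = LinearMap.id := by
        change ρ m₀ * 1 * ρ m₀⁻¹ = 1
        rw [mul_one, ← map_mul, mul_inv_cancel, map_one]
      rw [this]
    rw [this, ← hω, ← map_mul, mul_inv_cancel, map_one]
  have hMker : M ≤ ρ.ker := by
    have hK : (ρ.ker ⊓ M).Normal := inferInstance
    rcases hmin (ρ.ker ⊓ M) hK inf_le_right with h | h
    · exfalso
      have : c ∈ ρ.ker ⊓ M := ⟨hcker, hcM⟩
      rw [h, Subgroup.mem_bot] at this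
      exact hc1 this
    · rw [← h]
      exact inf_le_left
  -- all elements act as scalars
  have hscal : ∀ g : G, ∃ k : ℕ, ρ g = (ω ^ k) • (LinearMap.id : (Fin n → ℂ) →ₗ[ℂ] (Fin n → ℂ)) := by
    intro g
    have hg : g ∈ ((M ⊔ Subgroup.zpowers x : Subgroup G) : Set G) := by
      rw [hgen]; trivial
    rw [Subgroup.normal_mul] at hg
    obtain ⟨m, hm, z, hz, rfl⟩ := Set.mem_mul.mp hg
    have hz' : z ∈ Submonoid.powers x := mem_powers_iff_mem_zpowers.mpr hz
    obtain ⟨k, rfl⟩ := (Submonoid.mem_powers_iff z x).mp hz'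
    refine ⟨k, ?_⟩
    have hm1 : ρ m = 1 := MonoidHom.mem_ker.mp (hMker hm)
    rw [map_mul, hm1, one_mul, map_pow, hω, smul_pow]
    congr 1
    exact one_pow k
  have hfin : finrank ℂ (Fin n → ℂ) = 1 :=
    finrank_eq_one_of_scalar ρ (fun g => by
      obtain ⟨k, hk⟩ := hscal g
      exact ⟨ω ^ k, hk⟩)
  have hn1 : n = 1 := by rwa [Module.finrank_fin_fun] at hfin
  have htrace : ∀ (s : ℂ), LinearMap.trace ℂ (Fin n → ℂ)
      (s • (LinearMap.id : (Fin n → ℂ) →ₗ[ℂ] (Fin n → ℂ))) = s := by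
    intro s
    rw [map_smul, LinearMap.trace_id, hfin]
    simp
  have hχω : (χ : G → ℂ) x = ω := by
    rw [← hρ]
    simp only [Representation.character]
    rw [hω, htrace]
  have hχ1 : (χ : G → ℂ) 1 = 1 := by
    rw [← hρ, Representation.char_one, hfin]
    simp
  have hωint : IsIntegral ℤ ω := by
    have := Cfsg.Agent.Lib.Helper04.isIntegral_char ρ x
    rwa [hρ, hχω] at this
  -- block congruence at `x`
  have hcong : MemLocalIdeal Mr (1 - ω) := by
    have h1 := hχ x
    have h2 : centralChar (fun _ : G => (1 : ℂ)) x - centralChar (χ : G → ℂ) x =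
        ((p ^ a : ℕ) : ℂ) * (1 - ω) := by
      simp only [centralChar, hcl, hχω, hχ1]
      push_cast
      ring
    rw [h2] at h1
    rcases Cfsg.Agent.Lib.Helper82.memLocalIdeal_of_mul_memLocalIdeal hprime
        (Cfsg.Agent.Lib.Helper82.memLocalRing_natCast hprime (p ^ a))
        (Cfsg.Agent.Lib.Helper82.memLocalRing_sub hprime
          (Cfsg.Agent.Lib.Helper82.memLocalRing_one hprime)
          (Cfsg.Agent.Lib.Helper82.memLocalRing_of_isIntegral hprime hωint)) h1 with h | h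
    · exfalso
      rw [Cfsg.Agent.Lib.Helper82.memLocalIdeal_natCast_iff hMr] at h
      exact hrp ((Nat.prime_dvd_prime_iff_eq hr hp).mp (hr.dvd_of_dvd_pow h))
    · exact h
  have hωpow : ω ^ orderOf x = 1 := by
    have h1 : ρ (x ^ orderOf x) = 1 := by rw [pow_orderOf_eq_one, map_one]
    rw [map_pow, hω, smul_pow] at h1
    have h2 := congrArg (LinearMap.trace ℂ (Fin n → ℂ)) h1
    have h3 : (LinearMap.id : (Fin n → ℂ) →ₗ[ℂ] (Fin n → ℂ)) ^ orderOf x = LinearMap.id :=
      one_pow _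
    rw [h3, htrace] at h2
    rw [h2]
    change LinearMap.trace ℂ (Fin n → ℂ) LinearMap.id = 1
    rw [LinearMap.trace_id, hfin]
    simp
  have hω1 : ω = 1 := by
    by_contra hne1
    exact hrx (dvd_of_root_congr_one hMr ω (orderOf x) hωpow hne1 hωint hcong)
  funext g
  obtain ⟨k, hk⟩ := hscal g
  rw [← hρ]
  simp only [Representation.character]
  rw [hk, htrace, hω1, one_pow]


/-- **Kazarin, core step.** If `G = M⟨x⟩` with `M` minimal normal, the class of `x` has
`p`-power size, and some prime `r ≠ p` divides `|M|` but not the order of `x`, then `x`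
centralizes `M`. -/
theorem kaz_core (M : Subgroup G) [hMn : M.Normal]
    (hmin : ∀ K : Subgroup G, K.Normal → K ≤ M → K = ⊥ ∨ K = M)
    (x : G) (hgen : M ⊔ Subgroup.zpowers x = ⊤)
    (p a : ℕ) (hp : p.Prime) (hcl : (Subgroup.centralizer ({x} : Set G)).index = p ^ a)
    (r : ℕ) (hr : r.Prime) (hrp : r ≠ p) (hrx : ¬ r ∣ orderOf x) (hrM : r ∣ Nat.card M) :
    ∀ m ∈ M, m * x = x * m := by
  classical
  by_contra hcon
  push_neg at hcon
  obtain ⟨m₀, hm₀, hne⟩ := hcon
  obtain ⟨Mr, hMr⟩ := Cfsg.Agent.Lib.Helper82.exists_isPModular r hr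
  have hprime : Mr.IsPrime := hMr.2.1.isPrime
  haveI : Fact r.Prime := ⟨hr⟩
  obtain ⟨y', hy'⟩ := exists_prime_orderOf_dvd_card' r hrM
  have hy : orderOf (y' : G) = r := by rw [Subgroup.orderOf_coe]; exact hy'
  let _ : Fintype G := Fintype.ofFinite G
  let _ : Fintype (IrrCharacter G) := Fintype.ofFinite _
  let χ₀ : IrrCharacter G := ⟨fun _ => 1, Cfsg.Agent.Lib.Helper05.isIrrCharacter_one⟩
  have key : ∀ χ : IrrCharacter G, χ ∈ principalBlock Mr G → χ ≠ χ₀ →
      ∃ β : ℂ, IsIntegral ℤ β ∧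
        (χ : G → ℂ) 1 * conj ((χ : G → ℂ) (y' : G)) = p * β := by
    intro χ hχ hχne
    obtain ⟨n, ρ, hirr, hρ⟩ := χ.2
    have h1 : (χ : G → ℂ) 1 = n := by
      rw [← hρ, Representation.char_one, Module.finrank_fin_fun]
    by_cases hpn : p ∣ n
    · obtain ⟨m, rfl⟩ := hpn
      refine ⟨m * conj ((χ : G → ℂ) (y' : G)), ?_, ?_⟩
      · refine IsIntegral.mul (isIntegral_natCast m) ?_
        rw [← hρ]
        exact map_isIntegral_int (starRingEnd ℂ) (Cfsg.Agent.Lib.Helper04.isIntegral_char ρ _)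
      · rw [h1]
        push_cast
        ring
    · exfalso
      apply hχne
      apply Subtype.ext
      exact principal_trivial_of_not_dvd M hmin x hgen p a hp hcl r hr hrp hrx hMr m₀ hm₀ hne
        χ hχ n ρ hirr hρ hpn
  have horth := Cfsg.Agent.Lib.Helper22.sum_block_conj_eq_zero_of_singular hMr χ₀ (1 : G)
    (y' : G) (by rw [orderOf_one]; exact fun h => hr.one_lt.ne' (Nat.dvd_one.mp h))
    (by rw [hy])
  rw [Cfsg.Agent.Lib.Helper21.finsum_mem_eq_sum_ite] at horth
  have hχ₀mem : χ₀ ∈ blockOf Mr (χ₀ : G → ℂ) := by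
    intro g
    rw [sub_self]
    exact Cfsg.Agent.Lib.Helper82.memLocalIdeal_zero hprime
  choose! β hβint hβ using key
  rw [← Finset.add_sum_erase Finset.univ _ (Finset.mem_univ χ₀), if_pos hχ₀mem] at horth
  have h2 : ∑ χ ∈ Finset.univ.erase χ₀,
      (if χ ∈ blockOf Mr (χ₀ : G → ℂ) then
        (χ : G → ℂ) 1 * conj ((χ : G → ℂ) (y' : G)) else 0) =
      p * ∑ χ ∈ Finset.univ.erase χ₀,
        (if χ ∈ blockOf Mr (χ₀ : G → ℂ) then β χ else 0) := by
    rw [Finset.mul_sum]
    apply Finset.sum_congr rfl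
    intro χ hχ
    by_cases hmem : χ ∈ blockOf Mr (χ₀ : G → ℂ)
    · rw [if_pos hmem, if_pos hmem]
      exact hβ χ hmem (Finset.mem_erase.mp hχ).1
    · rw [if_neg hmem, if_neg hmem, mul_zero]
  rw [h2] at horth
  have h3 : ((χ₀ : G → ℂ) 1) * conj ((χ₀ : G → ℂ) (y' : G)) = 1 := by simp [χ₀]
  rw [h3] at horth
  refine false_of_one_add_prime_mul hp _ ?_ horth
  apply IsIntegral.sum
  intro χ hχ
  by_cases hmem : χ ∈ blockOf Mr (χ₀ : G → ℂ)
  · rw [if_pos hmem]
    exact hβint χ hmem (Finset.mem_erase.mp hχ).1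
  · rw [if_neg hmem]
    exact isIntegral_zero

end core

end Cfsg.Agent.Lib.Helper20
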