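import Mathlib
import Cfsg.Agent.Lib.Helper65.SolvableSup
import Cfsg.Agent.Lib.Helper13.HallTransfer
import Cfsg.Agent.Lib.Helper20.SylowNormal

/-!
# Kazarin's theorem: group-theoretic preliminaries
-/

set_option autoImplicit false

namespace Cfsg.Agent.Lib.Helper20

open Subgroup
open scoped Pointwise

section join

variable {G : Type*} [Group G]

theorem isSolvable_smul (g : G) (D : Subgroup G) (hD : Group.IsSolvable D) :
    Group.IsSolvable ↥(MulAut.conj g • D) :=
  Group.isSolvable_of_surjective (f := (Subgroup.equivSMul (MulAut.conj g) D).toMonoidHom)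
    (Subgroup.equivSMul (MulAut.conj g) D).surjective

theorem le_normalizer_of_smul_eq {M T : Subgroup G} (h : ∀ m ∈ M, MulAut.conj m • T = T) :
    M ≤ normalizer (T : Set G) := by
  intro m hm
  rw [mem_normalizer_iff]
  intro t
  constructor
  · intro ht
    have : m * t * m⁻¹ ∈ MulAut.conj m • T := ⟨t, ht, rfl⟩
    rwa [h m hm] at this
  · intro ht
    have h1 : m⁻¹ * (m * t * m⁻¹) * m⁻¹⁻¹ ∈ MulAut.conj m⁻¹ • T := ⟨_, ht, rfl⟩
    rw [h m⁻¹ (M.inv_mem hm)] at h1
    have h2 : m⁻¹ * (m * t * m⁻¹) * m⁻¹⁻¹ = t := by group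
    rwa [h2] at h1

theorem smul_eq_of_le_normalizer {M T : Subgroup G} (h : M ≤ normalizer (T : Set G))
    (m : G) (hm : m ∈ M) : MulAut.conj m • T = T := by
  ext t
  constructor
  · rintro ⟨s, hs, rfl⟩
    exact (mem_normalizer_iff.mp (h hm) s).mp hs
  · intro ht
    refine ⟨m⁻¹ * t * m, ?_, ?_⟩
    · have := (mem_normalizer_iff.mp (h (M.inv_mem hm)) t).mp ht
      simpa using this
    · change m * (m⁻¹ * t * m) * m⁻¹ = t
      group

/-- A solvable subgroup `D` of a normal subgroup `M`, normalized by `M`, lies in a solvable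
normal subgroup of the whole group contained in `M`. -/
theorem exists_normal_solvable [Finite G] (M D : Subgroup G) [hMn : M.Normal] (hDM : D ≤ M)
    (hnorm : M ≤ normalizer (D : Set G)) (hD : Group.IsSolvable D) :
    ∃ T : Subgroup G, T.Normal ∧ D ≤ T ∧ T ≤ M ∧ Group.IsSolvable T := by
  classical
  let F : Set (Subgroup G) :=
    {T | T ≤ M ∧ M ≤ normalizer (T : Set G) ∧ Group.IsSolvable T}
  have hFfin : F.Finite := Set.toFinite F
  have hbot : (⊥ : Subgroup G) ∈ F := by
    refine ⟨bot_le, ?_, ?_⟩
    · intro m _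
      rw [mem_normalizer_iff]
      intro t
      simp only [Subgroup.mem_bot]
      constructor
      · rintro rfl; group
      · intro h
        have : t = m⁻¹ * (m * t * m⁻¹) * m := by group
        rw [this, h]; group
    · infer_instance
  obtain ⟨T, -, hTmax⟩ := hFfin.exists_le_maximal hbot
  have hTF : T ∈ F := hTmax.prop
  have hsup : ∀ A ∈ F, ∀ B ∈ F, A ⊔ B ∈ F := by
    intro A hA B hB
    refine ⟨sup_le hA.1 hB.1, ?_, ?_⟩
    · apply le_normalizer_of_smul_eq
      intro m hm
      rw [Subgroup.smul_sup, smul_eq_of_le_normalizer hA.2.1 m hm,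
        smul_eq_of_le_normalizer hB.2.1 m hm]
    · haveI := hA.2.2
      haveI := hB.2.2
      exact Cfsg.Agent.Lib.Helper65.isSolvable_sup_of_le_normalizer A B (hA.1.trans hB.2.1)
  have hconj : ∀ A ∈ F, ∀ g : G, MulAut.conj g • A ∈ F := by
    intro A hA g
    refine ⟨?_, ?_, isSolvable_smul g A hA.2.2⟩
    · rintro _ ⟨t, ht, rfl⟩
      exact hMn.conj_mem t (hA.1 ht) g
    · apply le_normalizer_of_smul_eq
      intro m hm
      have hm' : g⁻¹ * m * g ∈ M := by
        have := hMn.conj_mem m hm g⁻¹
        simpa using this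
      have h1 := smul_eq_of_le_normalizer hA.2.1 _ hm'
      have h2 : MulAut.conj m • MulAut.conj g • A =
          MulAut.conj g • MulAut.conj (g⁻¹ * m * g) • A := by
        rw [smul_smul, smul_smul, ← map_mul, ← map_mul]
        congr 2
        group
      rw [h2, h1]
  have hge : ∀ A ∈ F, A ≤ T := by
    intro A hA
    have h1 := hsup T hTF A hA
    have h2 : T ⊔ A ≤ T := hTmax.le_of_ge h1 le_sup_left
    exact le_sup_right.trans h2
  refine ⟨T, ?_, ?_, hTF.1, hTF.2.2⟩
  · constructor
    intro t ht g
    have h1 := hge _ (hconj T hTF g)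
    exact h1 ⟨t, ht, rfl⟩
  · exact hge D ⟨hDM, hnorm, hD⟩

end join

section classsize

variable {G : Type*} [Group G]

/-- the class size of the image of `x` in a quotient divides the class size of `x` -/
theorem index_centralizer_quotient_dvd (K : Subgroup G) [K.Normal] (x : G) :
    (centralizer ({(QuotientGroup.mk' K x)} : Set (G ⧸ K))).index ∣
      (centralizer ({x} : Set G)).index := by
  have h1 : ((centralizer ({(QuotientGroup.mk' K x)} : Set (G ⧸ K))).comap
      (QuotientGroup.mk' K)).index =
      (centralizer ({(QuotientGroup.mk' K x)} : Set (G ⧸ K))).index :=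
    Subgroup.index_comap_of_surjective _ (QuotientGroup.mk'_surjective K)
  rw [← h1]
  apply Subgroup.index_dvd_of_le
  intro c hc
  rw [Subgroup.mem_comap, Subgroup.mem_centralizer_singleton_iff]
  rw [Subgroup.mem_centralizer_singleton_iff] at hc
  rw [← map_mul, ← map_mul, hc]

/-- centralizer of an element of a subgroup, computed inside the subgroup -/
theorem centralizer_subtype_eq (H : Subgroup G) (x : G) (hx : x ∈ H) :
    centralizer ({(⟨x, hx⟩ : H)} : Set H) = (centralizer ({x} : Set G)).subgroupOf H := by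
  ext h
  rw [Subgroup.mem_centralizer_singleton_iff, Subgroup.mem_subgroupOf,
    Subgroup.mem_centralizer_singleton_iff]
  constructor
  · intro hh
    exact congrArg Subtype.val hh
  · intro hh
    exact Subtype.ext hh

/-- the class size of `x` inside `M⟨x⟩`, `M` normal, divides the class size of `x` -/
theorem index_centralizer_sup_zpowers_dvd [Finite G] (M : Subgroup G) [M.Normal] (x : G) :
    (centralizer ({(⟨x, (le_sup_right : zpowers x ≤ M ⊔ zpowers x) (mem_zpowers x)⟩ :
      ↥(M ⊔ zpowers x))} : Set ↥(M ⊔ zpowers x))).index ∣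
      (centralizer ({x} : Set G)).index := by
  rw [centralizer_subtype_eq]
  change (centralizer ({x} : Set G)).relIndex (M ⊔ zpowers x) ∣ _
  set C := centralizer ({x} : Set G) with hC
  set H := M ⊔ zpowers x with hH
  have hZC : zpowers x ≤ C := by
    rw [zpowers_le, hC, Subgroup.mem_centralizer_singleton_iff]
  have hHeq : H = (C ⊓ H) ⊔ M := by
    apply le_antisymm
    · rw [hH]
      apply sup_le le_sup_right
      exact (le_inf hZC le_sup_right).trans le_sup_left
    · exact sup_le inf_le_right le_sup_left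
  have h1 : C.relIndex H = (C ⊓ H).relIndex H := (Subgroup.inf_relIndex_right C H).symm
  have h2 : (C ⊓ H).relIndex H = (C ⊓ H).relIndex ((C ⊓ H) ⊔ M) := by rw [← hHeq]
  have h3 := relIndex_sup_eq_relIndex_inf (C ⊓ H) M
  have h4 : (C ⊓ H) ⊓ M = C ⊓ M := by
    rw [inf_assoc, inf_eq_right.mpr (le_sup_left : M ≤ H)]
  rw [h1, h2, h3, h4, Subgroup.inf_relIndex_right]
  exact Dvd.intro _ (Cfsg.Agent.Lib.Helper13.index_eq_relIndex_mul_index_sup C M).symm

/-- the class size of `x` inside a normal subgroup divides the class size of `x` -/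
theorem index_centralizer_normal_dvd [Finite G] (N : Subgroup G) [N.Normal] (x : G) (hx : x ∈ N) :
    (centralizer ({(⟨x, hx⟩ : N)} : Set N)).index ∣ (centralizer ({x} : Set G)).index := by
  rw [centralizer_subtype_eq]
  exact Dvd.intro _ (Cfsg.Agent.Lib.Helper13.index_eq_relIndex_mul_index_sup _ N).symm

end classsize

end Cfsg.Agent.Lib.Helper20
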