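import Mathlib
import Cfsg.Agent.Lib.Helper20.KazCore
import Cfsg.Agent.Lib.Helper20.KazGroup
import Cfsg.Agent.Lib.Helper04.BurnsidePQ
import Cfsg.Agent.Lib.Helper64.MinInv

/-!
# Kazarin's theorem

If the conjugacy class of `x` has prime-power size, the normal closure of `x` is solvable.
-/

set_option autoImplicit false

namespace Cfsg.Agent.Lib.Helper20

open Subgroup
open scoped Pointwise

/-- a number all of whose prime divisors are `p` or `q` is of the form `p ^ i * q ^ j` -/
theorem exists_pow_mul_pow_of_primes (p q : ℕ) :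
    ∀ n : ℕ, n ≠ 0 → (∀ r : ℕ, r.Prime → r ∣ n → r = p ∨ r = q) → ∃ i j : ℕ, n = p ^ i * q ^ j := by
  intro n
  induction n using Nat.strong_induction_on with
  | _ n ih =>
    intro hn h
    by_cases h1 : n = 1
    · exact ⟨0, 0, by simp [h1]⟩
    · have hr : (n.minFac).Prime := Nat.minFac_prime h1
      obtain ⟨n', hn'⟩ := Nat.minFac_dvd n
      have hn'0 : n' ≠ 0 := by
        rintro rfl
        simp at hn'
        exact hn hn'
      have hlt : n' < n := by
        have h2 := hr.two_le
        nlinarith [Nat.pos_of_ne_zero hn'0]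
      obtain ⟨i, j, hij⟩ := ih n' hlt hn'0 (fun r hr' hd => h r hr' (hn' ▸ Dvd.dvd.mul_left hd _))
      rcases h _ hr (Nat.minFac_dvd n) with hp | hq
      · exact ⟨i + 1, j, by rw [hn', hij, hp]; ring⟩
      · exact ⟨i, j + 1, by rw [hn', hij, hq]; ring⟩

section

variable {G : Type*} [Group G]

theorem le_normalizer_of_conj_mem {M D : Subgroup G}
    (h : ∀ m ∈ M, ∀ d ∈ D, m * d * m⁻¹ ∈ D) : M ≤ normalizer (D : Set G) := by
  intro m hm
  rw [mem_normalizer_iff]
  intro d
  constructor
  · exact h m hm d
  · intro hd
    have := h m⁻¹ (M.inv_mem hm) _ hd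
    have h2 : m⁻¹ * (m * d * m⁻¹) * m⁻¹⁻¹ = d := by group
    rwa [h2] at this

end

universe u

/-- **Kazarin's theorem**, for elements of prime power order. -/
theorem kazarin_pp_aux (n : ℕ) : ∀ (G : Type u) [Group G] [Finite G], Nat.card G = n →
    ∀ (x : G) (q b p a : ℕ), q.Prime → orderOf x = q ^ b → p.Prime →
      (centralizer ({x} : Set G)).index = p ^ a →
      Group.IsSolvable ↥(normalClosure ({x} : Set G)) := by
  induction n using Nat.strong_induction_on with
  | _ n ih =>
    intro G _ _ hcard x q b p a hq hxo hp hcl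
    by_contra hns
    set N := normalClosure ({x} : Set G) with hN
    have hxN : x ∈ N := subset_normalClosure (Set.mem_singleton x)
    -- quotients
    have hR2 : ∀ K : Subgroup G, K.Normal → K ≠ ⊥ → ¬ Group.IsSolvable ↥(N ⊓ K) := by
      intro K hK hK1 hsol
      haveI := hK
      apply hns
      have hlt : Nat.card (G ⧸ K) < n := by
        have h1 := Subgroup.index_mul_card K
        have h2 : 1 < Nat.card K := (Subgroup.one_lt_card_iff_ne_bot K).mpr hK1
        have h3 : 0 < K.index := Nat.pos_of_ne_zero (Subgroup.index_ne_zero_of_finite)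
        rw [← Subgroup.index_eq_card, ← hcard, ← h1]
        nlinarith
      obtain ⟨b', -, hb'⟩ := (Nat.dvd_prime_pow hq).mp
        (hxo ▸ orderOf_map_dvd (QuotientGroup.mk' K) x)
      obtain ⟨a', -, ha'⟩ := (Nat.dvd_prime_pow hp).mp
        (hcl ▸ index_centralizer_quotient_dvd K x)
      have hq' := ih _ hlt (G ⧸ K) rfl (QuotientGroup.mk' K x) q b' p a' hq hb' hp ha'
      have hmap : N.map (QuotientGroup.mk' K) =
          normalClosure ({QuotientGroup.mk' K x} : Set (G ⧸ K)) := by
        rw [hN, Subgroup.map_normalClosure _ _ (QuotientGroup.mk'_surjective K)]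
        simp
      haveI : Group.IsSolvable ↥(N.map (QuotientGroup.mk' K)) := by rw [hmap]; exact hq'
      haveI := hsol
      refine Group.isSolvable_of_ker_le_range (Subgroup.inclusion (inf_le_left : N ⊓ K ≤ N))
        ((QuotientGroup.mk' K).subgroupMap N) ?_
      intro y hy
      rw [MonoidHom.mem_ker] at hy
      have hy' : (QuotientGroup.mk' K) (y : G) = 1 := by
        have := congrArg Subtype.val hy
        simpa using this
      have hyK : (y : G) ∈ K := by
        rwa [QuotientGroup.mk'_apply, QuotientGroup.eq_one_iff] at hy'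
      exact ⟨⟨(y : G), ⟨y.2, hyK⟩⟩, Subtype.ext rfl⟩
    -- `G` is nontrivial
    haveI : Nontrivial G := by
      by_contra hnt
      rw [not_nontrivial_iff_subsingleton] at hnt
      exact hns inferInstance
    obtain ⟨M, hMn, hM1, hMmin⟩ := Cfsg.Agent.Lib.Helper64.exists_minimal_normal (G := G)
    haveI := hMn
    have hNM : ¬ Group.IsSolvable ↥(N ⊓ M) := hR2 M hMn hM1
    have hMns : ¬ Group.IsSolvable ↥M := by
      intro h
      haveI := h
      exact hNM (Group.isSolvable_of_isSolvable_injective
        (Subgroup.inclusion_injective (inf_le_right : N ⊓ M ≤ M)))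
    have hMN : M ≤ N := by
      have hnorm : (N ⊓ M).Normal := inferInstance
      rcases hMmin (N ⊓ M) hnorm inf_le_right with h | h
      · exfalso
        apply hNM
        rw [h]
        infer_instance
      · rw [← h]; exact inf_le_left
    -- no solvable subgroup of `M` normalized by `M`
    have hS : ∀ D : Subgroup G, D ≤ M → M ≤ normalizer (D : Set G) → Group.IsSolvable ↥D →
        D = ⊥ := by
      intro D hDM hDn hDs
      obtain ⟨T, hTn, hDT, hTM, hTs⟩ := exists_normal_solvable M D hDM hDn hDs
      rcases hMmin T hTn hTM with h | h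
      · rw [h] at hDT
        exact le_bot_iff.mp hDT
      · exfalso
        rw [h] at hTs
        exact hMns hTs
    -- a third prime
    obtain ⟨r, hr, hrM, hrp, hrq⟩ : ∃ r : ℕ, r.Prime ∧ r ∣ Nat.card M ∧ r ≠ p ∧ r ≠ q := by
      by_contra hno
      push_neg at hno
      apply hMns
      obtain ⟨i, j, hij⟩ := exists_pow_mul_pow_of_primes p q (Nat.card M) Nat.card_pos.ne'
        (fun r hr hd => by
          by_contra h
          push_neg at h
          exact h.2 (hno r hr hd h.1))
      exact Cfsg.Agent.Lib.Helper04.burnside_paqb p q i j hp hq hij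
    have hrx : ¬ r ∣ orderOf x := by
      rw [hxo]
      intro h
      exact hrq ((Nat.prime_dvd_prime_iff_eq hr hq).mp (hr.dvd_of_dvd_pow h))
    -- `x` centralizes `M`
    have hcent : ∀ m ∈ M, m * x = x * m := by
      by_cases hH : M ⊔ zpowers x = ⊤
      · exact kaz_core M hMmin x hH p a hp hcl r hr hrp hrx hrM
      · set H := M ⊔ zpowers x with hHdef
        have hxH : x ∈ H := (le_sup_right : zpowers x ≤ H) (mem_zpowers x)
        have hlt : Nat.card H < n := by
          rw [← hcard]
          have h1 := Subgroup.card_mul_index H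
          have h2 : H.index ≠ 1 := fun h => hH (Subgroup.index_eq_one.mp h)
          have h3 : 0 < H.index := Nat.pos_of_ne_zero (Subgroup.index_ne_zero_of_finite)
          have h4 : 0 < Nat.card H := Nat.card_pos
          have h5 : 2 ≤ H.index := by omega
          nlinarith
        obtain ⟨a', -, ha'⟩ := (Nat.dvd_prime_pow hp).mp
          (hcl ▸ index_centralizer_sup_zpowers_dvd M x)
        have hxo' : orderOf (⟨x, hxH⟩ : H) = q ^ b := by
          rw [← hxo]
          exact Subgroup.orderOf_mk x hxH
        have hL := ih _ hlt H rfl ⟨x, hxH⟩ q b p a' hq hxo' hp ha'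
        set L := normalClosure ({(⟨x, hxH⟩ : H)} : Set H) with hLdef
        have hxL : (⟨x, hxH⟩ : H) ∈ L := subset_normalClosure (Set.mem_singleton _)
        have hLn : L.Normal := inferInstance
        set D := M ⊓ L.map H.subtype with hD
        have hLs : Group.IsSolvable ↥(L.map H.subtype) := by
          haveI := hL
          exact Group.isSolvable_of_surjective (f := H.subtype.subgroupMap L)
            (MonoidHom.subgroupMap_surjective _ _)
        have hDs : Group.IsSolvable ↥D := by
          haveI := hLs
          exact Group.isSolvable_of_isSolvable_injective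
            (Subgroup.inclusion_injective (inf_le_right : D ≤ L.map H.subtype))
        have hMH : M ≤ H := le_sup_left
        have hDn : M ≤ normalizer (D : Set G) := by
          apply le_normalizer_of_conj_mem
          intro m hm d hd
          refine ⟨hMn.conj_mem d hd.1 m, ?_⟩
          obtain ⟨l, hl, rfl⟩ := hd.2
          refine ⟨⟨m, hMH hm⟩ * l * ⟨m, hMH hm⟩⁻¹, hLn.conj_mem l hl _, ?_⟩
          simp
        have hD0 := hS D inf_le_left hDn hDs
        intro m hm
        have hc : m * x * m⁻¹ * x⁻¹ ∈ D := by
          refine ⟨?_, ?_⟩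
          · have h1 : x * m⁻¹ * x⁻¹ ∈ M := hMn.conj_mem _ (M.inv_mem hm) x
            have : m * x * m⁻¹ * x⁻¹ = m * (x * m⁻¹ * x⁻¹) := by group
            rw [this]
            exact M.mul_mem hm h1
          · refine ⟨⟨m, hMH hm⟩ * ⟨x, hxH⟩ * ⟨m, hMH hm⟩⁻¹ * ⟨x, hxH⟩⁻¹, ?_, ?_⟩
            · exact L.mul_mem (hLn.conj_mem _ hxL _) (L.inv_mem hxL)
            · simp
        rw [hD0, Subgroup.mem_bot] at hc
        have : m * x = (m * x * m⁻¹ * x⁻¹) * (x * m) := by group
        rw [this, hc, one_mul]
    -- conclusion
    have hNC : N ≤ centralizer (M : Set G) := by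
      apply normalClosure_le_normal
      intro y hy
      rw [Set.mem_singleton_iff] at hy
      rw [hy]
      intro m hm
      exact hcent m hm
    apply hMns
    apply Group.isSolvable_of_comm
    intro u v
    apply Subtype.ext
    have := hNC (hMN u.2) v v.2
    exact this.symm


/-- centralizer of `x` lies in the centralizer of a power of `x` -/
theorem index_centralizer_pow_dvd {G : Type*} [Group G] (x : G) (k : ℕ) :
    (centralizer ({x ^ k} : Set G)).index ∣ (centralizer ({x} : Set G)).index := by
  apply Subgroup.index_dvd_of_le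
  intro c hc
  rw [Subgroup.mem_centralizer_singleton_iff] at hc ⊢
  exact ((Commute.pow_right (show Commute c x from hc) k)).eq

theorem kazarin_aux {G : Type u} [Group G] [Finite G] (p : ℕ) (hp : p.Prime) (k : ℕ) :
    ∀ (x : G), orderOf x = k → (∃ a : ℕ, (centralizer ({x} : Set G)).index = p ^ a) →
      Group.IsSolvable ↥(normalClosure ({x} : Set G)) := by
  induction k using Nat.strong_induction_on with
  | _ k ih =>
    intro x hxk ⟨a, hcl⟩
    have hk0 : k ≠ 0 := by
      rw [← hxk]
      exact (orderOf_pos x).ne'
    by_cases hpp : ∃ q b : ℕ, q.Prime ∧ k = q ^ b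
    · obtain ⟨q, b, hq, hkq⟩ := hpp
      exact kazarin_pp_aux _ G rfl x q b p a hq (hxk.trans hkq) hp hcl
    · have hk1 : k ≠ 1 := by
        rintro rfl
        exact hpp ⟨2, 0, Nat.prime_two, by simp⟩
      set q := k.minFac with hq
      have hqp : q.Prime := Nat.minFac_prime hk1
      set m := q ^ (k.factorization q) with hm
      set n := k / m with hn
      have hmk : m ∣ k := Nat.ordProj_dvd k q
      have hkmn : k = m * n := (Nat.mul_div_cancel' hmk).symm
      have hcop : Nat.Coprime m n := by
        have := Nat.coprime_ordCompl hqp hk0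
        exact Nat.Coprime.pow_left _ this
      have hn1 : n ≠ 1 := by
        intro h
        apply hpp
        have hkm : k = m := by rw [hkmn, h, mul_one]
        exact ⟨q, k.factorization q, hqp, hkm.trans hm⟩
      have hm1 : m ≠ 1 := by
        intro h
        have h1 : 0 < k.factorization q :=
          (hqp.factorization_pos_of_dvd hk0 (Nat.minFac_dvd k))
        have : 1 < m := Nat.one_lt_pow h1.ne' hqp.one_lt
        omega
      have hm0 : m ≠ 0 := by
        rintro h
        rw [h, zero_mul] at hkmn
        exact hk0 hkmn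
      have hn0 : n ≠ 0 := by
        rintro h
        rw [h, mul_zero] at hkmn
        exact hk0 hkmn
      have hmlt : m < k := by
        have : 2 ≤ n := (Nat.two_le_iff n).mpr ⟨hn0, hn1⟩
        nlinarith [Nat.pos_of_ne_zero hm0]
      have hnlt : n < k := by
        have : 2 ≤ m := (Nat.two_le_iff m).mpr ⟨hm0, hm1⟩
        nlinarith [Nat.pos_of_ne_zero hn0]
      have hu : orderOf (x ^ m) = n := by
        rw [orderOf_pow_of_dvd hm0 (hxk ▸ hmk), hxk]
      have hv : orderOf (x ^ n) = m := by
        rw [orderOf_pow_of_dvd hn0 (hxk ▸ (Dvd.intro_left m hkmn.symm)), hxk, hkmn,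
          Nat.mul_div_cancel _ (Nat.pos_of_ne_zero hn0)]
      have hclu : ∃ a' : ℕ, (centralizer ({x ^ m} : Set G)).index = p ^ a' := by
        obtain ⟨a', -, ha'⟩ := (Nat.dvd_prime_pow hp).mp (hcl ▸ index_centralizer_pow_dvd x m)
        exact ⟨a', ha'⟩
      have hclv : ∃ a' : ℕ, (centralizer ({x ^ n} : Set G)).index = p ^ a' := by
        obtain ⟨a', -, ha'⟩ := (Nat.dvd_prime_pow hp).mp (hcl ▸ index_centralizer_pow_dvd x n)
        exact ⟨a', ha'⟩
      have hA := ih n hnlt (x ^ m) hu hclu
      have hB := ih m hmlt (x ^ n) hv hclv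
      set A := normalClosure ({x ^ m} : Set G) with hAdef
      set B := normalClosure ({x ^ n} : Set G) with hBdef
      haveI := hA
      haveI := hB
      have hAB : Group.IsSolvable ↥(A ⊔ B) := by
        apply Cfsg.Agent.Lib.Helper65.isSolvable_sup_of_le_normalizer
        rw [Subgroup.normalizer_eq_top]
        exact le_top
      have hxAB : x ∈ A ⊔ B := by
        have hbez := Int.gcd_eq_gcd_ab m n
        have hg : (Int.gcd (m : ℤ) (n : ℤ) : ℤ) = 1 := by
          have : Int.gcd (m : ℤ) (n : ℤ) = Nat.gcd m n := by simp [Int.gcd_natCast_natCast]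
          rw [this]
          exact_mod_cast hcop
        rw [hg] at hbez
        have hx1 : x = (x ^ m) ^ (Int.gcdA m n) * (x ^ n) ^ (Int.gcdB m n) := by
          rw [← zpow_natCast x m, ← zpow_natCast x n, ← zpow_mul, ← zpow_mul, ← zpow_add,
            ← hbez, zpow_one]
        rw [hx1]
        apply Subgroup.mul_mem
        · apply (le_sup_left : A ≤ A ⊔ B)
          exact Subgroup.zpow_mem _ (subset_normalClosure (Set.mem_singleton _)) _
        · apply (le_sup_right : B ≤ A ⊔ B)
          exact Subgroup.zpow_mem _ (subset_normalClosure (Set.mem_singleton _)) _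
      have hle : normalClosure ({x} : Set G) ≤ A ⊔ B := by
        apply normalClosure_le_normal
        intro y hy
        rw [Set.mem_singleton_iff] at hy
        rw [hy]
        exact hxAB
      haveI := hAB
      exact Group.isSolvable_of_isSolvable_injective (Subgroup.inclusion_injective hle)

/-- **Kazarin's theorem.** If the conjugacy class of `x` has prime power size, then the normal
closure of `x` is solvable. -/
theorem kazarin {G : Type u} [Group G] [Finite G] (x : G) (p a : ℕ) (hp : p.Prime)
    (hcl : (centralizer ({x} : Set G)).index = p ^ a) :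
    Group.IsSolvable ↥(normalClosure ({x} : Set G)) :=
  kazarin_aux p hp _ x rfl ⟨a, hcl⟩

end Cfsg.Agent.Lib.Helper20
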