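import Mathlib
import Cfsg.Agent.Lib.Helper20.KazMain
import Cfsg.Agent.Lib.Helper28.FittingCent
import Cfsg.Agent.Lib.Helper54.FStarGlue
import Cfsg.Agent.Lib.Helper54.PReduced
import Cfsg.Agent.Lib.Helper01.PCore

/-!
# Conjugates of an element with a class of `p`-power size commute modulo `O_p(G)`
-/

set_option autoImplicit false

namespace Cfsg.Agent.Lib.Helper20

open Subgroup

universe u

/-- If `O_p(G) = 1` and the class of `x` has `p`-power size, the normal closure of `x` is
abelian. -/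
theorem normalClosure_comm_of_pCore_eq_bot {G : Type u} [Group G] [Finite G] (p : ℕ)
    [hp : Fact p.Prime] (hO : Cfsg.pCore p G = ⊥) (x : G) (a : ℕ)
    (hcl : (centralizer ({x} : Set G)).index = p ^ a) :
    ∀ u ∈ normalClosure ({x} : Set G), ∀ v ∈ normalClosure ({x} : Set G), u * v = v * u := by
  set N := normalClosure ({x} : Set G) with hN
  have hNs : Group.IsSolvable ↥N := kazarin x p a hp.out hcl
  set F := Cfsg.fittingSubgroup G with hF
  haveI hFn : F.Normal := Cfsg.Agent.Lib.Helper30.fitting_normal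
  have hFcop : (Nat.card ↥F).Coprime p := Cfsg.Agent.Lib.Helper54.card_fitting_coprime hO
  set C := centralizer ({x} : Set G) with hC
  have hFC : F ≤ C := by
    rw [← Subgroup.relIndex_eq_one]
    have h1 : C.relIndex F ∣ p ^ a := by
      rw [← hcl]
      exact Dvd.intro _ (Cfsg.Agent.Lib.Helper13.index_eq_relIndex_mul_index_sup C F).symm
    have h2 : C.relIndex F ∣ Nat.card ↥F := Subgroup.relIndex_dvd_card C F
    have h3 : (C.relIndex F).Coprime (p ^ a) :=
      Nat.Coprime.pow_right a (Nat.Coprime.coprime_dvd_left h2 hFcop)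
    exact Nat.Coprime.eq_one_of_dvd h3 h1
  have hxF : x ∈ centralizer (F : Set G) := by
    rw [Subgroup.mem_centralizer_iff]
    intro f hf
    have := hFC hf
    rw [hC, Subgroup.mem_centralizer_singleton_iff] at this
    exact this
  have hNC : N ≤ centralizer (F : Set G) := by
    apply normalClosure_le_normal
    intro y hy
    rw [Set.mem_singleton_iff] at hy
    rw [hy]
    exact hxF
  have hNF : N ≤ F := by
    apply Cfsg.Agent.Lib.Helper28.solvable_le_fitting_of_le_centralizer N hNC _ hNs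
    rw [Subgroup.normalizer_eq_top]
    exact le_top
  intro u hu v hv
  have h1 := hNC hu
  rw [Subgroup.mem_centralizer_iff] at h1
  exact (h1 v (hNF hv)).symm

/-- `O_p(G / O_p(G)) = 1` -/
theorem pCore_quotient_pCore_eq_bot {G : Type u} [Group G] (p : ℕ) [hp : Fact p.Prime]
    [hn : (Cfsg.pCore p G).Normal] : Cfsg.pCore p (G ⧸ Cfsg.pCore p G) = ⊥ := by
  rw [Cfsg.Agent.Lib.Helper54.pCore_quotient_eq_bot_iff]
  intro D hD _ hpow
  apply Cfsg.Agent.Lib.Helper01.le_pCore hD
  intro d
  obtain ⟨k, hk⟩ := hpow d d.2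
  obtain ⟨j, hj⟩ := (Cfsg.Agent.Lib.Helper01.pCore_isPGroup (G := G) p) ⟨_, hk⟩
  refine ⟨k + j, ?_⟩
  apply Subtype.ext
  have hj' : ((d : G) ^ p ^ k) ^ p ^ j = 1 := by
    have := congrArg Subtype.val hj
    simpa using this
  rw [Subgroup.coe_pow, pow_add, pow_mul, hj']
  rfl

/-- **Conjugates of an element with `p`-power class size commute modulo `O_p(G)`.** -/
theorem comm_conj_mem_pCore {G : Type u} [Group G] [Finite G] (p : ℕ) [hp : Fact p.Prime]
    (x : G) (a : ℕ) (hcl : (centralizer ({x} : Set G)).index = p ^ a) (g h : G) :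
    (g * x * g⁻¹) * (h * x * h⁻¹) * (g * x * g⁻¹)⁻¹ * (h * x * h⁻¹)⁻¹ ∈ Cfsg.pCore p G := by
  haveI hn : (Cfsg.pCore p G).Normal := Cfsg.Agent.Lib.Helper01.pCore_normal p
  set P := Cfsg.pCore p G with hP
  have hO : Cfsg.pCore p (G ⧸ P) = ⊥ := pCore_quotient_pCore_eq_bot p
  obtain ⟨a', -, ha'⟩ := (Nat.dvd_prime_pow hp.out).mp
    (hcl ▸ index_centralizer_quotient_dvd P x)
  have hcomm := normalClosure_comm_of_pCore_eq_bot p hO (QuotientGroup.mk' P x) a' ha'
  have hmem : ∀ t : G, QuotientGroup.mk' P (t * x * t⁻¹) ∈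
      normalClosure ({QuotientGroup.mk' P x} : Set (G ⧸ P)) := by
    intro t
    rw [map_mul, map_mul, map_inv]
    exact (inferInstance : (normalClosure ({QuotientGroup.mk' P x} : Set (G ⧸ P))).Normal).conj_mem
      _ (subset_normalClosure (Set.mem_singleton _)) _
  have h1 := hcomm _ (hmem g) _ (hmem h)
  rw [← QuotientGroup.eq_one_iff, ← QuotientGroup.mk'_apply]
  rw [map_mul, map_mul, map_mul, map_inv, map_inv, h1]
  group

end Cfsg.Agent.Lib.Helper20
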