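import Mathlib
import Cfsg.Prelude.Def_Local
import Cfsg.Agent.Lib.Helper12.LBDefs
import Cfsg.Agent.Lib.Helper29.LBalance
import Cfsg.Agent.Lib.Helper15.PSolv

/-!
# K-S1301-LB-BC: the base case of the `L_{2'}`-balance induction

`base_case_of` takes the three leaves it depends on (LB-FRAT `frattini_step`, LB-0 `qc_basic`,
GL-5 `odd_card_of_perfect_fix`) as explicit hypotheses.
-/

set_option autoImplicit false
universe u

namespace Cfsg.Agent.Lib.Helper20.LB

open Cfsg Cfsg.Agent.Lib.Helper12.LB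

variable {G : Type u} [Group G] [Finite G]

/-- the statement of LB-FRAT -/
def FratStmt (G : Type u) [Group G] [Finite G] : Prop :=
  ∀ (N Q : Subgroup G), QC N Q → ∀ (S₁ : Sylow 2 ↥(layer G ⊓ N)),
    Q ≤ layer G ∨ ∃ Q₃ : Subgroup G, ⁅Q₃, Q₃⁆ = Q₃ ∧
      Q₃ ≤ Subgroup.centralizer (((S₁ : Subgroup ↥(layer G ⊓ N)).map (layer G ⊓ N).subtype :
        Subgroup G) : Set G) ∧
      Q₃ ≤ Q ⊔ (OG N ⊓ layer G) ∧ Q ≤ Q₃ ⊔ (OG N ⊓ layer G)

/-- the statement of LB-0 -/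
def BasicStmt (G : Type u) [Group G] [Finite G] : Prop :=
  pPrimeCore 2 G = ⊥ → ∀ (P Q : Subgroup G), IsPGroup 2 P →
    QC (Subgroup.normalizer (P : Set G)) Q → ⁅Q, P⁆ = ⊥ ∧ ⁅Q, pCore 2 G⁆ = ⊥

/-- the statement of GL-5 -/
def OddFixStmt (X : Type u) [Group X] [Finite X] : Prop :=
  pPrimeCore 2 X = ⊥ → ∀ (S : Sylow 2 X) (B : Subgroup (MulAut X)),
    (∀ β ∈ B, ∀ s ∈ S, β s = s) → ⁅B, B⁆ = B → Odd (Nat.card B)

local notation "E" => Cfsg.layer G

theorem base_case_of (hfrat : FratStmt G) (hbasic : BasicStmt G)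
    (hoddfix : OddFixStmt ↥(layer G))
    (hO : pPrimeCore 2 G = ⊥) (Zh : Subgroup G) (hZh : IsPGroup 2 Zh)
    (S : Sylow 2 ↥(layer G))
    (hS : (S : Subgroup ↥(layer G)).map (layer G).subtype ≤ Subgroup.normalizer (Zh : Set G))
    (Q : Subgroup G) (hQ : QC (Subgroup.normalizer (Zh : Set G)) Q) : Q ≤ layer G := by
  classical
  have hprime : Fact (Nat.Prime 2) := ⟨Nat.prime_two⟩
  have hEn : (layer G).Normal := Cfsg.Agent.Lib.Helper30.layer_normal
  set N : Subgroup G := Subgroup.normalizer (Zh : Set G) with hN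
  set S' : Subgroup G := (S : Subgroup ↥E).map (E).subtype with hS'
  have hS'E : S' ≤ E := Subgroup.map_subtype_le _
  have hS'EN : S' ≤ E ⊓ N := le_inf hS'E hS
  -- a Sylow 2-subgroup of `E ⊓ N` containing `S'`
  have hS'p : IsPGroup 2 S' := (S.isPGroup').map _
  have hS''p : IsPGroup 2 (S'.subgroupOf (E ⊓ N)) :=
    hS'p.comap_of_injective _ (Subgroup.subtype_injective _)
  obtain ⟨S₁, hS₁⟩ := hS''p.exists_le_sylow
  have hS'S₁ : S' ≤ (S₁ : Subgroup ↥(E ⊓ N)).map (E ⊓ N).subtype := by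
    intro s hs
    exact ⟨⟨s, hS'EN hs⟩, hS₁ (show (⟨s, hS'EN hs⟩ : ↥(E ⊓ N)) ∈ S'.subgroupOf (E ⊓ N) from hs), rfl⟩
  rcases hfrat N Q hQ S₁ with h | ⟨Q₃, hQ₃perf, hQ₃S, hQ₃le, hQle⟩
  · exact h
  -- `Q₃` centralizes `S'`
  have hQ₃S' : ∀ q ∈ Q₃, ∀ s ∈ S', s * q = q * s := by
    intro q hq s hs
    exact Subgroup.mem_centralizer_iff.mp (hQ₃S hq) s (hS'S₁ hs)
  -- `O(E) = 1`
  have hOE : pPrimeCore 2 ↥E = ⊥ := by
    have h1 := Cfsg.Agent.Lib.Helper15.map_pPrimeCore_le_of_normal 2 E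
    rw [hO, le_bot_iff] at h1
    exact (Subgroup.map_eq_bot_iff_of_injective _ (Subgroup.subtype_injective _)).mp h1
  -- the automorphisms of `E` induced by `Q₃`
  let f : G →* MulAut ↥E := MulAut.conjNormal
  set B : Subgroup (MulAut ↥E) := Q₃.map f with hB
  have hBperf : ⁅B, B⁆ = B := by
    rw [hB, ← Subgroup.map_commutator, hQ₃perf]
  have hBS : ∀ β ∈ B, ∀ s ∈ S, β s = s := by
    rintro β ⟨q, hq, rfl⟩ s hs
    apply Subtype.ext
    rw [MulAut.conjNormal_apply]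
    have hsS' : (s : G) ∈ S' := ⟨s, hs, rfl⟩
    have := hQ₃S' q hq s hsS'
    rw [← this, mul_assoc, mul_inv_cancel, mul_one]
  have hBodd : Odd (Nat.card B) := hoddfix hOE S B hBS hBperf
  -- the normal subgroup `F = E C_G(E)`
  have hCn : (Subgroup.centralizer (E : Set G)).Normal := Subgroup.normal_centralizer
  set F : Subgroup G := E ⊔ Subgroup.centralizer (E : Set G) with hF
  have hFn : F.Normal := inferInstance
  let π : G →* G ⧸ F := QuotientGroup.mk' F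
  -- image of `Q₃` in `G ⧸ F` has odd order
  let φ₁ : ↥Q₃ →* MulAut ↥E := f.comp Q₃.subtype
  let φ₂ : ↥Q₃ →* G ⧸ F := π.comp Q₃.subtype
  have hker : φ₁.ker ≤ φ₂.ker := by
    intro q hq
    rw [MonoidHom.mem_ker] at hq ⊢
    show π (q : G) = 1
    rw [QuotientGroup.mk'_apply, QuotientGroup.eq_one_iff]
    apply (le_sup_right : Subgroup.centralizer (E : Set G) ≤ F)
    rw [Subgroup.mem_centralizer_iff]
    intro e he
    have h1 : (f (q : G)) ⟨e, he⟩ = ⟨e, he⟩ := by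
      have : f (q : G) = 1 := hq
      rw [this]; rfl
    have h2 := congrArg Subtype.val h1
    rw [MulAut.conjNormal_apply] at h2
    -- q * e * q⁻¹ = e
    have h3 : (q : G) * e = e * q := by
      have := congrArg (fun z => z * (q : G)) h2
      simpa [mul_assoc] using this
    exact h3.symm
  have hr1 : φ₁.range = B := by
    rw [MonoidHom.range_comp, Subgroup.range_subtype]
  have hr2 : φ₂.range = Q₃.map π := by
    rw [MonoidHom.range_comp, Subgroup.range_subtype]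
  have hQ₃odd : Odd (Nat.card (Q₃.map π)) := by
    have h1 : φ₂.ker.index ∣ φ₁.ker.index := Subgroup.index_dvd_of_le hker
    rw [Subgroup.index_ker, Subgroup.index_ker, hr1, hr2] at h1
    exact Odd.of_dvd_nat hBodd h1
  -- image of `Q` lies in the image of `Q₃`
  have hQπ : Q.map π ≤ Q₃.map π := by
    have h1 : Q.map π ≤ (Q₃ ⊔ (OG N ⊓ E)).map π := Subgroup.map_mono hQle
    rw [Subgroup.map_sup] at h1
    have h2 : (OG N ⊓ E).map π = ⊥ := by
      rw [eq_bot_iff]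
      rintro _ ⟨d, hd, rfl⟩
      rw [Subgroup.mem_bot]
      show π d = 1
      rw [QuotientGroup.mk'_apply, QuotientGroup.eq_one_iff]
      exact (le_sup_left : E ≤ F) hd.2
    rwa [h2, sup_bot_eq] at h1
  have hQodd : Odd (Nat.card (Q.map π)) :=
    Odd.of_dvd_nat hQ₃odd (Subgroup.card_dvd_of_le hQπ)
  -- `Q ≤ F` since `Q` has no odd quotient
  let ψ : ↥Q →* G ⧸ F := π.comp Q.subtype
  have hψr : ψ.range = Q.map π := by
    rw [MonoidHom.range_comp, Subgroup.range_subtype]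
  have hψk : ψ.ker = ⊤ := by
    apply hQ.nci ψ.ker inferInstance
    rw [Subgroup.index_ker, hψr]
    exact Nat.coprime_two_right.mpr hQodd
  have hQF : Q ≤ F := by
    intro q hq
    have h1 : (⟨q, hq⟩ : ↥Q) ∈ ψ.ker := by rw [hψk]; exact Subgroup.mem_top _
    rw [MonoidHom.mem_ker] at h1
    have h2 : π q = 1 := h1
    rw [QuotientGroup.mk'_apply, QuotientGroup.eq_one_iff] at h2
    exact h2
  -- conclusion
  obtain ⟨_, hQZ⟩ := hbasic hO Zh Q hZh hQ
  apply Cfsg.Agent.Lib.Helper29.perfect_le_layer (p := 2) hO Q hQ.perf hQZ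
  intro q hq
  have h1 : q ∈ (↑(E ⊔ Subgroup.centralizer (E : Set G)) : Set G) := hQF hq
  rw [Subgroup.normal_mul] at h1
  obtain ⟨e, he, c, hc, rfl⟩ := h1
  refine ⟨e, he, ?_⟩
  rw [← mul_assoc, inv_mul_cancel, one_mul]
  exact hc

end Cfsg.Agent.Lib.Helper20.LB
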