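import Mathlib
import Cfsg.Prelude.Def_Local
import Cfsg.Agent.Lib.Helper20.LBBaseCase2
import Cfsg.Agent.Lib.Helper83.LBFRAT

/-!
# K-S1301-LB-BC: the base case, exact spec signature
-/

set_option autoImplicit false
universe u

namespace Cfsg.Agent.Lib.Helper20.LB

open Cfsg Cfsg.Agent.Lib.Helper12.LB

variable {G : Type u} [Group G] [Finite G]

/-- **K-S1301-LB-BC.** -/
theorem base_case (hO : pPrimeCore 2 G = ⊥) (Zh : Subgroup G) (hZh : IsPGroup 2 Zh)
    (S : Sylow 2 ↥(layer G))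
    (hS : (S : Subgroup ↥(layer G)).map (layer G).subtype ≤ Subgroup.normalizer (Zh : Set G))
    (Q : Subgroup G) (hQ : QC (Subgroup.normalizer (Zh : Set G)) Q) : Q ≤ layer G :=
  base_case_of_frat
    (fun N Q' hQ' S₁ => Cfsg.Agent.Lib.Helper83.LB.frattini_step N Q' hQ' S₁)
    hO Zh hZh S hS Q hQ

end Cfsg.Agent.Lib.Helper20.LB
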