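/-
K-OEl pack (S5988 / S5990, architect helper49), LEAF F (keystone 598815): `x² = -1 = ω²`, `2 ≠ 0`:
every `x`-invariant nondegenerate subspace is of plus type.
-/
import Cfsg.Agent.Lib.Helper49.OElDefs

set_option autoImplicit false
set_option linter.unusedSectionVars false
set_option linter.unusedVariables false

namespace Cfsg.Agent.Lib.Helper20.OEl

open Module Cfsg.Agent.Lib.Helper98.Elus Cfsg.Agent.Lib.Helper98.Sy Cfsg.Agent.Lib.Helper38.OhP
  Cfsg.Agent.Lib.Helper49.OEl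

universe u
variable {F : Type u} [Field F] {V : Type u} [AddCommGroup V] [Module F V]

/-- an eigenvector of a `Q`-isometry for an eigenvalue `c` with `c * c = -1` is singular (`2 ≠ 0`) -/
theorem OElF.sing_of_eigen (h2 : (2 : F) ≠ 0) (Q : QuadraticForm F V) (x : V →ₗ[F] V) (hiso : QIso Q x)
    (c : F) (hc : c * c = -1) (v : V) (hv : x v = c • v) : Q v = 0 := by
  have h1 : Q (x v) = Q v := hiso v
  rw [hv, QuadraticMap.map_smul, hc, smul_eq_mul] at h1
  have h3 : (2 : F) * Q v = 0 := by linear_combination -h1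
  rcases mul_eq_zero.mp h3 with h | h
  · exact absurd h h2
  · exact h

/-- the two eigen-components of a vector -/
theorem OElF.decomp (x : V →ₗ[F] V) (hxx : ∀ v, x (x v) = -v) (ω : F) (hω : ω * ω = -1)
    (h2ω : (2 * ω : F) ≠ 0) (w : V) :
    x ((2 * ω)⁻¹ • (x w + ω • w)) = ω • ((2 * ω)⁻¹ • (x w + ω • w)) ∧
    x ((2 * ω)⁻¹ • (ω • w - x w)) = (-ω) • ((2 * ω)⁻¹ • (ω • w - x w)) ∧
    (2 * ω)⁻¹ • (x w + ω • w) + (2 * ω)⁻¹ • (ω • w - x w) = w := by
  have e : ω • ω • w = -w := by rw [smul_smul, hω, neg_one_smul]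
  refine ⟨?_, ?_, ?_⟩
  · rw [map_smul, map_add, map_smul, hxx, smul_comm ω, smul_add ω, e, add_comm]
  · rw [map_smul, map_sub, map_smul, hxx, neg_smul, smul_comm ω, smul_sub ω, e, ← smul_neg]
    congr 1
    abel
  · rw [← smul_add]
    have h : x w + ω • w + (ω • w - x w) = (2 * ω) • w := by
      rw [mul_smul, two_smul]; abel
    rw [h, smul_smul, inv_mul_cancel₀ h2ω, one_smul]

/-- a totally isotropic part `U` of a nondegenerate `W = U + U'` is no bigger than `U'` -/
theorem OElF.finrank_le [FiniteDimensional F V] (B : LinearMap.BilinForm F V) (W U U' : Submodule F V)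
    (hU : U ≤ W) (hWnd : NonDeg B W) (hiso : ∀ a ∈ U, ∀ b ∈ U, B a b = 0)
    (hdec : ∀ w ∈ W, ∃ a ∈ U, ∃ b ∈ U', w = a + b) : finrank F U ≤ finrank F U' := by
  have hinj : Function.Injective (B.domRestrict₁₂ U U') := by
    rw [← LinearMap.ker_eq_bot, LinearMap.ker_eq_bot']
    intro u hu
    have h0 : ∀ b ∈ U', B u b = 0 := fun b hb => by
      have := LinearMap.congr_fun hu ⟨b, hb⟩
      rw [LinearMap.domRestrict₁₂_apply] at this
      simpa using this
    have : (u : V) = 0 := by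
      apply hWnd u (hU u.2)
      intro w hw
      obtain ⟨a, ha, b, hb, rfl⟩ := hdec w hw
      rw [map_add, hiso u u.2 a ha, h0 b hb, add_zero]
    exact Subtype.ext this
  calc finrank F U ≤ finrank F (Module.Dual F U') := LinearMap.finrank_le_finrank_of_injective hinj
    _ = finrank F U' := Subspace.dual_finrank_eq

/-- LEAF F (598815) -/
theorem plusQ_of_sq_neg_one_split (h2 : (2 : F) ≠ 0) [FiniteDimensional F V]
    (Q : QuadraticForm F V) (x : V →ₗ[F] V) (hx : x * x = -1) (hiso : QIso Q x) (ω : F) (hω : ω * ω = -1)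
    (W : Submodule F V) (hW : Inv x W) (hWnd : NonDeg (pB Q) W) : PlusQ Q W := by
  classical
  have hxx : ∀ v, x (x v) = -v := fun v => by
    have := LinearMap.congr_fun hx v
    simpa using this
  have hω0 : ω ≠ 0 := by
    rintro rfl
    rw [mul_zero] at hω
    exact one_ne_zero (neg_eq_zero.mp hω.symm)
  have h2ω : (2 * ω : F) ≠ 0 := mul_ne_zero h2 hω0
  have hω' : (-ω) * (-ω) = -1 := by rw [neg_mul_neg, hω]
  -- the eigenspaces
  let E : F → Submodule F V := fun c =>
    { carrier := {v | x v = c • v}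
      add_mem' := fun {a b} ha hb => by
        show x (a + b) = c • (a + b)
        rw [map_add, smul_add, show x a = c • a from ha, show x b = c • b from hb]
      zero_mem' := by show x 0 = c • (0 : V); rw [map_zero, smul_zero]
      smul_mem' := fun k a ha => by
        show x (k • a) = c • k • a
        rw [map_smul, show x a = c • a from ha, smul_comm] }
  have memE : ∀ c v, v ∈ E c ↔ x v = c • v := fun c v => Iff.rfl
  have singE : ∀ c, c * c = -1 → ∀ v ∈ E c, Q v = 0 := fun c hc v hv =>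
    OElF.sing_of_eigen h2 Q x hiso c hc v hv
  have isoE : ∀ c, c * c = -1 → ∀ a ∈ E c, ∀ b ∈ E c, pB Q a b = 0 := fun c hc a ha b hb => by
    rw [pB_apply, singE c hc a ha, singE c hc b hb, singE c hc (a + b) ((E c).add_mem ha hb)]
    ring
  -- the decomposition
  have hdec : ∀ w ∈ W, ∃ a ∈ W ⊓ E ω, ∃ b ∈ W ⊓ E (-ω), w = a + b := fun w hw => by
    obtain ⟨h1, h3, h4⟩ := OElF.decomp x hxx ω hω h2ω w
    refine ⟨(2 * ω)⁻¹ • (x w + ω • w), ⟨?_, h1⟩, (2 * ω)⁻¹ • (ω • w - x w), ⟨?_, h3⟩, h4.symm⟩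
    · exact W.smul_mem _ (W.add_mem (hW w hw) (W.smul_mem ω hw))
    · exact W.smul_mem _ (W.sub_mem (W.smul_mem ω hw) (hW w hw))
  have hdec' : ∀ w ∈ W, ∃ a ∈ W ⊓ E (-ω), ∃ b ∈ W ⊓ E ω, w = a + b := fun w hw => by
    obtain ⟨a, ha, b, hb, h⟩ := hdec w hw
    exact ⟨b, hb, a, ha, by rw [h, add_comm]⟩
  have hle1 : finrank F ↥(W ⊓ E ω) ≤ finrank F ↥(W ⊓ E (-ω)) :=
    OElF.finrank_le (pB Q) W _ _ inf_le_left hWnd
      (fun a ha b hb => isoE ω hω a ha.2 b hb.2) hdec
  have hle2 : finrank F ↥(W ⊓ E (-ω)) ≤ finrank F ↥(W ⊓ E ω) :=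
    OElF.finrank_le (pB Q) W _ _ inf_le_left hWnd
      (fun a ha b hb => isoE (-ω) hω' a ha.2 b hb.2) hdec'
  have hinf : (W ⊓ E ω) ⊓ (W ⊓ E (-ω)) = ⊥ := by
    rw [eq_bot_iff]
    intro v hv
    have h1 : x v = ω • v := hv.1.2
    have h3 : x v = (-ω) • v := hv.2.2
    have h4 : (2 * ω) • v = 0 := by
      rw [mul_smul, two_smul]
      have : ω • v = -(ω • v) := by rw [← neg_smul, ← h3, h1]
      nth_rewrite 1 [this]
      exact neg_add_cancel _
    rcases smul_eq_zero.mp h4 with h | h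
    · exact absurd h h2ω
    · exact (Submodule.mem_bot F).mpr h
  have hsup : (W ⊓ E ω) ⊔ (W ⊓ E (-ω)) = W := by
    apply le_antisymm (sup_le inf_le_left inf_le_left)
    intro w hw
    obtain ⟨a, ha, b, hb, rfl⟩ := hdec w hw
    exact Submodule.add_mem_sup ha hb
  have hdim := Submodule.finrank_sup_add_finrank_inf_eq (W ⊓ E ω) (W ⊓ E (-ω))
  rw [hinf, hsup, finrank_bot, add_zero] at hdim
  refine ⟨W ⊓ E ω, inf_le_left, fun u hu => singE ω hω u hu.2, ?_⟩
  omega

end Cfsg.Agent.Lib.Helper20.OEl
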