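import Cfsg.Agent.Lib.Helper98.Oh0
import Cfsg.Agent.Lib.Helper50.TypeCriteria
import Cfsg.Agent.Lib.Helper50.ElusiveCount

set_option autoImplicit false
set_option linter.unusedSimpArgs false
set_option linter.unusedSectionVars false
set_option linter.unusedVariables false
set_option linter.style.haveILetI false
set_option maxHeartbeats 1000000

/-!
# S5992 / S5993 keystone K-Oh-C2 (helper20): type of a minimal nondegenerate invariant piece
-/

namespace Cfsg.Agent.Lib.Helper20.Oh

open Module Polynomial Cfsg.Agent.Lib.Helper98.Elus Cfsg.Agent.Lib.Helper98.Sy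
  Cfsg.Agent.Lib.Helper98.Oh

universe u
variable {F : Type u} [Field F] {V : Type u} [AddCommGroup V] [Module F V]

/-- arithmetic: `q^k + (q^k - 1) q^(k-1) ≡ 1 (mod r)` is impossible when the order of `q` is `2k`,
`k ≥ 1`, `r` an odd prime -/
theorem C2.arith (q r k : ℕ) [Fact r.Prime] (hr2 : r ≠ 2) (hk : 1 ≤ k)
    (hi : orderOf (q : ZMod r) = 2 * k) (hq : 1 ≤ q)
    (h : q ^ k + (q ^ k - 1) * q ^ (k - 1) ≡ 1 [MOD r]) : False := by
  have hr : r.Prime := Fact.out
  have h1 := (ZMod.natCast_eq_natCast_iff _ _ r).mpr h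
  have hqk : 1 ≤ q ^ k := Nat.one_le_pow _ _ hq
  push_cast [Nat.cast_sub hqk] at h1
  have h2 : ((q : ZMod r) ^ k - 1) * ((q : ZMod r) ^ (k - 1) + 1) = 0 := by
    linear_combination h1
  rcases mul_eq_zero.mp h2 with h3 | h3
  · have h4 : (q : ZMod r) ^ k = 1 := sub_eq_zero.mp h3
    have := orderOf_dvd_of_pow_eq_one h4
    rw [hi] at this
    have := Nat.le_of_dvd (by omega) this
    omega
  · have h4 : (q : ZMod r) ^ (k - 1) = -1 := eq_neg_of_add_eq_zero_left h3
    have h5 : (q : ZMod r) ^ (2 * (k - 1)) = 1 := by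
      rw [mul_comm, pow_mul, h4]; norm_num
    have h6 := orderOf_dvd_of_pow_eq_one h5
    rw [hi] at h6
    have hk1 : k = 1 := by
      by_contra hne
      have := Nat.le_of_dvd (by omega) h6
      omega
    subst hk1
    simp only [Nat.sub_self, pow_zero] at h4
    have h7 : ((2 : ℕ) : ZMod r) = 0 := by
      push_cast
      linear_combination h4
    rw [ZMod.natCast_eq_zero_iff] at h7
    exact hr2 ((Nat.prime_dvd_prime_iff_eq hr Nat.prime_two).mp h7)

/-- the even case: a nondegenerate invariant subspace of `V1` of dimension `i = 2k` is not of plus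
type -/
theorem C2.not_plus_of_even [Fintype F] (h2 : (2 : F) ≠ 0) [FiniteDimensional F V]
    (B : LinearMap.BilinForm F V) (hS : ∀ a b, B a b = B b a)
    (r : ℕ) [Fact r.Prime] (hr2 : r ≠ 2) (hrF : (r : F) ≠ 0) (y : V →ₗ[F] V)
    (hy : y ^ r = 1) (hiso : Iso B y)
    (W : Submodule F V) (hWV1 : W ≤ V1 r y) (hW : Inv y W) (hWnd : NonDeg B W) (k : ℕ)
    (hk : 1 ≤ k) (hi : orderOf ((Fintype.card F : ℕ) : ZMod r) = 2 * k)
    (hWd : finrank F W = 2 * k) (hP : Plus B W) : False := by
  classical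
  obtain ⟨U, hUW, hU0, hUd⟩ := hP
  -- the quadratic form `v ↦ B v v` on `W`
  let Bw : LinearMap.BilinForm F W := B.compl₁₂ W.subtype W.subtype
  have hBw : ∀ a b : W, Bw a b = B (a : V) (b : V) := fun a b => rfl
  let Q : QuadraticForm F W := LinearMap.BilinMap.toQuadraticMap Bw
  have hQ : ∀ v : W, Q v = B (v : V) (v : V) := fun v => rfl
  have hQnd : Cfsg.Agent.Lib.Helper50.QND Q := by
    intro v hv
    have : (v : V) = 0 := by
      apply hWnd v v.2
      intro w hw
      have h1 := hv ⟨w, hw⟩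
      rw [LinearMap.BilinMap.polar_toQuadraticMap, hBw, hBw] at h1
      simp only at h1
      rw [hS w (v : V)] at h1
      have h3 : (2 : F) * B (v : V) w = 0 := by linear_combination h1
      rcases mul_eq_zero.mp h3 with h | h
      · exact absurd h h2
      · exact h
    exact Subtype.ext this
  have hXd : finrank F ↥(Submodule.comap W.subtype U) = finrank F U :=
    LinearEquiv.finrank_eq (Submodule.comapSubtypeEquivOfLe hUW)
  have hplus : Cfsg.Agent.Lib.Helper50.IsPlusType Q k :=
    Cfsg.Agent.Lib.Helper50.plusType_of_totally_singular k Q hQnd hWd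
      (Submodule.comap W.subtype U) (by omega) (fun x hx => by
        rw [hQ]; exact hU0 _ (Submodule.mem_comap.mp hx))
  obtain ⟨φ, hφ⟩ := hplus
  -- count the singular vectors
  let S := {v : W // B (v : V) (v : V) = 0}
  have e : S ≃ {x : Fin k ⊕ Fin k → F // Cfsg.quadFormPlus k F x = 0} :=
    Equiv.subtypeEquiv φ.toEquiv (fun v => by
      show B (v : V) (v : V) = 0 ↔ Cfsg.quadFormPlus k F (φ v) = 0
      rw [hφ v, hQ])
  haveI : Fintype V := Module.fintypeOfFintype (Module.finBasis F V)
  have hcard : Fintype.card S =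
      Fintype.card F ^ k + (Fintype.card F ^ k - 1) * Fintype.card F ^ (k - 1) := by
    rw [← Nat.card_eq_fintype_card, Nat.card_congr e]
    exact Cfsg.Agent.Lib.Helper50.card_zeros_plus k
  -- the action of `y`
  let f : Function.End S := fun v => ⟨⟨y (v.1 : V), hW _ v.1.2⟩, by
    show B (y (v.1 : V)) (y (v.1 : V)) = 0
    rw [hiso]; exact v.2⟩
  have hfpow : ∀ n : ℕ, ∀ v : S, (((f ^ n) v).1 : V) = (y ^ n) (v.1 : V) := by
    intro n
    induction n with
    | zero => intro v; rfl
    | succ n ih =>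
      intro v
      rw [pow_succ', pow_succ', Module.End.mul_apply, ← ih v]
      rfl
  have hfr : f ^ r ^ 1 = 1 := by
    rw [pow_one]
    funext v
    apply Subtype.ext
    apply Subtype.ext
    rw [hfpow, hy]
    rfl
  have hmod := Equiv.Perm.card_fixedPoints_modEq (p := r) (n := 1) hfr
  have hfix : Fintype.card (Function.fixedPoints f) = 1 := by
    rw [Fintype.card_eq_one_iff]
    refine ⟨⟨⟨0, by show B ((0 : W) : V) ((0 : W) : V) = 0; simp⟩, ?_⟩, ?_⟩
    · show f _ = _
      apply Subtype.ext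
      apply Subtype.ext
      show y ((0 : W) : V) = ((0 : W) : V)
      simp
    · rintro ⟨v, hv⟩
      apply Subtype.ext
      apply Subtype.ext
      apply Subtype.ext
      show ((v.1 : W) : V) = ((0 : W) : V)
      have h1 : y (v.1 : V) = (v.1 : V) := congrArg (fun s : S => ((s.1 : W) : V)) hv
      have h3 : (v.1 : V) ∈ V0 y ⊓ V1 r y :=
        Submodule.mem_inf.mpr ⟨(mem_V0 y _).mpr h1, hWV1 v.1.2⟩
      rw [V0_inf_V1 r hrF y, Submodule.mem_bot] at h3
      rw [h3]; rfl
  rw [hfix, hcard] at hmod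
  exact C2.arith (Fintype.card F) r k hr2 hk hi Fintype.card_pos hmod

theorem plus_iff_of_min [Fintype F] (h2 : (2 : F) ≠ 0) [FiniteDimensional F V]
    (B : LinearMap.BilinForm F V) (hS : ∀ a b, B a b = B b a) (hV : NonDeg B ⊤)
    (p f : ℕ) [Fact p.Prime] (hF : Fintype.card F = p ^ f)
    (r : ℕ) [Fact r.Prime] (hpr : p ≠ r) (hr2 : r ≠ 2) (hrF : (r : F) ≠ 0) (y : V →ₗ[F] V)
    (hy : y ^ r = 1) (hiso : Iso B y)
    (hodd : ∀ M : Submodule F V, M ≤ V1 r y → Inv y M → NonDeg B M → Even (finrank F M))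
    (W : Submodule F V) (hWV1 : W ≤ V1 r y) (hW : Inv y W) (hWnd : NonDeg B W)
    (hWd : finrank F W = cOf (orderOf ((Fintype.card F : ℕ) : ZMod r))) :
    Plus B W ↔ Odd (orderOf ((Fintype.card F : ℕ) : ZMod r)) := by
  classical
  have hr : r.Prime := Fact.out
  have hR : B.IsRefl := Cfsg.Agent.Lib.Helper98.Os.isRefl_of_symm hS
  set i := orderOf ((Fintype.card F : ℕ) : ZMod r) with hi
  have hi1 : 1 ≤ i := orderOf_card_pos p f hF r hpr
  by_cases heven : Even i
  · -- `i` even: not of plus type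
    have hno : ¬ Odd i := Nat.not_odd_iff_even.mpr heven
    refine ⟨fun hP => ?_, fun h => absurd h hno⟩
    exfalso
    obtain ⟨k, hk⟩ := heven
    have hWd' : finrank F W = 2 * k := by
      rw [hWd, cOf, if_pos ⟨k, hk⟩]; omega
    exact C2.not_plus_of_even h2 B hS r hr2 hrF y hy hiso W hWV1 hW hWnd k (by omega)
      (by rw [← hi]; omega) hWd' hP
  · -- `i` odd: of plus type
    have hoddi : Odd i := Nat.not_even_iff_odd.mp heven
    refine ⟨fun _ => hoddi, fun _ => ?_⟩
    have hWd' : finrank F W = 2 * i := by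
      rw [hWd, cOf, if_neg heven]
    obtain ⟨fs, hmonic, hdeg, hprod⟩ := cyclo_factors (F := F) p f hF r hpr
    have hdivW : ∀ Z : Submodule F V, Z ≤ W → Inv y Z → i ∣ finrank F Z := fun Z hZW hZ =>
      dvd_finrank_of_le_V1 r hrF y hy Z hZ (le_trans hZW hWV1)
    have hkillW : ∀ v ∈ W, aeval y fs.prod v = 0 := by
      intro v hv
      rw [hprod, aeval_cyclotomic_eq_gsum]
      exact (mem_V1 r y v).mp (hWV1 hv)
    obtain ⟨M, hMW, hM, hMd⟩ := greedy y W hW i hi1 fs hmonic (fun g hg => le_of_eq (hdeg g hg))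
      hkillW hdivW 1 (by rw [mul_one, hWd']; omega)
    rw [mul_one] at hMd
    have hMperp : Inv y (B.orthogonal M) := inv_orth r hr.pos y hy hiso M hM
    have hZinv : Inv y (M ⊓ B.orthogonal M) := hM.inf hMperp
    obtain ⟨c, hc⟩ := hdivW (M ⊓ B.orthogonal M) (le_trans inf_le_left hMW) hZinv
    have hle := Submodule.finrank_mono (inf_le_left : M ⊓ B.orthogonal M ≤ M)
    rw [hMd] at hle
    rcases Nat.lt_or_ge c 1 with h | h
    · -- `M` nondegenerate: impossible
      exfalso
      have hc0 : c = 0 := by omega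
      rw [hc0, mul_zero] at hc
      have hbot : M ⊓ B.orthogonal M = ⊥ := Submodule.finrank_eq_zero.mp hc
      have hMnd : NonDeg B M :=
        (Cfsg.Agent.Lib.Helper98.Os.nonDeg_iff_disjoint hR M).mpr (disjoint_iff.mpr hbot)
      have := hodd M (le_trans hMW hWV1) hM hMnd
      rw [hMd] at this
      exact heven this
    · -- `M` totally isotropic
      have hc1 : c = 1 := by
        by_contra hne
        have : 2 ≤ c := by omega
        have : i * 2 ≤ i * c := Nat.mul_le_mul_left i this
        omega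
      have hrad : M ⊓ B.orthogonal M = M := by
        apply Submodule.eq_of_le_of_finrank_eq inf_le_left
        rw [hc, hc1, mul_one, hMd]
      have hMti : M ≤ B.orthogonal M := inf_eq_left.mp hrad
      refine ⟨M, hMW, fun u hu => ?_, by rw [hMd, hWd']⟩
      exact LinearMap.BilinForm.mem_orthogonal_iff.mp (hMti hu) u hu

end Cfsg.Agent.Lib.Helper20.Oh
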