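import Cfsg.Agent.Lib.Helper98.Oh0
import Cfsg.Agent.Lib.Helper50.TypeCriteria
import Cfsg.Agent.Lib.Helper50.WittMain

set_option autoImplicit false
set_option linter.unusedSimpArgs false
set_option linter.unusedSectionVars false
set_option linter.unusedVariables false
set_option linter.style.haveILetI false
set_option maxHeartbeats 1000000

/-!
# S5992 / S5993 keystone K-Oh-F (helper20): involutions fix nondegenerate subspaces of both types
-/

namespace Cfsg.Agent.Lib.Helper20.Oh

open Module Polynomial Cfsg.Agent.Lib.Helper98.Elus Cfsg.Agent.Lib.Helper98.Sy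
  Cfsg.Agent.Lib.Helper98.Oh

universe u
variable {F : Type u} [Field F] {V : Type u} [AddCommGroup V] [Module F V]

/-- the quadratic form `v ↦ B v v / 2` on a subspace -/
noncomputable def OhF.quad (B : LinearMap.BilinForm F V) (W : Submodule F V) : QuadraticForm F W :=
  (2⁻¹ : F) • LinearMap.BilinMap.toQuadraticMap (B.compl₁₂ W.subtype W.subtype)

theorem OhF.quad_apply (B : LinearMap.BilinForm F V) (W : Submodule F V) (v : W) :
    OhF.quad B W v = 2⁻¹ * B (v : V) (v : V) := rfl

theorem OhF.polar_quad (h2 : (2 : F) ≠ 0) (B : LinearMap.BilinForm F V)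
    (hS : ∀ a b, B a b = B b a) (W : Submodule F V) (a b : W) :
    QuadraticMap.polar (OhF.quad B W) a b = B (a : V) (b : V) := by
  simp only [QuadraticMap.polar, OhF.quad_apply, Submodule.coe_add, map_add, LinearMap.add_apply]
  rw [hS (b : V) (a : V)]
  have h : (2 : F)⁻¹ * 2 = 1 := inv_mul_cancel₀ h2
  linear_combination (B (a : V) (b : V)) * h

theorem OhF.qnd (h2 : (2 : F) ≠ 0) (B : LinearMap.BilinForm F V)
    (hS : ∀ a b, B a b = B b a) (W : Submodule F V) (hW : NonDeg B W) :
    Cfsg.Agent.Lib.Helper50.QND (OhF.quad B W) := by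
  intro v hv
  apply Subtype.ext
  apply hW v v.2
  intro w hw
  have := hv ⟨w, hw⟩
  rwa [OhF.polar_quad h2 B hS] at this

/-- plus type through the discriminant of a basis -/
theorem OhF.plus_iff_gram [Fintype F] (h2 : (2 : F) ≠ 0) [FiniteDimensional F V]
    (B : LinearMap.BilinForm F V) (hS : ∀ a b, B a b = B b a) (W : Submodule F V)
    (hW : NonDeg B W) (k : ℕ) (hWd : finrank F W = 2 * k) {ι : Type} [Fintype ι] [DecidableEq ι]
    (b : Basis ι F W) :
    Plus B W ↔ (IsSquare (Matrix.of fun i j => B (b i : V) (b j : V)).det ↔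
      IsSquare ((-1 : F) ^ k)) := by
  have hQ := OhF.qnd h2 B hS W hW
  have hmat : (Matrix.of fun i j => QuadraticMap.polar (OhF.quad B W) (b i) (b j)) =
      Matrix.of fun i j => B (b i : V) (b j : V) := by
    ext i j
    exact OhF.polar_quad h2 B hS W _ _
  have hPlusOf : Plus B W → Cfsg.Agent.Lib.Helper50.IsPlusType (OhF.quad B W) k := by
    rintro ⟨U, hUW, hU0, hUd⟩
    have hXd : finrank F ↥(Submodule.comap W.subtype U) = finrank F U :=
      LinearEquiv.finrank_eq (Submodule.comapSubtypeEquivOfLe hUW)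
    exact Cfsg.Agent.Lib.Helper50.plusType_of_totally_singular k _ hQ hWd
      (Submodule.comap W.subtype U) (by omega) (fun x hx => by
        have h0 : B (x : V) (x : V) = 0 := hU0 _ (Submodule.mem_comap.mp hx)
        rw [OhF.quad_apply, h0, mul_zero])
  rcases Cfsg.Agent.Lib.Helper50.witt_type (2 * k) (OhF.quad B W) hWd hQ with
    ⟨m, hm, hp⟩ | ⟨m, ζ, hm, hζ, hmin⟩ | ⟨m, c, hm, -, -⟩
  · have hmk : m = k := by omega
    subst hmk
    have hg := Cfsg.Agent.Lib.Helper50.gram_isSquare_plus _ m hp b
    rw [hmat] at hg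
    refine ⟨fun _ => hg, fun _ => ?_⟩
    obtain ⟨X, hXd, hX0⟩ := Cfsg.Agent.Lib.Helper50.exists_totally_singular_of_plusType _ m hp
    refine ⟨X.map W.subtype, ?_, ?_, ?_⟩
    · rintro _ ⟨x, _, rfl⟩
      exact x.2
    · rintro _ ⟨x, hx, rfl⟩
      have := hX0 x hx
      rw [OhF.quad_apply] at this
      rcases mul_eq_zero.mp this with h | h
      · exact absurd h (inv_ne_zero h2)
      · exact h
    · rw [Submodule.finrank_map_subtype_eq, hXd, hWd]
  · have hmk : k = m + 1 := by omega
    subst hmk
    have hg := Cfsg.Agent.Lib.Helper50.gram_isSquare_minus h2 _ m ζ hζ hmin b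
    rw [hmat] at hg
    constructor
    · intro hP
      exact (Cfsg.Agent.Lib.Helper50.not_plus_and_minus _ m ζ hζ (hPlusOf hP) hmin).elim
    · intro h
      exfalso
      by_cases hA : IsSquare (Matrix.of fun i j => B (b i : V) (b j : V)).det
      · exact (hg.mp hA) (h.mp hA)
      · exact hA (hg.mpr (fun hC => hA (h.mpr hC)))
  · omega

/-- pairing of a combination of an orthogonal family with a member -/
theorem OhF.pair_sum (B : LinearMap.BilinForm F V) (n : ℕ) (w : Fin n → V)
    (hort : ∀ i j, i ≠ j → B (w i) (w j) = 0) (c : Fin n → F) (j : Fin n) :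
    B (∑ i, c i • w i) (w j) = c j * B (w j) (w j) := by
  rw [map_sum, LinearMap.sum_apply, Finset.sum_eq_single j]
  · rw [map_smul, LinearMap.smul_apply, smul_eq_mul]
  · intro i _ hij
    rw [map_smul, LinearMap.smul_apply, hort i j hij, smul_zero]
  · intro h
    exact absurd (Finset.mem_univ j) h

theorem OhF.family_li (B : LinearMap.BilinForm F V) (n : ℕ) (w : Fin n → V)
    (hort : ∀ i j, i ≠ j → B (w i) (w j) = 0) (hn : ∀ i, B (w i) (w i) ≠ 0) :
    LinearIndependent F w := by
  rw [Fintype.linearIndependent_iff]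
  intro c hc j
  have h1 := OhF.pair_sum B n w hort c j
  rw [hc, map_zero, LinearMap.zero_apply] at h1
  rcases mul_eq_zero.mp h1.symm with h | h
  · exact h
  · exact absurd h (hn j)

theorem OhF.family_nonDeg (B : LinearMap.BilinForm F V) (n : ℕ) (w : Fin n → V)
    (hort : ∀ i j, i ≠ j → B (w i) (w j) = 0) (hn : ∀ i, B (w i) (w i) ≠ 0) :
    NonDeg B (Submodule.span F (Set.range w)) := by
  intro u hu hu'
  obtain ⟨c, rfl⟩ := (Submodule.mem_span_range_iff_exists_fun F).mp hu
  have hc : ∀ j, c j = 0 := by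
    intro j
    have h1 := OhF.pair_sum B n w hort c j
    rw [hu' (w j) (Submodule.subset_span ⟨j, rfl⟩)] at h1
    rcases mul_eq_zero.mp h1.symm with h | h
    · exact h
    · exact absurd h (hn j)
  simp [hc]

theorem OhF.family_finrank (B : LinearMap.BilinForm F V) (n : ℕ) (w : Fin n → V)
    (hort : ∀ i j, i ≠ j → B (w i) (w j) = 0) (hn : ∀ i, B (w i) (w i) ≠ 0) :
    finrank F (Submodule.span F (Set.range w)) = n := by
  rw [finrank_span_eq_card (OhF.family_li B n w hort hn), Fintype.card_fin]

theorem OhF.family_inv (g : V →ₗ[F] V) (n : ℕ) (w : Fin n → V)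
    (hw : ∀ i, g (w i) = w i ∨ g (w i) = -w i) :
    Inv g (Submodule.span F (Set.range w)) := by
  intro v hv
  induction hv using Submodule.span_induction with
  | mem x hx =>
    obtain ⟨i, rfl⟩ := hx
    rcases hw i with h | h
    · rw [h]
      exact Submodule.subset_span ⟨i, rfl⟩
    · rw [h]
      exact Submodule.neg_mem _ (Submodule.subset_span ⟨i, rfl⟩)
  | zero => rw [map_zero]; exact Submodule.zero_mem _
  | add x y _ _ hx hy => rw [map_add]; exact Submodule.add_mem _ hx hy
  | smul a x _ hx => rw [map_smul]; exact Submodule.smul_mem _ _ hx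

/-- the type of the span of an orthogonal family -/
theorem OhF.family_plus [Fintype F] (h2 : (2 : F) ≠ 0) [FiniteDimensional F V]
    (B : LinearMap.BilinForm F V) (hS : ∀ a b, B a b = B b a) (n k : ℕ) (hnk : n = 2 * k)
    (w : Fin n → V) (hort : ∀ i j, i ≠ j → B (w i) (w j) = 0) (hn : ∀ i, B (w i) (w i) ≠ 0) :
    Plus B (Submodule.span F (Set.range w)) ↔
      (IsSquare (∏ i, B (w i) (w i)) ↔ IsSquare ((-1 : F) ^ k)) := by
  have hli := OhF.family_li B n w hort hn
  have hmat : (Matrix.of fun i j => B ((Basis.span hli i : Submodule.span F (Set.range w)) : V)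
      ((Basis.span hli j : Submodule.span F (Set.range w)) : V)) =
      Matrix.diagonal (fun i => B (w i) (w i)) := by
    ext i j
    rw [Matrix.of_apply, Basis.span_apply, Basis.span_apply]
    by_cases h : i = j
    · subst h
      rw [Matrix.diagonal_apply_eq]
    · rw [Matrix.diagonal_apply_ne _ h]
      exact hort i j h
  have h := OhF.plus_iff_gram h2 B hS _ (OhF.family_nonDeg B n w hort hn) k
    (by rw [OhF.family_finrank B n w hort hn, hnk]) (Basis.span hli)
  rw [hmat, Matrix.det_diagonal] at h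
  exact h

/-- an eigenvector of nonzero norm in a nonzero nondegenerate invariant subspace -/
theorem OhF.exists_eigen (h2 : (2 : F) ≠ 0) (B : LinearMap.BilinForm F V)
    (hS : ∀ a b, B a b = B b a) (g : V →ₗ[F] V) (hg : g * g = 1) (hiso : Iso B g)
    (U : Submodule F V) (hUinv : Inv g U) (hU : NonDeg B U) (hne : U ≠ ⊥) :
    ∃ u ∈ U, (g u = u ∨ g u = -u) ∧ B u u ≠ 0 := by
  have hgg : ∀ v, g (g v) = v := by
    intro v
    have := congrArg (fun f => f v) hg
    simpa [Module.End.mul_apply] using this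
  have hex : ∃ x ∈ U, B x x ≠ 0 := by
    by_contra hcon
    push Not at hcon
    apply hne
    rw [eq_bot_iff]
    intro a ha
    rw [Submodule.mem_bot]
    apply hU a ha
    intro b hb
    have h1 := hcon (a + b) (Submodule.add_mem _ ha hb)
    rw [map_add, map_add, LinearMap.add_apply, LinearMap.add_apply, hcon a ha, hcon b hb,
      hS b a] at h1
    have h3 : (2 : F) * B a b = 0 := by linear_combination h1
    rcases mul_eq_zero.mp h3 with h | h
    · exact absurd h h2
    · exact h
  obtain ⟨x, hxU, hx⟩ := hex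
  by_cases hp : B (x + g x) (x + g x) = 0
  · refine ⟨x - g x, Submodule.sub_mem _ hxU (hUinv x hxU), Or.inr ?_, ?_⟩
    · rw [map_sub, hgg]; abel
    · intro hm
      apply hx
      rw [map_add, map_add, LinearMap.add_apply, LinearMap.add_apply, hiso, hS (g x) x] at hp
      rw [map_sub, map_sub, LinearMap.sub_apply, LinearMap.sub_apply, hiso, hS (g x) x] at hm
      have h4 : (2 : F) * (2 * B x x) = 0 := by linear_combination hp + hm
      rcases mul_eq_zero.mp h4 with h | h
      · exact absurd h h2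
      · rcases mul_eq_zero.mp h with h' | h'
        · exact absurd h' h2
        · exact h'
  · refine ⟨x + g x, Submodule.add_mem _ hxU (hUinv x hxU), Or.inl ?_, hp⟩
    rw [map_add, hgg]; abel

/-- orthogonal families of eigenvectors of nonzero norm -/
theorem OhF.exists_family [FiniteDimensional F V] (h2 : (2 : F) ≠ 0)
    (B : LinearMap.BilinForm F V) (hS : ∀ a b, B a b = B b a) (g : V →ₗ[F] V) (hg : g * g = 1)
    (hiso : Iso B g) :
    ∀ N : ℕ, ∀ U : Submodule F V, Inv g U → NonDeg B U → N ≤ finrank F U →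
      ∃ w : Fin N → V, (∀ i, w i ∈ U) ∧ (∀ i, g (w i) = w i ∨ g (w i) = -w i) ∧
        (∀ i j, i ≠ j → B (w i) (w j) = 0) ∧ ∀ i, B (w i) (w i) ≠ 0 := by
  have hR : B.IsRefl := Cfsg.Agent.Lib.Helper98.Os.isRefl_of_symm hS
  intro N
  induction N with
  | zero =>
    intro U _ _ _
    exact ⟨fun i => i.elim0, fun i => i.elim0, fun i => i.elim0, fun i => i.elim0,
      fun i => i.elim0⟩
  | succ N ih =>
    intro U hUinv hU hNU
    have hne : U ≠ ⊥ := by
      intro h
      rw [h, finrank_bot] at hNU
      omega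
    obtain ⟨u, huU, hgu, hu⟩ := OhF.exists_eigen h2 B hS g hg hiso U hUinv hU hne
    have hu0 : u ≠ 0 := by
      intro h
      apply hu
      simp [h]
    have hLU : Submodule.span F {u} ≤ U := by
      rw [Submodule.span_singleton_le_iff_mem]
      exact huU
    have hL : NonDeg B (Submodule.span F {u}) := by
      intro a ha ha'
      obtain ⟨s, rfl⟩ := Submodule.mem_span_singleton.mp ha
      have h1 := ha' u (Submodule.mem_span_singleton_self u)
      rw [map_smul, LinearMap.smul_apply, smul_eq_mul] at h1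
      rcases mul_eq_zero.mp h1 with h | h
      · rw [h, zero_smul]
      · exact absurd h hu
    have hLinv : Inv g (Submodule.span F {u}) := by
      intro a ha
      obtain ⟨s, rfl⟩ := Submodule.mem_span_singleton.mp ha
      rw [map_smul]
      apply Submodule.smul_mem
      rcases hgu with h | h
      · rw [h]
        exact Submodule.mem_span_singleton_self u
      · rw [h]
        exact Submodule.neg_mem _ (Submodule.mem_span_singleton_self u)
    obtain ⟨-, -, hnd', hdim⟩ :=
      Cfsg.Agent.Lib.Helper98.Os.compl_props hR (Submodule.span F {u}) U hL hLU hU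
    rw [finrank_span_singleton hu0] at hdim
    have hinv' : Inv g (B.orthogonal (Submodule.span F {u}) ⊓ U) :=
      (inv_orth 2 (by norm_num) g (by rw [pow_two]; exact hg) hiso _ hLinv).inf hUinv
    obtain ⟨w', hw'U, hw'g, hw'o, hw'n⟩ := ih _ hinv' hnd' (by omega)
    have hperp : ∀ j, B u (w' j) = 0 := by
      intro j
      have := (Submodule.mem_inf.mp (hw'U j)).1
      exact LinearMap.BilinForm.mem_orthogonal_iff.mp this u (Submodule.mem_span_singleton_self u)
    refine ⟨Fin.cons u w', ?_, ?_, ?_, ?_⟩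
    · intro i
      refine Fin.cases ?_ (fun j => ?_) i
      · simpa using huU
      · simpa using (Submodule.mem_inf.mp (hw'U j)).2
    · intro i
      refine Fin.cases ?_ (fun j => ?_) i
      · simpa using hgu
      · simpa using hw'g j
    · intro i j
      refine Fin.cases ?_ (fun i' => ?_) i <;> refine Fin.cases ?_ (fun j' => ?_) j
      · intro h
        exact absurd rfl h
      · intro _
        simpa using hperp j'
      · intro _
        simp only [Fin.cons_zero, Fin.cons_succ]
        rw [hS]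
        exact hperp i'
      · intro h
        simp only [Fin.cons_succ]
        exact hw'o i' j' (fun h' => h (by rw [h']))
    · intro i
      refine Fin.cases ?_ (fun j => ?_) i
      · simpa using hu
      · simpa using hw'n j

/-- binary forms over a finite field of odd characteristic are universal -/
theorem OhF.exists_repr [Fintype F] (h2 : (2 : F) ≠ 0) (c1 c2 d : F) (h1 : c1 ≠ 0)
    (h2' : c2 ≠ 0) : ∃ a b : F, a * a * c1 + b * b * c2 = d := by
  have hc : Fintype.card F % 2 = 1 := by
    apply FiniteField.odd_card_of_char_ne_two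
    intro h
    apply h2
    have := CharP.cast_eq_zero F (ringChar F)
    rw [h] at this
    exact_mod_cast this
  have hf : degree (C c1 * X ^ 2 + C 0 * X + C 0 : F[X]) = 2 := degree_quadratic h1
  have hg : degree (C c2 * X ^ 2 + C 0 * X + C (-d) : F[X]) = 2 := degree_quadratic h2'
  obtain ⟨a, b, h⟩ := FiniteField.exists_root_sum_quadratic hf hg hc
  refine ⟨a, b, ?_⟩
  simp at h
  linear_combination h

/-- a nonzero value with a prescribed discriminant behaviour -/
theorem OhF.exists_disc [Fintype F] (h2 : (2 : F) ≠ 0) (c : F) (hc : c ≠ 0) (s t : Prop) :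
    ∃ d : F, d ≠ 0 ∧ ((IsSquare (d * c) ↔ s) ↔ t) := by
  classical
  have hchar : ringChar F ≠ 2 := by
    intro h
    apply h2
    have := CharP.cast_eq_zero F (ringChar F)
    rw [h] at this
    exact_mod_cast this
  obtain ⟨ν, hν⟩ := FiniteField.exists_nonsquare hchar
  have hν0 : ν ≠ 0 := by
    rintro rfl
    exact hν ⟨0, by simp⟩
  have hsq : IsSquare (c * c) := ⟨c, rfl⟩
  have hnsq : ¬ IsSquare (ν * c * c) := by
    rintro ⟨z, hz⟩
    apply hν
    refine ⟨z / c, ?_⟩
    field_simp
    linear_combination hz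
  by_cases hst : (s ↔ t)
  · refine ⟨c, hc, ?_⟩
    constructor
    · intro h
      exact hst.mp (h.mp hsq)
    · intro ht
      exact ⟨fun _ => hst.mpr ht, fun _ => hsq⟩
  · refine ⟨ν * c, mul_ne_zero hν0 hc, ?_⟩
    constructor
    · intro h
      by_contra ht
      apply hst
      constructor
      · intro hs
        exact absurd (h.mpr hs) hnsq
      · intro ht'
        exact absurd ht' ht
    · intro ht
      constructor
      · intro h
        exact absurd h hnsq
      · intro hs
        exfalso
        apply hst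
        exact ⟨fun _ => ht, fun _ => hs⟩

theorem OhF.pigeon (p : Fin 3 → Prop) :
    ∃ i j : Fin 3, i ≠ j ∧ ((p i ∧ p j) ∨ (¬ p i ∧ ¬ p j)) := by
  by_cases h0 : p 0 <;> by_cases h1 : p 1 <;> by_cases h2 : p 2
  · exact ⟨0, 1, by decide, Or.inl ⟨h0, h1⟩⟩
  · exact ⟨0, 1, by decide, Or.inl ⟨h0, h1⟩⟩
  · exact ⟨0, 2, by decide, Or.inl ⟨h0, h2⟩⟩
  · exact ⟨1, 2, by decide, Or.inr ⟨h1, h2⟩⟩
  · exact ⟨1, 2, by decide, Or.inl ⟨h1, h2⟩⟩
  · exact ⟨0, 2, by decide, Or.inr ⟨h0, h2⟩⟩
  · exact ⟨0, 1, by decide, Or.inr ⟨h0, h1⟩⟩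
  · exact ⟨0, 1, by decide, Or.inr ⟨h0, h1⟩⟩

theorem exists_fixed_invol [Fintype F] (h2 : (2 : F) ≠ 0) [FiniteDimensional F V]
    (B : LinearMap.BilinForm F V) (hS : ∀ a b, B a b = B b a) (hV : NonDeg B ⊤)
    (hVd : Odd (finrank F V)) (g : V →ₗ[F] V) (hg : g * g = 1) (hiso : Iso B g)
    (m : ℕ) (hme : Even m) (hm : 2 ≤ m) (hmn : m < finrank F V) (t : Prop) :
    ∃ W : Submodule F V, Inv g W ∧ NonDeg B W ∧ finrank F W = m ∧ (Plus B W ↔ t) := by
  classical
  have hR : B.IsRefl := Cfsg.Agent.Lib.Helper98.Os.isRefl_of_symm hS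
  obtain ⟨k, hk⟩ := hme
  obtain ⟨N, rfl⟩ : ∃ N, m = N + 1 := ⟨m - 1, by omega⟩
  have hNk : N + 1 = 2 * k := by omega
  -- three orthogonal eigenvectors, two of them with the same eigenvalue
  obtain ⟨u, -, hug, huo, hun⟩ := OhF.exists_family h2 B hS g hg hiso 3 ⊤ (fun _ _ => Submodule.mem_top) hV
    (by rw [finrank_top]; omega)
  obtain ⟨i, j, hij, hsame⟩ := OhF.pigeon (fun i => g (u i) = u i)
  have hsame' : (g (u i) = u i ∧ g (u j) = u j) ∨ (g (u i) = -u i ∧ g (u j) = -u j) := by
    rcases hsame with ⟨h1, h3⟩ | ⟨h1, h3⟩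
    · exact Or.inl ⟨h1, h3⟩
    · right
      exact ⟨(hug i).resolve_left h1, (hug j).resolve_left h3⟩
  -- the plane spanned by them
  set e : Fin 2 → V := ![u i, u j] with he
  have heo : ∀ a b : Fin 2, a ≠ b → B (e a) (e b) = 0 := by
    intro a b
    fin_cases a <;> fin_cases b
    · intro h; exact absurd rfl h
    · intro _; exact huo i j hij
    · intro _; exact huo j i (Ne.symm hij)
    · intro h; exact absurd rfl h
  have hen : ∀ a : Fin 2, B (e a) (e a) ≠ 0 := by
    intro a
    fin_cases a
    · exact hun i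
    · exact hun j
  have heg : ∀ a : Fin 2, g (e a) = e a ∨ g (e a) = -e a := by
    intro a
    fin_cases a
    · exact hug i
    · exact hug j
  have hPnd := OhF.family_nonDeg B 2 e heo hen
  have hPd := OhF.family_finrank B 2 e heo hen
  have hPinv := OhF.family_inv g 2 e heg
  obtain ⟨-, -, hnd', hdim⟩ :=
    Cfsg.Agent.Lib.Helper98.Os.compl_props hR (Submodule.span F (Set.range e)) ⊤ hPnd le_top hV
  rw [hPd, finrank_top] at hdim
  have hinv' : Inv g (B.orthogonal (Submodule.span F (Set.range e)) ⊓ ⊤) :=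
    (inv_orth 2 (by norm_num) g (by rw [pow_two]; exact hg) hiso _ hPinv).inf (fun _ _ => Submodule.mem_top)
  obtain ⟨w', hw'U, hw'g, hw'o, hw'n⟩ :=
    OhF.exists_family h2 B hS g hg hiso N _ hinv' hnd' (by omega)
  have hc : (∏ a, B (w' a) (w' a)) ≠ 0 := Finset.prod_ne_zero_iff.mpr (fun a _ => hw'n a)
  obtain ⟨d, hd0, hd⟩ := OhF.exists_disc h2 _ hc (IsSquare ((-1 : F) ^ k)) t
  obtain ⟨α, β, hαβ⟩ := OhF.exists_repr h2 (B (u i) (u i)) (B (u j) (u j)) d (hun i) (hun j)
  set x : V := α • u i + β • u j with hx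
  have hxx : B x x = d := by
    rw [hx]
    simp only [map_add, map_smul, LinearMap.add_apply, LinearMap.smul_apply, smul_eq_mul,
      huo i j hij, huo j i (Ne.symm hij)]
    linear_combination hαβ
  have hxg : g x = x ∨ g x = -x := by
    rcases hsame' with ⟨h1, h3⟩ | ⟨h1, h3⟩
    · left
      rw [hx, map_add, map_smul, map_smul, h1, h3]
    · right
      rw [hx, map_add, map_smul, map_smul, h1, h3]
      simp only [smul_neg, neg_add]
  have hxP : x ∈ Submodule.span F (Set.range e) := by
    rw [hx]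
    apply Submodule.add_mem
    · exact Submodule.smul_mem _ _ (Submodule.subset_span ⟨0, rfl⟩)
    · exact Submodule.smul_mem _ _ (Submodule.subset_span ⟨1, rfl⟩)
  have hperp : ∀ a, B x (w' a) = 0 := by
    intro a
    have := (Submodule.mem_inf.mp (hw'U a)).1
    exact LinearMap.BilinForm.mem_orthogonal_iff.mp this x hxP
  -- the final family
  have hwo : ∀ a b : Fin (N + 1), a ≠ b →
      B ((Fin.cons x w' : Fin (N + 1) → V) a) ((Fin.cons x w' : Fin (N + 1) → V) b) = 0 := by
    intro a b
    refine Fin.cases ?_ (fun a' => ?_) a <;> refine Fin.cases ?_ (fun b' => ?_) b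
    · intro h
      exact absurd rfl h
    · intro _
      simpa using hperp b'
    · intro _
      simp only [Fin.cons_zero, Fin.cons_succ]
      rw [hS]
      exact hperp a'
    · intro h
      simp only [Fin.cons_succ]
      exact hw'o a' b' (fun h' => h (by rw [h']))
  have hwn : ∀ a : Fin (N + 1), B ((Fin.cons x w' : Fin (N + 1) → V) a)
      ((Fin.cons x w' : Fin (N + 1) → V) a) ≠ 0 := by
    intro a
    refine Fin.cases ?_ (fun a' => ?_) a
    · simp only [Fin.cons_zero]
      rw [hxx]
      exact hd0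
    · simpa using hw'n a'
  have hwg : ∀ a : Fin (N + 1), g ((Fin.cons x w' : Fin (N + 1) → V) a) =
      (Fin.cons x w' : Fin (N + 1) → V) a ∨
      g ((Fin.cons x w' : Fin (N + 1) → V) a) = -(Fin.cons x w' : Fin (N + 1) → V) a := by
    intro a
    refine Fin.cases ?_ (fun a' => ?_) a
    · simpa using hxg
    · simpa using hw'g a'
  refine ⟨Submodule.span F (Set.range (Fin.cons x w' : Fin (N + 1) → V)),
    OhF.family_inv g _ _ hwg, OhF.family_nonDeg B _ _ hwo hwn,
    OhF.family_finrank B _ _ hwo hwn, ?_⟩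
  rw [OhF.family_plus h2 B hS (N + 1) k hNk _ hwo hwn, Fin.prod_univ_succ]
  simp only [Fin.cons_zero, Fin.cons_succ]
  rw [hxx]
  exact hd

end Cfsg.Agent.Lib.Helper20.Oh
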