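import Mathlib
import Cfsg.Prelude.Def_Characters
import Cfsg.Agent.Lib.Helper20.IndFun

set_option autoImplicit false

namespace Cfsg.Agent.Lib.Helper20

/-- fibre of the orbit map has the size of the stabilizer -/
theorem card_fiber_orbit_map {G X : Type*} [Group G] [Fintype G] [MulAction G X] [DecidableEq X]
    (ω : X) (y : G) :
    (Finset.univ.filter (fun x : G => x • ω = y • ω)).card = Nat.card (MulAction.stabilizer G ω) := by
  classical
  rw [Nat.card_eq_fintype_card, ← Fintype.card_subtype]
  refine Fintype.card_congr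
    { toFun := fun x => ⟨y⁻¹ * x.1, ?_⟩
      invFun := fun s => ⟨y * s.1, ?_⟩
      left_inv := ?_
      right_inv := ?_ }
  · rw [MulAction.mem_stabilizer_iff, mul_smul, x.2, inv_smul_smul]
  · have := s.2
    rw [MulAction.mem_stabilizer_iff] at this
    rw [mul_smul, this]
  · intro x; apply Subtype.ext; simp
  · intro s; apply Subtype.ext; simp

theorem sum_smul_eq {G X : Type*} [Group G] [Fintype G] [MulAction G X] [Fintype X] [DecidableEq X]
    (ω : X) [DecidablePred (fun η : X => η ∈ MulAction.orbit G ω)] (φ : X → ℂ) :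
    ∑ x : G, φ (x • ω) = (Nat.card (MulAction.stabilizer G ω) : ℂ) *
      ∑ η : X, if η ∈ MulAction.orbit G ω then φ η else 0 := by
  rw [← Finset.sum_fiberwise (s := Finset.univ) (g := fun x : G => x • ω) (f := fun x => φ (x • ω)),
    Finset.mul_sum]
  refine Finset.sum_congr rfl (fun η _ => ?_)
  have h1 : ∑ x ∈ Finset.univ.filter (fun x : G => x • ω = η), φ (x • ω) =
      ((Finset.univ.filter (fun x : G => x • ω = η)).card : ℂ) * φ η := by
    rw [Finset.sum_congr rfl (g := fun _ => φ η)]
    · rw [Finset.sum_const, nsmul_eq_mul]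
    · intro x hx
      rw [(Finset.mem_filter.mp hx).2]
  rw [h1]
  by_cases hη : η ∈ MulAction.orbit G ω
  · rw [if_pos hη]
    obtain ⟨y, rfl⟩ := hη
    rw [card_fiber_orbit_map ω y]
  · rw [if_neg hη]
    have : Finset.univ.filter (fun x : G => x • ω = η) = ∅ := by
      apply Finset.filter_eq_empty_iff.mpr
      intro x _ hx
      exact hη ⟨x, hx⟩
    rw [this]
    simp

theorem extendByZero_one_apply {G : Type*} [Group G] (U : Subgroup G) (g : G)
    [Decidable (g ∈ U)] :
    Cfsg.extendByZero U (fun _ => (1 : ℂ)) g = if g ∈ U then 1 else 0 := by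
  by_cases h : g ∈ U
  · rw [if_pos h, extendByZero_mem U _ h]
  · rw [if_neg h, extendByZero_not_mem U _ h]

/-- the permutation character of the stabilizer of `ω` counts fixed points in the orbit of `ω` -/
theorem indFun_stabilizer_one {G X : Type*} [Group G] [Fintype G] [MulAction G X] [Fintype X]
    [DecidableEq X] (ω : X) [DecidablePred (fun η : X => η ∈ MulAction.orbit G ω)] (g : G) :
    Cfsg.indFun (MulAction.stabilizer G ω) (fun _ => (1 : ℂ)) g =
      ∑ η : X, if η ∈ MulAction.orbit G ω then (if g • η = η then (1 : ℂ) else 0) else 0 := by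
  classical
  rw [indFun_apply]
  have h1 : ∀ x : G, Cfsg.extendByZero (MulAction.stabilizer G ω) (fun _ => (1 : ℂ)) (x⁻¹ * g * x) =
      (fun η : X => if g • η = η then (1 : ℂ) else 0) (x • ω) := by
    intro x
    rw [extendByZero_one_apply]
    have : x⁻¹ * g * x ∈ MulAction.stabilizer G ω ↔ g • x • ω = x • ω := by
      rw [MulAction.mem_stabilizer_iff, mul_smul, mul_smul, inv_smul_eq_iff]
    simp only [this]
  rw [Finset.sum_congr rfl (fun x _ => h1 x),
    sum_smul_eq ω (fun η : X => if g • η = η then (1 : ℂ) else 0), ← mul_assoc,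
    inv_mul_cancel₀ (natCard_ne_zero_complex _), one_mul]

/-- orbit decomposition of the fixed point count -/
theorem fixed_count_eq_sum_orbits {G X : Type*} [Group G] [Fintype G] [MulAction G X] [Fintype X]
    [DecidableEq X] [Fintype (MulAction.orbitRel.Quotient G X)]
    (rep : MulAction.orbitRel.Quotient G X → X)
    (hrep : ∀ O, (Quotient.mk'' (rep O) : MulAction.orbitRel.Quotient G X) = O) (g : G) :
    (∑ η : X, if g • η = η then (1 : ℂ) else 0) =
      ∑ O : MulAction.orbitRel.Quotient G X,
        Cfsg.indFun (MulAction.stabilizer G (rep O)) (fun _ => (1 : ℂ)) g := by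
  classical
  have h1 : ∀ O : MulAction.orbitRel.Quotient G X,
      Cfsg.indFun (MulAction.stabilizer G (rep O)) (fun _ => (1 : ℂ)) g =
      ∑ η : X, if (Quotient.mk'' η : MulAction.orbitRel.Quotient G X) = O then
        (if g • η = η then (1 : ℂ) else 0) else 0 := by
    intro O
    rw [indFun_stabilizer_one (rep O) g]
    refine Finset.sum_congr rfl (fun η _ => ?_)
    have : η ∈ MulAction.orbit G (rep O) ↔
        (Quotient.mk'' η : MulAction.orbitRel.Quotient G X) = O := by
      rw [← MulAction.orbitRel_apply]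
      conv_rhs => rw [← hrep O]
      exact (Quotient.eq'' (s₁ := MulAction.orbitRel G X)).symm
    simp only [this]
  rw [Finset.sum_congr rfl (fun O _ => h1 O), Finset.sum_comm]
  refine Finset.sum_congr rfl (fun η _ => ?_)
  rw [Finset.sum_ite_eq]
  simp

/-- the permutation character of `H` counts fixed cosets -/
theorem indFun_one_eq_fixed_cosets {G : Type*} [Group G] [Fintype G] (H : Subgroup G)
    [Fintype (G ⧸ H)] [DecidableEq (G ⧸ H)] (g : G) :
    Cfsg.indFun H (fun _ => (1 : ℂ)) g = ∑ c : G ⧸ H, if g • c = c then (1 : ℂ) else 0 := by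
  classical
  have h := indFun_stabilizer_one (G := G) (X := G ⧸ H) ((1 : G) : G ⧸ H) g
  have hst : MulAction.stabilizer G ((1 : G) : G ⧸ H) = H := MulAction.stabilizer_quotient H
  rw [hst] at h
  rw [h]
  refine Finset.sum_congr rfl (fun c _ => ?_)
  rw [if_pos]
  rw [MulAction.orbit_eq_univ]
  exact Set.mem_univ c

end Cfsg.Agent.Lib.Helper20
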