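import Mathlib
import Cfsg.Prelude.Def_Characters

/-!
# The `π`-part power map on nilpotent groups, and elementary groups (helper20)
-/

set_option autoImplicit false
set_option linter.style.haveILetI false

namespace Cfsg.Agent.Lib.Helper20

universe u v

/-- On a finite nilpotent group whose order divides `n * m` with `n, m` coprime, the power map
`e ↦ e ^ u` with `u ≡ 1 [MOD n]`, `u ≡ 0 [MOD m]` is a homomorphism (the projection to the Hall
subgroup for the primes of `n`). -/
theorem exists_pow_hom {E : Type u} [Group E] [Finite E] (hnil : Group.IsNilpotent E)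
    (n m u : ℕ) (hnm : Nat.Coprime n m) (hcard : Nat.card E ∣ n * m) (hu1 : u ≡ 1 [MOD n])
    (hu0 : u ≡ 0 [MOD m]) : ∃ f : E →* E, ∀ e, f e = e ^ u := by
  obtain ⟨Φ⟩ := ((Group.isNilpotent_of_finite_tfae (G := E)).out 0 4).mp hnil
  have key : ∀ (q : ℕ) (hq : q.Prime) (y : E) (k : ℕ), orderOf y = q ^ k →
      (q ∣ n → y ^ u = y) ∧ (¬ q ∣ n → y ^ u = 1) := by
    intro q hq y k hk
    have hdvd : orderOf y ∣ n * m := (orderOf_dvd_natCard y).trans hcard
    constructor
    · intro hqn
      have hcop : Nat.Coprime (orderOf y) m := by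
        rw [hk]
        apply Nat.Coprime.pow_left
        exact Nat.Coprime.coprime_dvd_left hqn hnm
      have h1 : orderOf y ∣ n := hcop.dvd_of_dvd_mul_right hdvd
      have h2 : u ≡ 1 [MOD orderOf y] := hu1.of_dvd h1
      have := (pow_eq_pow_iff_modEq (x := y)).mpr h2
      rw [this, pow_one]
    · intro hqn
      have hcop : Nat.Coprime (orderOf y) n := by
        rw [hk]
        apply Nat.Coprime.pow_left
        exact (Nat.Prime.coprime_iff_not_dvd hq).mpr hqn
      have h1 : orderOf y ∣ m := hcop.dvd_of_dvd_mul_left hdvd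
      have h2 : u ≡ 0 [MOD orderOf y] := hu0.of_dvd h1
      have := (pow_eq_pow_iff_modEq (x := y)).mpr h2
      rw [this, pow_zero]
  let f0 : ((p : (Nat.card E).primeFactors) → (P : Sylow (p : ℕ) E) → (P : Subgroup E)) →*
      ((p : (Nat.card E).primeFactors) → (P : Sylow (p : ℕ) E) → (P : Subgroup E)) :=
    { toFun := fun w p P => if (p : ℕ) ∣ n then w p P else 1
      map_one' := by
        funext p P
        split_ifs <;> rfl
      map_mul' := fun w w' => by
        funext p P
        simp only [Pi.mul_apply]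
        split_ifs <;> simp }
  have hf0 : ∀ w, f0 w = w ^ u := by
    intro w
    funext p P
    have hp : (p : ℕ).Prime := Nat.prime_of_mem_primeFactors p.2
    haveI : Fact (p : ℕ).Prime := ⟨hp⟩
    obtain ⟨k, hk⟩ := (IsPGroup.iff_orderOf.mp P.isPGroup') (w p P)
    have hk' : orderOf ((w p P : (P : Subgroup E)) : E) = (p : ℕ) ^ k := by
      rw [Subgroup.orderOf_coe, hk]
    obtain ⟨h1, h2⟩ := key p hp _ k hk'
    show (if (p : ℕ) ∣ n then w p P else 1) = (w ^ u) p P
    simp only [Pi.pow_apply]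
    split_ifs with h
    · apply Subtype.ext
      rw [Subgroup.coe_pow, h1 h]
    · apply Subtype.ext
      rw [Subgroup.coe_pow, h2 h]
      rfl
  refine ⟨Φ.toMonoidHom.comp (f0.comp Φ.symm.toMonoidHom), fun e => ?_⟩
  simp only [MonoidHom.comp_apply, MulEquiv.coe_toMonoidHom, hf0, map_pow,
    MulEquiv.apply_symm_apply]

/-- A cyclic subgroup of a finite group is elementary for some prime. -/
theorem exists_isElementary_zpowers {G : Type u} [Group G] [Finite G] (g : G) :
    ∃ p : ℕ, p.Prime ∧ Cfsg.IsElementary p (Subgroup.zpowers g) := by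
  obtain ⟨p, hlt, hp⟩ := Nat.exists_infinite_primes (orderOf g + 1)
  refine ⟨p, hp, ⟨g, Subgroup.mem_zpowers g⟩, ?_, ?_, 0, ?_⟩
  · rw [Subgroup.mem_center_iff]
    rintro ⟨y, hy⟩
    obtain ⟨k, rfl⟩ := hy
    apply Subtype.ext
    simp only [Subgroup.coe_mul]
    exact ((Commute.refl g).zpow_left k).eq
  · rw [Subgroup.orderOf_mk]
    exact Nat.Coprime.symm ((Nat.Prime.coprime_iff_not_dvd hp).mpr
      (Nat.not_dvd_of_pos_of_lt (orderOf_pos g) (by omega)))
  · rw [pow_zero, Subgroup.index_eq_one]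
    rw [eq_top_iff]
    rintro ⟨y, hy⟩ -
    obtain ⟨k, rfl⟩ := hy
    exact ⟨k, by apply Subtype.ext; simp⟩

/-- A homomorphic image of an elementary group is elementary. -/
theorem isElementary_of_surjective {E : Type u} {E' : Type v} [Group E] [Group E'] {p : ℕ}
    (hp : p.Prime) (h : Cfsg.IsElementary p E) (f : E →* E') (hf : Function.Surjective f) :
    Cfsg.IsElementary p E' := by
  obtain ⟨x, hxc, hxo, k, hk⟩ := h
  refine ⟨f x, ?_, ?_, ?_⟩
  · rw [Subgroup.mem_center_iff]
    intro y
    obtain ⟨e, rfl⟩ := hf y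
    rw [← map_mul, ← map_mul, Subgroup.mem_center_iff.mp hxc e]
  · exact Nat.Coprime.coprime_dvd_left (orderOf_map_dvd f x) hxo
  · have h1 : (Subgroup.zpowers (f x)).index ∣ p ^ k := by
      rw [← hk, ← MonoidHom.map_zpowers]
      exact Subgroup.index_map_dvd _ hf
    obtain ⟨j, -, hj⟩ := (Nat.dvd_prime_pow hp).mp h1
    exact ⟨j, hj⟩

end Cfsg.Agent.Lib.Helper20
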