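/-
K-PrnA pack (S2222, architect helper44), LEAF SW2 (keystone 222205): every Sylow 2-subgroup of `Perm α` contains
`|α| / 2` pairwise disjoint transpositions.
-/
import Cfsg.Agent.Lib.Helper44.PrnADefs

set_option autoImplicit false
set_option linter.unusedVariables false
set_option linter.unusedSectionVars false

namespace Cfsg.Agent.Lib.Helper20.PrnA

open Equiv Equiv.Perm Cfsg.Agent.Lib.Helper44.PrnA
open scoped Pointwise

universe u

/-- the closure of a set of pairwise commuting involutions is a 2-group -/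
theorem sw2_two_group {G : Type*} [Group G] (k : Set G)
    (hcomm : ∀ x ∈ k, ∀ y ∈ k, Commute x y) (hsq : ∀ x ∈ k, x * x = 1) :
    IsPGroup 2 (Subgroup.closure k) := by
  have hA : ∀ x ∈ Subgroup.closure k, ∀ s ∈ k, Commute x s := by
    intro x hx s hs
    induction hx using Subgroup.closure_induction with
    | mem y hy => exact hcomm y hy s hs
    | one => exact Commute.one_left s
    | mul y z _ _ ihy ihz => exact ihy.mul_left ihz
    | inv y _ ihy => exact ihy.inv_left
  have hB : ∀ x ∈ Subgroup.closure k, ∀ y ∈ Subgroup.closure k, Commute x y := by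
    intro x hx y hy
    induction hy using Subgroup.closure_induction with
    | mem s hs => exact hA x hx s hs
    | one => exact Commute.one_right x
    | mul y z _ _ ihy ihz => exact ihy.mul_right ihz
    | inv y _ ihy => exact ihy.inv_right
  have hC : ∀ x ∈ Subgroup.closure k, x * x = 1 := by
    intro x hx
    induction hx using Subgroup.closure_induction with
    | mem y hy => exact hsq y hy
    | one => exact mul_one 1
    | mul y z hy hz ihy ihz =>
      rw [(hB z hz y hy).mul_mul_mul_comm y z, ihy, ihz, one_mul]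
    | inv y _ ihy => rw [← mul_inv_rev, ihy, inv_one]
  intro g
  refine ⟨1, ?_⟩
  apply Subtype.ext
  rw [pow_one, pow_two]
  exact hC g.1 g.2

/-- LEAF SW2 (222205) -/
theorem exists_disjoint_swaps {α : Type u} [Fintype α] [DecidableEq α] (P : Sylow 2 (Perm α)) :
    ∃ f : Fin (Fintype.card α / 2) → α × α, (∀ i, (f i).1 ≠ (f i).2) ∧
      (∀ i, swap (f i).1 (f i).2 ∈ (P : Subgroup (Perm α))) ∧
      ∀ i j, i ≠ j → (f i).1 ≠ (f j).1 ∧ (f i).1 ≠ (f j).2 ∧ (f i).2 ≠ (f j).1 ∧ (f i).2 ≠ (f j).2 := by
  classical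
  let e : α ≃ Fin (Fintype.card α) := Fintype.equivFin α
  have h0 : ∀ i : Fin (Fintype.card α / 2), 2 * (i : ℕ) < Fintype.card α := fun i => by
    have := i.2; omega
  have h1 : ∀ i : Fin (Fintype.card α / 2), 2 * (i : ℕ) + 1 < Fintype.card α := fun i => by
    have := i.2; omega
  let a : Fin (Fintype.card α / 2) → α := fun i => e.symm ⟨2 * (i : ℕ), h0 i⟩
  let b : Fin (Fintype.card α / 2) → α := fun i => e.symm ⟨2 * (i : ℕ) + 1, h1 i⟩
  have hab : ∀ i, a i ≠ b i := fun i h => by
    have := congrArg Fin.val (e.symm.injective h)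
    simp only at this
    omega
  have hdis : ∀ i j, i ≠ j → a i ≠ a j ∧ a i ≠ b j ∧ b i ≠ a j ∧ b i ≠ b j := by
    intro i j hij
    have hij' : (i : ℕ) ≠ j := fun h => hij (Fin.ext h)
    refine ⟨fun h => ?_, fun h => ?_, fun h => ?_, fun h => ?_⟩ <;>
    · have := congrArg Fin.val (e.symm.injective h)
      simp only at this
      omega
  let k : Set (Perm α) := Set.range (fun i => swap (a i) (b i))
  have hcomm : ∀ x ∈ k, ∀ y ∈ k, Commute x y := by
    rintro _ ⟨i, rfl⟩ _ ⟨j, rfl⟩
    by_cases hij : i = j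
    · subst hij; exact Commute.refl _
    · obtain ⟨h1, h2, h3, h4⟩ := hdis i j hij
      apply Equiv.Perm.Disjoint.commute
      apply Equiv.Perm.disjoint_swap_swap
      simp only [List.nodup_cons, List.mem_cons, List.not_mem_nil, or_false, not_or,
        List.nodup_nil, and_true, not_false_eq_true]
      exact ⟨⟨hab i, h1, h2⟩, ⟨h3, h4⟩, hab j⟩
  have hsq : ∀ x ∈ k, x * x = 1 := by
    rintro _ ⟨i, rfl⟩
    exact Equiv.swap_mul_self _ _
  have hE : IsPGroup 2 (Subgroup.closure k) := sw2_two_group k hcomm hsq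
  obtain ⟨P₀, hEP₀⟩ := hE.exists_le_sylow
  obtain ⟨g, hg⟩ := MulAction.exists_smul_eq (Perm α) P₀ P
  have hmem : ∀ i, swap (g (a i)) (g (b i)) ∈ (P : Subgroup (Perm α)) := by
    intro i
    have h1 : swap (a i) (b i) ∈ (P₀ : Subgroup (Perm α)) :=
      hEP₀ (Subgroup.subset_closure ⟨i, rfl⟩)
    have h2 : MulAut.conj g • swap (a i) (b i) ∈ MulAut.conj g • (P₀ : Subgroup (Perm α)) :=
      Subgroup.smul_mem_pointwise_smul _ _ _ h1
    rw [← Sylow.coe_subgroup_smul, hg] at h2
    rw [Equiv.swap_apply_apply]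
    exact h2
  refine ⟨fun i => (g (a i), g (b i)), fun i => ?_, hmem, fun i j hij => ?_⟩
  · exact fun h => hab i (g.injective h)
  · obtain ⟨h1, h2, h3, h4⟩ := hdis i j hij
    exact ⟨fun h => h1 (g.injective h), fun h => h2 (g.injective h), fun h => h3 (g.injective h),
      fun h => h4 (g.injective h)⟩

end Cfsg.Agent.Lib.Helper20.PrnA
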