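import Mathlib
import Cfsg.Prelude.Def_Blocks
import Cfsg.Prelude.Def_BlockRank
import Cfsg.Agent.Lib.Helper82.BlockRank
import Cfsg.Agent.Lib.Helper82.BlockOrthFull
import Cfsg.Agent.Lib.Helper82.BlockBasic
import Cfsg.Agent.Lib.Helper83.Quotient
import Cfsg.Agent.Lib.Helper83.Linear
import Cfsg.Agent.Lib.Helper83.CharBasic
import Cfsg.Agent.Lib.Helper21.BrouePuig
import Cfsg.Agent.Lib.Helper21.Osima
import Cfsg.Agent.Lib.Helper05.CharBasic
import Cfsg.Agent.S0941

/-!
# The 2-regular rank of the principal block modulo a centre of order two (helper20)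
-/

set_option autoImplicit false
set_option linter.unusedSectionVars false
set_option linter.style.haveILetI false

namespace Cfsg.Agent.Lib.Helper20

open Cfsg
open scoped ComplexConjugate

section group

variable {G : Type*} [Group G]

theorem mem_zpowers_two (z : G) (hz2 : orderOf z = 2) (g : G) :
    g ∈ Subgroup.zpowers z ↔ g = 1 ∨ g = z := by
  have hzsq : z ^ 2 = 1 := by rw [← hz2]; exact pow_orderOf_eq_one z
  constructor
  · intro h
    have hfin : IsOfFinOrder z := by
      rw [← orderOf_pos_iff, hz2]; norm_num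
    have hmem : g ∈ Submonoid.powers z := hfin.mem_powers_iff_mem_zpowers.mpr h
    obtain ⟨k, hk⟩ := hmem
    replace hk : z ^ k = g := hk
    rcases Nat.even_or_odd' k with ⟨r, hr | hr⟩
    · left; rw [← hk, hr, pow_mul, hzsq, one_pow]
    · right; rw [← hk, hr, pow_succ, pow_mul, hzsq, one_pow, one_mul]
  · rintro (rfl | rfl)
    · exact Subgroup.one_mem _
    · exact Subgroup.mem_zpowers _

theorem not_both_regular (z : G) (hzc : z ∈ Subgroup.center G) (hz2 : orderOf z = 2) (g : G) :
    ¬ (¬ 2 ∣ orderOf g ∧ ¬ 2 ∣ orderOf (z * g)) := by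
  rintro ⟨h1, h2⟩
  set N := orderOf g * orderOf (z * g) with hN
  have hNodd : ¬ 2 ∣ N := by
    rw [hN, Nat.Prime.dvd_mul Nat.prime_two]
    push Not
    exact ⟨h1, h2⟩
  have hcomm : Commute z g := (Subgroup.mem_center_iff.mp hzc g).symm
  have e1 : (z * g) ^ N = 1 := by
    rw [hN, mul_comm, pow_mul, pow_orderOf_eq_one, one_pow]
  have e2 : g ^ N = 1 := by rw [hN, pow_mul, pow_orderOf_eq_one, one_pow]
  rw [hcomm.mul_pow, e2, mul_one] at e1
  have := orderOf_dvd_of_pow_eq_one e1
  rw [hz2] at this
  exact hNodd this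

theorem regular_mk_iff (z : G) (hz2 : orderOf z = 2)
    (hcenter : ∀ g : G, g ∈ Subgroup.center G ↔ g = 1 ∨ g = z) (g : G) :
    ¬ 2 ∣ orderOf (QuotientGroup.mk g : G ⧸ Subgroup.center G) ↔
      (¬ 2 ∣ orderOf g ∨ ¬ 2 ∣ orderOf (z * g)) := by
  have hzc : z ∈ Subgroup.center G := (hcenter z).mpr (Or.inr rfl)
  have hcomm : Commute z g := (Subgroup.mem_center_iff.mp hzc g).symm
  constructor
  · intro h
    set m := orderOf (QuotientGroup.mk g : G ⧸ Subgroup.center G) with hm
    have h1 : (QuotientGroup.mk g : G ⧸ Subgroup.center G) ^ m = 1 := pow_orderOf_eq_one _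
    rw [← QuotientGroup.mk_pow, QuotientGroup.eq_one_iff, hcenter] at h1
    rcases h1 with h1 | h1
    · left
      intro h2
      exact h (h2.trans (orderOf_dvd_of_pow_eq_one h1))
    · right
      intro h2
      apply h
      apply h2.trans
      apply orderOf_dvd_of_pow_eq_one
      rw [hcomm.mul_pow, h1]
      have hmodd : Odd m := by
        rw [← Nat.not_even_iff_odd, even_iff_two_dvd]; exact h
      obtain ⟨r, hr⟩ := hmodd
      have hz2' : z ^ 2 = 1 := by rw [← hz2]; exact pow_orderOf_eq_one z
      rw [hr, pow_succ, pow_mul, hz2', one_pow, one_mul, ← sq, hz2']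
  · rintro (h | h) h2
    · exact h (h2.trans (orderOf_map_dvd (QuotientGroup.mk' (Subgroup.center G)) g))
    · apply h
      apply h2.trans
      have : (QuotientGroup.mk g : G ⧸ Subgroup.center G) =
          QuotientGroup.mk' (Subgroup.center G) (z * g) := by
        rw [QuotientGroup.mk'_apply, QuotientGroup.mk_mul,
          (QuotientGroup.eq_one_iff z).mpr hzc, one_mul]
      rw [this]
      exact orderOf_map_dvd _ _

end group

section main

universe u
variable {G : Type u} [Group G] [Finite G]

open Cfsg.Agent.Lib.Helper82 Cfsg.Agent.Lib.Helper83 Cfsg.Agent.Lib.Helper21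

/-- the regular self inner product of an inflated character -/
theorem classInner_pReg_inflate [Fintype G] [Fintype (G ⧸ Subgroup.center G)]
    (z : G) (hz2 : orderOf z = 2)
    (hcenter : ∀ g : G, g ∈ Subgroup.center G ↔ g = 1 ∨ g = z)
    (ψ : G ⧸ Subgroup.center G → ℂ) :
    classInner (pRegularPart 2 ψ) ψ =
      2 * classInner (pRegularPart 2 (fun g : G => ψ (QuotientGroup.mk g)))
        (fun g : G => ψ (QuotientGroup.mk g)) := by
  classical
  have hzc : z ∈ Subgroup.center G := (hcenter z).mpr (Or.inr rfl)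
  rw [← classInner_comp_mk (Subgroup.center G) (pRegularPart 2 ψ) ψ,
    Cfsg.Agent.Lib.Helper83.classInner_def, classInner_pRegularPart_left]
  set χ : G → ℂ := fun g => ψ (QuotientGroup.mk g) with hχ
  have hχz : ∀ g : G, χ (z * g) = χ g := by
    intro g
    simp only [hχ]
    rw [QuotientGroup.mk_mul, (QuotientGroup.eq_one_iff z).mpr hzc, one_mul]
  have hterm : ∀ g : G, pRegularPart 2 ψ (QuotientGroup.mk g) * conj (ψ (QuotientGroup.mk g)) =
      (if 2 ∣ orderOf g then 0 else χ g * conj (χ g)) +
      (if 2 ∣ orderOf (z * g) then 0 else χ (z * g) * conj (χ (z * g))) := by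
    intro g
    rw [pRegularPart_apply, hχz g]
    have h1 := regular_mk_iff z hz2 hcenter g
    have h2 := not_both_regular z hzc hz2 g
    by_cases ha : 2 ∣ orderOf g <;> by_cases hb : 2 ∣ orderOf (z * g)
    · have hc : 2 ∣ orderOf (QuotientGroup.mk g : G ⧸ Subgroup.center G) := by
        by_contra hc
        rcases h1.mp hc with h | h
        · exact h ha
        · exact h hb
      rw [if_pos ha, if_pos hb, if_pos hc]; simp
    · have hc : ¬ 2 ∣ orderOf (QuotientGroup.mk g : G ⧸ Subgroup.center G) := h1.mpr (Or.inr hb)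
      rw [if_pos ha, if_neg hb, if_neg hc, zero_add]
    · have hc : ¬ 2 ∣ orderOf (QuotientGroup.mk g : G ⧸ Subgroup.center G) := h1.mpr (Or.inl ha)
      rw [if_neg ha, if_pos hb, if_neg hc, add_zero]
    · exact absurd ⟨ha, hb⟩ h2
  rw [Finset.sum_congr rfl (fun g _ => hterm g), Finset.sum_add_distrib]
  have hshift : ∑ g : G, (if 2 ∣ orderOf (z * g) then 0 else χ (z * g) * conj (χ (z * g))) =
      ∑ g : G, (if 2 ∣ orderOf g then 0 else χ g * conj (χ g)) :=
    Equiv.sum_comp (Equiv.mulLeft z) (fun g => if 2 ∣ orderOf g then 0 else χ g * conj (χ g))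
  rw [hshift]
  ring

theorem blockRank_principal_center_two (M : Ideal AlgInt) (hM : IsPModular 2 M)
    (z : G) (hz2 : orderOf z = 2)
    (hcenter : ∀ g : G, g ∈ Subgroup.center G ↔ g = 1 ∨ g = z) :
    blockRank 2 (principalBlock M G) =
      blockRank 2 (principalBlock M (G ⧸ Subgroup.center G)) := by
  classical
  have : Fact (Nat.Prime 2) := ⟨Nat.prime_two⟩
  let _ : Fintype G := Fintype.ofFinite G
  let _ : Fintype (IrrCharacter G) := Fintype.ofFinite _
  let _ : Fintype (G ⧸ Subgroup.center G) := Fintype.ofFinite _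
  let _ : Fintype (IrrCharacter (G ⧸ Subgroup.center G)) := Fintype.ofFinite _
  have hMp : M.IsPrime := hM.2.1.isPrime
  have hzc : z ∈ Subgroup.center G := (hcenter z).mpr (Or.inr rfl)
  have hzsq : z ^ 2 = 1 := by rw [← hz2]; exact pow_orderOf_eq_one z
  have hz1 : z ≠ 1 := by rintro rfl; rw [orderOf_one] at hz2; omega
  set e1 : IrrCharacter G := ⟨fun _ => 1, Cfsg.Agent.Lib.Helper05.isIrrCharacter_one⟩ with he1
  set e1' : IrrCharacter (G ⧸ Subgroup.center G) :=
    ⟨fun _ => 1, Cfsg.Agent.Lib.Helper05.isIrrCharacter_one⟩ with he1'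
  have hG := blockRank_eq_sum hM e1
  have hQ := blockRank_eq_sum hM e1'
  have hB : blockOf M (e1 : G → ℂ) = principalBlock M G := rfl
  have hB' : blockOf M (e1' : G ⧸ Subgroup.center G → ℂ) =
      principalBlock M (G ⧸ Subgroup.center G) := rfl
  rw [hB] at hG
  rw [hB'] at hQ
  apply Nat.cast_injective (R := ℂ)
  rw [hG, hQ]
  -- the sign of a character at the central involution
  set ω : IrrCharacter G → ℂ := fun χ => (χ : G → ℂ) z / (χ : G → ℂ) 1 with hω
  have hωmul : ∀ (χ : IrrCharacter G) (g : G), (χ : G → ℂ) (z * g) = ω χ * (χ : G → ℂ) g :=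
    fun χ g => irr_central_mul χ hzc g
  have hωsq : ∀ χ : IrrCharacter G, ω χ * ω χ = 1 := by
    intro χ
    have := irr_central_pow χ hzc 2
    rw [hzsq, div_self (irr_degree_ne_zero χ)] at this
    rw [← sq]; exact this
  have hωcases : ∀ χ : IrrCharacter G, ω χ = 1 ∨ ω χ = -1 :=
    fun χ => mul_self_eq_one_iff.mp (hωsq χ)
  have hωconj : ∀ χ : IrrCharacter G, conj (ω χ) = ω χ := by
    intro χ
    rcases hωcases χ with h | h <;> rw [h] <;> simp
  set r : IrrCharacter G → ℂ := fun χ =>
    classInner (pRegularPart 2 (χ : G → ℂ)) (χ : G → ℂ) with hr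
  -- orthogonality
  have horth : ∀ x : G, ¬ 2 ∣ orderOf x →
      ∑ χ : IrrCharacter G, (if χ ∈ principalBlock M G then
        ω χ * ((χ : G → ℂ) x * conj ((χ : G → ℂ) x)) else 0) = 0 := by
    intro x hx
    have hx1 : IsPPart 2 x 1 := ⟨x, one_mul x, Commute.one_left x, ⟨0, by simp⟩, hx⟩
    have hy1 : IsPPart 2 ((z * x)⁻¹)⁻¹ z := by
      rw [inv_inv]
      exact ⟨x, rfl, (Subgroup.mem_center_iff.mp hzc x).symm, ⟨1, by rw [hz2, pow_one]⟩, hx⟩
    have hxy : ¬ IsConj (1 : G) z := fun h => hz1 (isConj_one_right.1 h)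
    have h0 := sum_block_mul_eq_zero_of_not_isConj hM e1 x (z * x)⁻¹ 1 z hx1 hy1 hxy
    rw [hB, finsum_mem_eq_sum_ite] at h0
    refine Eq.trans ?_ h0
    apply Finset.sum_congr rfl
    intro χ _
    split_ifs
    · rw [char_inv (IrrCharacter_isCharacter χ), hωmul, map_mul, hωconj]
      ring
    · rfl
  have hsum0 : ∑ χ : IrrCharacter G, (if χ ∈ principalBlock M G then ω χ * r χ else 0) = 0 := by
    have h1 : ∀ χ : IrrCharacter G, (if χ ∈ principalBlock M G then ω χ * r χ else 0) =
        (Nat.card G : ℂ)⁻¹ * ∑ x : G, (if 2 ∣ orderOf x then 0 else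
          (if χ ∈ principalBlock M G then
            ω χ * ((χ : G → ℂ) x * conj ((χ : G → ℂ) x)) else 0)) := by
      intro χ
      split_ifs with h
      · simp only [hr]
        rw [classInner_pRegularPart_left, Finset.mul_sum, Finset.mul_sum, Finset.mul_sum]
        apply Finset.sum_congr rfl
        intro x _
        split_ifs <;> ring
      · simp
    rw [Finset.sum_congr rfl (fun χ _ => h1 χ), ← Finset.mul_sum, Finset.sum_comm]
    have h2 : ∀ x : G, ∑ χ : IrrCharacter G, (if 2 ∣ orderOf x then (0 : ℂ) else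
          (if χ ∈ principalBlock M G then
            ω χ * ((χ : G → ℂ) x * conj ((χ : G → ℂ) x)) else 0)) = 0 := by
      intro x
      by_cases hx : 2 ∣ orderOf x
      · simp [hx]
      · simp only [if_neg hx]
        exact horth x hx
    rw [Finset.sum_congr rfl (fun x _ => h2 x), Finset.sum_const_zero, mul_zero]
  -- the characters trivial on the centre
  have hP : ∀ χ : IrrCharacter G, (∀ n ∈ Subgroup.center G, (χ : G → ℂ) n = (χ : G → ℂ) 1) ↔
      ω χ = 1 := by
    intro χ
    have h1 : (χ : G → ℂ) z = ω χ * (χ : G → ℂ) 1 := by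
      simp only [hω]
      rw [div_mul_cancel₀ _ (irr_degree_ne_zero χ)]
    constructor
    · intro h
      have h2 := h z hzc
      rw [h1] at h2
      have h3 : (ω χ - 1) * (χ : G → ℂ) 1 = 0 := by linear_combination h2
      rcases mul_eq_zero.mp h3 with h4 | h4
      · linear_combination h4
      · exact absurd h4 (irr_degree_ne_zero χ)
    · intro h n hn
      rcases (hcenter n).mp hn with rfl | rfl
      · rfl
      · rw [h1, h, one_mul]
  have hstep : ∀ χ : IrrCharacter G,
      (if χ ∈ principalBlock M G then r χ else 0) +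
        (if χ ∈ principalBlock M G then ω χ * r χ else 0) =
      (if (∀ n ∈ Subgroup.center G, (χ : G → ℂ) n = (χ : G → ℂ) 1) then
        (if χ ∈ principalBlock M G then 2 * r χ else 0) else 0) := by
    intro χ
    by_cases hχ : χ ∈ principalBlock M G
    · simp only [if_pos hχ]
      rcases hωcases χ with h | h
      · rw [if_pos ((hP χ).mpr h), h]; ring
      · have : ¬ (∀ n ∈ Subgroup.center G, (χ : G → ℂ) n = (χ : G → ℂ) 1) := by
          intro h'
          have := (hP χ).mp h'
          rw [h] at this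
          norm_num at this
        rw [if_neg this, h]; ring
    · simp [hχ]
  have hlhs : ∑ χ : IrrCharacter G, (if χ ∈ principalBlock M G then r χ else 0) =
      ∑ χ : IrrCharacter G,
        (if (∀ n ∈ Subgroup.center G, (χ : G → ℂ) n = (χ : G → ℂ) 1) then
          (if χ ∈ principalBlock M G then 2 * r χ else 0) else 0) := by
    rw [← Finset.sum_congr rfl (fun χ _ => hstep χ), Finset.sum_add_distrib, hsum0, add_zero]
  show ∑ χ : IrrCharacter G, (if χ ∈ principalBlock M G then r χ else 0) = _
  rw [hlhs, ← Finset.sum_filter, ← Finset.sum_subtype_eq_sum_filter, Finset.subtype_univ,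
    ← Equiv.sum_comp (irrQuotientEquiv (Subgroup.center G))]
  apply Finset.sum_congr rfl
  intro ψ _
  -- block membership
  have h941 := (Cfsg.Agent.S0941.result 2 M hM (Subgroup.center G)
    (by
      have hc2 : Nat.card (Subgroup.center G) = 2 := by
        have : Subgroup.center G = Subgroup.zpowers z := by
          ext g
          rw [hcenter, Cfsg.Agent.Lib.Helper20.mem_zpowers_two z hz2]
        rw [this, Nat.card_zpowers, hz2]
      exact IsPGroup.of_card (n := 1) (by rw [hc2, pow_one]))
    ⟨0, by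
      rw [pow_zero, Subgroup.index_eq_one]
      exact Subgroup.centralizer_eq_top_iff_subset.mpr (fun _ h => h)⟩).1 e1' ψ
  have hmem : ((irrQuotientEquiv (Subgroup.center G) ψ : IrrCharacter G) ∈ principalBlock M G) ↔
      ψ ∈ principalBlock M (G ⧸ Subgroup.center G) := h941.symm
  by_cases hψ : ψ ∈ principalBlock M (G ⧸ Subgroup.center G)
  · rw [if_pos hψ, if_pos (hmem.mpr hψ)]
    simp only [hr]
    exact (classInner_pReg_inflate z hz2 hcenter (ψ : G ⧸ Subgroup.center G → ℂ)).symm
  · rw [if_neg hψ, if_neg (fun h => hψ (hmem.mp h))]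

end main

end Cfsg.Agent.Lib.Helper20
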