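import Mathlib
import Cfsg.Agent.Lib.Helper48.RSpDefs2

/-!
# K-RSp-E4 (keystone 228117, pack for S2281, architect helper48): the abstract set `T` is everything
-/

set_option autoImplicit false
set_option linter.unusedVariables false

namespace Cfsg.Agent.Lib.Helper20.RSp

open Matrix Cfsg.Agent.Lib.Helper48.RSp Cfsg.Agent.Lib.Helper18

theorem T_univ {m : ℕ} {F : Type*} [Field F] (T : Set (Fin (m + 2) ⊕ Fin (m + 2) → F))
    (hW : ∀ w : Fin (m + 2) ⊕ Fin (m + 2) → F, (∀ i, w (Sum.inr i) = 0) → w ∈ T)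
    (hsmul : ∀ v ∈ T, ∀ a : F, a • v ∈ T)
    (hcoset : ∀ x ∈ T, (∃ i, x (Sum.inr i) ≠ 0) →
      ∀ w : Fin (m + 2) ⊕ Fin (m + 2) → F, (∀ i, w (Sum.inr i) = 0) → x + w ∈ T)
    (hadd : ∀ y₁ ∈ T, ∀ y₂ ∈ T, (∀ i, y₁ (Sum.inl i) = 0) → (∀ i, y₂ (Sum.inl i) = 0) → y₁ + y₂ ∈ T)
    (hf : ∀ j : Fin (m + 2), (fI j : Fin (m + 2) ⊕ Fin (m + 2) → F) ∈ T) :
    ∀ v : Fin (m + 2) ⊕ Fin (m + 2) → F, v ∈ T := by
  classical
  intro v
  -- partial sums of the `f`-part
  have hsum : ∀ s : Finset (Fin (m + 2)),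
      (∑ j ∈ s, v (Sum.inr j) • (fI j : Fin (m + 2) ⊕ Fin (m + 2) → F)) ∈ T ∧
      ∀ i, (∑ j ∈ s, v (Sum.inr j) • (fI j : Fin (m + 2) ⊕ Fin (m + 2) → F)) (Sum.inl i) = 0 := by
    intro s
    induction s using Finset.induction_on with
    | empty =>
      refine ⟨?_, fun i => by simp⟩
      rw [Finset.sum_empty]
      exact hW 0 (fun i => rfl)
    | insert j s hj ih =>
      rw [Finset.sum_insert hj]
      have h1 : v (Sum.inr j) • (fI j : Fin (m + 2) ⊕ Fin (m + 2) → F) ∈ T := hsmul _ (hf j) _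
      have h1' : ∀ i, (v (Sum.inr j) • (fI j : Fin (m + 2) ⊕ Fin (m + 2) → F)) (Sum.inl i) = 0 := by
        intro i
        simp [fI]
      refine ⟨hadd _ h1 _ ih.1 h1' ih.2, fun i => ?_⟩
      rw [Pi.add_apply, h1' i, ih.2 i, add_zero]
  set y : Fin (m + 2) ⊕ Fin (m + 2) → F :=
    ∑ j ∈ Finset.univ, v (Sum.inr j) • (fI j : Fin (m + 2) ⊕ Fin (m + 2) → F) with hy
  have hyT : y ∈ T := (hsum Finset.univ).1
  have hyl : ∀ i, y (Sum.inl i) = 0 := (hsum Finset.univ).2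
  have hyr : ∀ i, y (Sum.inr i) = v (Sum.inr i) := by
    intro i
    rw [hy, Finset.sum_apply]
    rw [Finset.sum_eq_single i]
    · simp [fI]
    · intro j _ hji
      simp [fI, hji]
    · intro h
      exact absurd (Finset.mem_univ i) h
  set w : Fin (m + 2) ⊕ Fin (m + 2) → F := v - y with hw
  have hwr : ∀ i, w (Sum.inr i) = 0 := by
    intro i
    rw [hw, Pi.sub_apply, hyr i, sub_self]
  have hv : v = y + w := by rw [hw]; abel
  by_cases hex : ∃ i, y (Sum.inr i) ≠ 0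
  · rw [hv]
    exact hcoset y hyT hex w hwr
  · have hy0 : y = 0 := by
      funext x
      rcases x with i | i
      · exact hyl i
      · by_contra hne
        exact hex ⟨i, hne⟩
    rw [hv, hy0, zero_add]
    exact hW w hwr

end Cfsg.Agent.Lib.Helper20.RSp
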