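import Mathlib
import Cfsg.Agent.Lib.Helper20.RU2Defs
import Cfsg.Agent.Lib.Helper73.RUHub

set_option autoImplicit false
set_option linter.unusedVariables false
set_option linter.unusedSectionVars false

namespace Cfsg.Agent.Lib.Helper20.RU2

open Matrix Cfsg.Agent.Lib.Helper73.RU Cfsg.Agent.Lib.Helper20.RU2

theorem det_A3 (F : Type*) [Field F] : (A3 F).det = 1 := by
  simp [A3, Matrix.det_fin_three]

theorem A3_sub_one_sq (F : Type*) [Field F] :
    (A3 F - 1) ^ 2 = !![0, 0, 1; 0, 0, 0; 0, 0, 0] := by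
  rw [pow_two]
  ext i j
  fin_cases i <;> fin_cases j <;>
    simp [A3, Matrix.mul_apply, Fin.sum_univ_three, Matrix.one_apply]

/-- `(A3 - 1)^3 = 0` and `(A3 - 1)^2 = E_02 ≠ 0` -/
theorem A3_regular (F : Type*) [Field F] : IsNilpotent (A3 F - 1) ∧ (A3 F - 1) ^ (3 - 1) ≠ 0 := by
  constructor
  · refine ⟨3, ?_⟩
    rw [pow_succ, A3_sub_one_sq]
    ext i j
    fin_cases i <;> fin_cases j <;>
      simp [A3, Matrix.mul_apply, Fin.sum_univ_three, Matrix.one_apply]
  · show (A3 F - 1) ^ 2 ≠ 0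
    rw [A3_sub_one_sq]
    intro h
    have := congrFun (congrFun h 0) 2
    simp at this

theorem det_gM {F : Type*} [Field F] {μ : F} (hμ : μ ≠ 0) : (gM μ).det = 1 := by
  simp [gM, Matrix.det_fin_three, hμ]

theorem gM_mul_A3 {F : Type*} [Field F] {μ : F} (hμ : μ ≠ 0) :
    gM μ * A3 F = A3 F * dM μ * gM μ := by
  ext i j
  fin_cases i <;> fin_cases j <;>
    simp [gM, A3, dM, Matrix.mul_apply, Fin.sum_univ_three] <;> field_simp <;> ring

end Cfsg.Agent.Lib.Helper20.RU2
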