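import Mathlib
import Cfsg.Prelude.Def_Classical
import Cfsg.Prelude.Def_GeometricClasses
import Cfsg.Agent.Lib.Helper49.SLODefs
import Cfsg.Agent.Lib.Helper49.SemisimpleConj

/-!
# K-SLO-12 (598112): `n = r ∈ {3, 5}`, `r ∣ q - 1`: every `x ∈ SL_r(q)` with `x ^ r = 1` is
`GL`-conjugate into the similarity group of `Q`

The characteristic polynomial of `x` splits with roots `ζ ^ (a i)`, `Σ a i = 0` in `ℤ / r`.  For
`r = 3, 5` (finite check) the indices can be arranged as a centre `i₀` and pairs `(i, i')` with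
`a i + a i' = 2 a i₀`; the diagonal matrix with these entries on `Unit ⊕ (Fin m ⊕ Fin m)` multiplies
`x₀² + Σ x_i y_i` by `ζ ^ (2 a i₀)`, and it is conjugate to `x` by
`Helper49.exists_equiv_of_charpoly_eq`.
-/

set_option autoImplicit false
set_option linter.unusedSectionVars false
set_option linter.unusedVariables false
set_option linter.style.haveILetI false

namespace Cfsg.Agent.Lib.Helper20.SLO

open Matrix Polynomial

variable {F : Type*} [Field F] [Fintype F]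

/-- a linear automorphism of `n → F` as an element of `GL` -/
theorem exists_GL_of_equiv {n : Type*} [Fintype n] [DecidableEq n] (G : (n → F) ≃ₗ[F] (n → F)) :
    ∃ g : GL n F, (∀ v, (g : Matrix n n F) *ᵥ v = G v) ∧
      ∀ v, ((g⁻¹ : GL n F) : Matrix n n F) *ᵥ v = G.symm v := by
  have h1 : LinearMap.toMatrix' (G : (n → F) →ₗ[F] (n → F)) *
      LinearMap.toMatrix' (G.symm : (n → F) →ₗ[F] (n → F)) = 1 := by
    rw [← LinearMap.toMatrix'_comp, ← LinearMap.toMatrix'_id]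
    congr 1
    apply LinearMap.ext
    intro v
    simp
  have h2 : LinearMap.toMatrix' (G.symm : (n → F) →ₗ[F] (n → F)) *
      LinearMap.toMatrix' (G : (n → F) →ₗ[F] (n → F)) = 1 := by
    rw [← LinearMap.toMatrix'_comp, ← LinearMap.toMatrix'_id]
    congr 1
    apply LinearMap.ext
    intro v
    simp
  refine ⟨⟨_, _, h1, h2⟩, fun v => ?_, fun v => ?_⟩
  · exact LinearMap.toMatrix'_mulVec _ v
  · exact LinearMap.toMatrix'_mulVec _ v

theorem quadFormOdd_diag {m : ℕ} (d u : Unit ⊕ (Fin m ⊕ Fin m) → F)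
    (hpair : ∀ i, d (.inr (.inl i)) * d (.inr (.inr i)) = d (.inl ()) ^ 2) :
    Cfsg.quadFormOdd m F (fun k => d k * u k) = d (.inl ()) ^ 2 * Cfsg.quadFormOdd m F u := by
  unfold Cfsg.quadFormOdd
  rw [mul_add, Finset.mul_sum]
  congr 1
  · ring
  · apply Finset.sum_congr rfl
    intro i _
    have := hpair i
    linear_combination (u (.inr (.inl i)) * u (.inr (.inr i))) * this

/-- the linear algebra part: a diagonal model with paired entries and the right characteristic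
polynomial -/
theorem conj_of_pairing {r m : ℕ} (hr0 : (r : F) ≠ 0)
    (Q : (Fin r → F) → F) (c : F) (φ : (Fin r → F) ≃ₗ[F] (Unit ⊕ (Fin m ⊕ Fin m) → F))
    (hφ : ∀ v, c * Cfsg.quadFormOdd m F (φ v) = Q v) (x : GL (Fin r) F) (hxr : x ^ r = 1)
    (d : Unit ⊕ (Fin m ⊕ Fin m) → F)
    (hchar : (x : Matrix (Fin r) (Fin r) F).charpoly = ∏ k, (X - C (d k)))
    (hdr : ∀ k, d k ^ r = 1)
    (hpair : ∀ i, d (.inr (.inl i)) * d (.inr (.inr i)) = d (.inl ()) ^ 2) :
    ∃ g : GL (Fin r) F, g⁻¹ * x * g ∈ Cfsg.Geo.quadSimilarityGroup Q := by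
  classical
  have hrne : r ≠ 0 := by
    rintro rfl
    exact hr0 Nat.cast_zero
  set A : Matrix (Fin r) (Fin r) F := (x : Matrix (Fin r) (Fin r) F) with hA
  set D : Matrix (Unit ⊕ (Fin m ⊕ Fin m)) (Unit ⊕ (Fin m ⊕ Fin m)) F := Matrix.diagonal d with hD
  set s : F[X] := X ^ r - C 1 with hs
  have hsq : Squarefree s := (separable_X_pow_sub_C (1 : F) hr0 one_ne_zero).squarefree
  have hAr : A ^ r = 1 := by
    rw [hA, ← Units.val_pow_eq_pow_val, hxr, Units.val_one]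
  have hDr : D ^ r = 1 := by
    rw [hD, Matrix.diagonal_pow, ← Matrix.diagonal_one]
    congr 1
    funext k
    exact hdr k
  have hA0 : aeval A s = 0 := by
    rw [hs, map_sub, map_pow, aeval_X, aeval_C, hAr, map_one, sub_self]
  have hD0 : aeval D s = 0 := by
    rw [hs, map_sub, map_pow, aeval_X, aeval_C, hDr, map_one, sub_self]
  have hA' : aeval (Matrix.toLin' A) s = 0 := by
    have : Matrix.toLin' A = Matrix.toLinAlgEquiv' A := rfl
    rw [this, aeval_algHom_apply, hA0, map_zero]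
  have hD' : aeval (Matrix.toLin' D) s = 0 := by
    have : Matrix.toLin' D = Matrix.toLinAlgEquiv' D := rfl
    rw [this, aeval_algHom_apply, hD0, map_zero]
  obtain ⟨e, he⟩ := Cfsg.Agent.Lib.Helper49.exists_equiv_of_charpoly_eq (Matrix.toLin' A)
    (Matrix.toLin' D) s hsq hA' hD'
    (by rw [Matrix.charpoly_toLin', Matrix.charpoly_toLin', hchar, hD, Matrix.charpoly_diagonal])
  obtain ⟨g, hg, hginv⟩ := exists_GL_of_equiv (φ.trans e.symm)
  have hμ0 : d (.inl ()) ^ 2 ≠ 0 := by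
    apply pow_ne_zero
    intro h
    have := hdr (.inl ())
    rw [h, zero_pow hrne] at this
    exact zero_ne_one this
  refine ⟨g, Units.mk0 _ hμ0, fun v => ?_⟩
  rw [Units.val_mk0, Units.val_mul, Units.val_mul, ← Matrix.mulVec_mulVec, ← Matrix.mulVec_mulVec,
    hg, hginv, ← hφ, ← hφ]
  have h1 : φ ((φ.trans e.symm).symm (A *ᵥ (φ.trans e.symm) v)) = fun k => d k * φ v k := by
    rw [LinearEquiv.trans_symm, LinearEquiv.symm_symm, LinearEquiv.trans_apply,
      LinearEquiv.apply_symm_apply, LinearEquiv.trans_apply]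
    have := he (e.symm (φ v))
    rw [Matrix.toLin'_apply, Matrix.toLin'_apply, LinearEquiv.apply_symm_apply] at this
    rw [this, hD]
    ext k
    rw [Matrix.mulVec_diagonal]
  rw [h1, quadFormOdd_diag d _ hpair]
  ring

/-- the roots of the characteristic polynomial as a tuple -/
theorem exists_roots_tuple {r : ℕ} [NeZero r] (ζ : F) (hζ : IsPrimitiveRoot ζ r)
    (x : GL (Fin r) F) (hdet : (x : Matrix (Fin r) (Fin r) F).det = 1) (hxr : x ^ r = 1) :
    ∃ ρ : Fin r → F, (x : Matrix (Fin r) (Fin r) F).charpoly = ∏ i, (X - C (ρ i)) ∧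
      (∀ i, ρ i ^ r = 1) ∧ ∏ i, ρ i = 1 := by
  classical
  have hrne : r ≠ 0 := NeZero.ne r
  set A : Matrix (Fin r) (Fin r) F := (x : Matrix (Fin r) (Fin r) F) with hA
  set s : F[X] := X ^ r - C 1 with hs
  have hAr : A ^ r = 1 := by
    rw [hA, ← Units.val_pow_eq_pow_val, hxr, Units.val_one]
  have hA0 : aeval A s = 0 := by
    rw [hs, map_sub, map_pow, aeval_X, aeval_C, hAr, map_one, sub_self]
  have hdvd := Cfsg.Agent.Lib.Helper49.charpoly_dvd_pow_of_aeval_eq_zero A s hA0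
  have hs0 : s ≠ 0 := X_pow_sub_C_ne_zero (Nat.pos_of_ne_zero hrne) 1
  have hsplit : A.charpoly.Splits :=
    ((X_pow_sub_one_splits hζ).pow _).of_dvd (pow_ne_zero _ hs0) hdvd
  have hprod := hsplit.eq_prod_roots_of_monic (Matrix.charpoly_monic A)
  have hcard : A.charpoly.roots.card = r := by
    rw [← hsplit.natDegree_eq_card_roots, Matrix.charpoly_natDegree_eq_dim, Fintype.card_fin]
  set l := A.charpoly.roots.toList with hl
  have hlen : l.length = r := by rw [hl, Multiset.length_toList, hcard]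
  set ρ : Fin r → F := fun i => l.get (Fin.cast hlen.symm i) with hρ
  have hmap : Multiset.map ρ Finset.univ.val = A.charpoly.roots := by
    rw [Fin.univ_val_map, hρ, ← List.ofFn_congr hlen l.get, List.ofFn_get, hl, Multiset.coe_toList]
  have hmem : ∀ i, ρ i ∈ A.charpoly.roots := by
    intro i
    rw [← hmap]
    exact Multiset.mem_map_of_mem ρ (Finset.mem_univ_val i)
  refine ⟨ρ, ?_, ?_, ?_⟩
  · conv_lhs => rw [hprod, ← hmap, Multiset.map_map]
    rfl
  · intro i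
    have hroot : A.charpoly.IsRoot (ρ i) := (mem_roots (Matrix.charpoly_monic A).ne_zero).mp (hmem i)
    have h2 := hroot.dvd hdvd
    rw [IsRoot.def, eval_pow, hs, eval_sub, eval_pow, eval_X, eval_C] at h2
    have h3 := pow_eq_zero_iff (Fintype.card_ne_zero) |>.mp h2
    exact sub_eq_zero.mp h3
  · have h1 := Matrix.det_eq_prod_roots_charpoly_of_splits hsplit
    rw [hdet, ← hmap] at h1
    exact h1.symm

/-! ### The finite checks -/

/-- the three ways of pairing `1, 2, 3, 4` -/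
def tbl5 : Fin 3 → Fin 2 → Fin 5 × Fin 5 :=
  ![![(1, 2), (3, 4)], ![(1, 3), (2, 4)], ![(1, 4), (2, 3)]]

set_option maxRecDepth 100000 in
theorem core5 : ∀ a0 a1 a2 a3 a4 : Fin 5, ((a0 : ℕ) + a1 + a2 + a3 + a4) % 5 = 0 →
    ∃ (i0 : Fin 5) (p : Fin 3), ∀ j : Fin 2,
      ((![a0, a1, a2, a3, a4] (i0 + (tbl5 p j).1) : ℕ) +
        ![a0, a1, a2, a3, a4] (i0 + (tbl5 p j).2)) % 5 =
        (2 * (![a0, a1, a2, a3, a4] i0 : ℕ)) % 5 := by
  decide

theorem core3 : ∀ a0 a1 a2 : Fin 3, ((a0 : ℕ) + a1 + a2) % 3 = 0 →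
    ∃ i0 : Fin 3, ((![a0, a1, a2] (i0 + 1) : ℕ) + ![a0, a1, a2] (i0 + 2)) % 3 =
      (2 * (![a0, a1, a2] i0 : ℕ)) % 3 := by
  decide

/-- base arrangement for `r = 5` -/
def base5 (p : Fin 3) : Unit ⊕ (Fin 2 ⊕ Fin 2) → Fin 5 :=
  Sum.elim (fun _ => 0) (Sum.elim (fun j => (tbl5 p j).1) (fun j => (tbl5 p j).2))

theorem base5_bij : ∀ p : Fin 3, Function.Bijective (base5 p) := by
  decide

/-- base arrangement for `r = 3` -/
def base3 : Unit ⊕ (Fin 1 ⊕ Fin 1) → Fin 3 :=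
  Sum.elim (fun _ => 0) (Sum.elim (fun _ => 1) (fun _ => 2))

theorem base3_bij : Function.Bijective base3 := by
  decide

theorem comb5 (a : Fin 5 → Fin 5) (hsum : (∑ i, (a i : ℕ)) % 5 = 0) :
    ∃ e : (Unit ⊕ (Fin 2 ⊕ Fin 2)) ≃ Fin 5, ∀ j : Fin 2,
      ((a (e (.inr (.inl j))) : ℕ) + a (e (.inr (.inr j)))) % 5 =
        (2 * (a (e (.inl ())) : ℕ)) % 5 := by
  have ha : a = ![a 0, a 1, a 2, a 3, a 4] := by
    funext i
    fin_cases i <;> rfl
  have hs' : ((a 0 : ℕ) + a 1 + a 2 + a 3 + a 4) % 5 = 0 := by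
    rw [← hsum, Fin.sum_univ_five]
  obtain ⟨i0, p, hp⟩ := core5 (a 0) (a 1) (a 2) (a 3) (a 4) hs'
  rw [← ha] at hp
  refine ⟨(Equiv.ofBijective (base5 p) (base5_bij p)).trans (Equiv.addLeft i0), fun j => ?_⟩
  simp only [Equiv.trans_apply, Equiv.ofBijective_apply, Equiv.coe_addLeft, base5, Sum.elim_inr,
    Sum.elim_inl, add_zero]
  exact hp j

theorem comb3 (a : Fin 3 → Fin 3) (hsum : (∑ i, (a i : ℕ)) % 3 = 0) :
    ∃ e : (Unit ⊕ (Fin 1 ⊕ Fin 1)) ≃ Fin 3, ∀ j : Fin 1,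
      ((a (e (.inr (.inl j))) : ℕ) + a (e (.inr (.inr j)))) % 3 =
        (2 * (a (e (.inl ())) : ℕ)) % 3 := by
  have ha : a = ![a 0, a 1, a 2] := by
    funext i
    fin_cases i <;> rfl
  have hs' : ((a 0 : ℕ) + a 1 + a 2) % 3 = 0 := by
    rw [← hsum, Fin.sum_univ_three]
  obtain ⟨i0, hp⟩ := core3 (a 0) (a 1) (a 2) hs'
  rw [← ha] at hp
  refine ⟨(Equiv.ofBijective base3 base3_bij).trans (Equiv.addLeft i0), fun j => ?_⟩
  simp only [Equiv.trans_apply, Equiv.ofBijective_apply, Equiv.coe_addLeft, base3, Sum.elim_inr,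
    Sum.elim_inl, add_zero]
  exact hp

/-- **K-SLO-12.** -/
theorem special_conj (r : ℕ) [Fact r.Prime] (hr : r = 3 ∨ r = 5) (hrq : r ∣ Fintype.card F - 1)
    (Q : (Fin r → F) → F) (m : ℕ) (c : F) (hc : c ≠ 0)
    (φ : (Fin r → F) ≃ₗ[F] (Unit ⊕ (Fin m ⊕ Fin m) → F))
    (hφ : ∀ v, c * Cfsg.quadFormOdd m F (φ v) = Q v) (x : GL (Fin r) F)
    (hx : x ∈ Cfsg.Geo.specialLinear (Fin r) F) (hxr : x ^ r = 1) :
    ∃ g : GL (Fin r) F, g⁻¹ * x * g ∈ Cfsg.Geo.quadSimilarityGroup Q := by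
  classical
  have hrp : r.Prime := Fact.out
  haveI : NeZero r := ⟨hrp.ne_zero⟩
  have hdim : r = 1 + (m + m) := by
    have h := φ.finrank_eq
    rw [Module.finrank_fin_fun, Module.finrank_fintype_fun_eq_card] at h
    simpa using h
  -- a primitive `r`-th root of unity
  obtain ⟨ζ, hζ⟩ : ∃ ζ : F, IsPrimitiveRoot ζ r := by
    have hcard : r ∣ Fintype.card Fˣ := by rwa [Fintype.card_units]
    obtain ⟨u, hu⟩ := exists_prime_orderOf_dvd_card r hcard
    refine ⟨(u : F), ?_⟩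
    rw [IsPrimitiveRoot.coe_units_iff, ← hu]
    exact IsPrimitiveRoot.orderOf u
  have hr0 : (r : F) ≠ 0 := (hζ.neZero').ne
  have hdet : (x : Matrix (Fin r) (Fin r) F).det = 1 := by
    have h1 : Matrix.GeneralLinearGroup.det x = 1 := hx
    have h2 := congrArg (fun u : Fˣ => (u : F)) h1
    simpa using h2
  obtain ⟨ρ, hchar, hρr, hρprod⟩ := exists_roots_tuple ζ hζ x hdet hxr
  choose a' ha'lt ha' using fun i => hζ.eq_pow_of_pow_eq_one (hρr i)
  set a : Fin r → Fin r := fun i => ⟨a' i, ha'lt i⟩ with hadef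
  have haρ : ∀ i, ζ ^ (a i : ℕ) = ρ i := fun i => ha' i
  have hsum : (∑ i, (a i : ℕ)) % r = 0 := by
    apply Nat.mod_eq_zero_of_dvd
    rw [← hζ.pow_eq_one_iff_dvd, ← Finset.prod_pow_eq_pow_sum, ← hρprod]
    exact Finset.prod_congr rfl (fun i _ => haρ i)
  obtain ⟨e, he⟩ : ∃ e : (Unit ⊕ (Fin m ⊕ Fin m)) ≃ Fin r, ∀ j : Fin m,
      ((a (e (.inr (.inl j))) : ℕ) + a (e (.inr (.inr j)))) % r =
        (2 * (a (e (.inl ())) : ℕ)) % r := by
    rcases hr with rfl | rfl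
    · obtain rfl : m = 1 := by omega
      exact comb3 a hsum
    · obtain rfl : m = 2 := by omega
      exact comb5 a hsum
  refine conj_of_pairing hr0 Q c φ hφ x hxr (fun k => ρ (e k)) ?_ (fun k => hρr _) ?_
  · rw [hchar]
    exact (Equiv.prod_comp e (fun i => X - C (ρ i))).symm
  · intro j
    show ρ (e (.inr (.inl j))) * ρ (e (.inr (.inr j))) = ρ (e (.inl ())) ^ 2
    rw [← haρ, ← haρ, ← haρ, ← pow_add, ← pow_mul, pow_eq_pow_mod _ hζ.pow_eq_one, he j,
      ← pow_eq_pow_mod _ hζ.pow_eq_one, mul_comm]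

end Cfsg.Agent.Lib.Helper20.SLO

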