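import Mathlib
import Cfsg.Prelude.Def_Classical
import Cfsg.Prelude.Def_LieClassical
import Cfsg.Prelude.Def_GeometricClasses
import Cfsg.Agent.Lib.Helper49.SLUDefs
import Cfsg.Agent.Lib.Helper19.Unitary

/-!
# K-SLU-6 (598206): odd characteristic, `v₂(q - 1) < v₂(n)`: a derangement of order 2 mod scalars

`x = ⊕ [[0, z], [1, 0]]` (`n / 2` blocks), `z = ζ ^ ((q - 1) / 2 ^ v)` for a nonsquare `ζ`
(`v = v₂(q - 1)`): `z` is a nonsquare, `det x = (-z) ^ (n / 2) = 1`, `x² = z`.  No `y ∈ CU` has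
`y² = z • 1` with `z` a nonsquare: the multiplier `c` has `c ^ q₀ = c` and `c² = z ^ (q₀ + 1)`,
whence `z ^ ((q - 1) / 2) = c ^ (q₀ - 1) = 1`.
-/

set_option autoImplicit false
set_option linter.unusedSectionVars false
set_option linter.unusedVariables false

namespace Cfsg.Agent.Lib.Helper20.SLU

open Matrix Cfsg.Agent.Lib.Helper49.SLU

variable {F : Type*} [Field F] [Fintype F]

/-- no element of `CU` squares to a nonsquare scalar -/
theorem not_mem_CUh_of_sq_nonsquare (h2 : (2 : F) ≠ 0) {q₀ : ℕ} (hF : Fintype.card F = q₀ ^ 2)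
    (n : ℕ) (hn : 1 ≤ n) (y : GL (Fin n) F) (z : F) (hz : ¬ IsSquare z)
    (hy : (y : Matrix (Fin n) (Fin n) F) * (y : Matrix (Fin n) (Fin n) F) =
      z • (1 : Matrix (Fin n) (Fin n) F)) : y ∉ CUh n F q₀ := by
  classical
  rintro ⟨c, hc⟩
  have hch : ringChar F ≠ 2 := by
    intro h
    apply h2
    have := ringChar.Nat.cast_ringChar (R := F)
    rw [h] at this
    exact_mod_cast this
  have hz0 : z ≠ 0 := by
    rintro rfl
    exact hz ⟨0, by ring⟩
  set e : Fin n → F := Pi.single (⟨0, hn⟩ : Fin n) 1 with he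
  have hee : Cfsg.hermForm n F q₀ e e = 1 := by
    unfold Cfsg.hermForm
    rw [Finset.sum_eq_single (⟨0, hn⟩ : Fin n)]
    · simp [he]
    · intro b _ hb
      simp [he, Pi.single_eq_of_ne hb]
    · intro h
      exact absurd (Finset.mem_univ _) h
  -- `c = h (y e) (y e)` is fixed by `a ↦ a ^ q₀`
  have hc1 : Cfsg.hermForm n F q₀ ((y : Matrix (Fin n) (Fin n) F) *ᵥ e)
      ((y : Matrix (Fin n) (Fin n) F) *ᵥ e) = (c : F) := by
    rw [hc, hee, mul_one]
  have hcq : (c : F) ^ q₀ = (c : F) := by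
    rw [← hc1]
    exact Cfsg.Agent.Lib.Helper19.hermForm_conj hF _ _
  -- `c² = z ^ (q₀ + 1)`
  have hyy : (y : Matrix (Fin n) (Fin n) F) *ᵥ ((y : Matrix (Fin n) (Fin n) F) *ᵥ e) = z • e := by
    rw [Matrix.mulVec_mulVec, hy, Matrix.smul_mulVec, Matrix.one_mulVec]
  have hc2 : (c : F) * (c : F) = z ^ (q₀ + 1) := by
    have h1 := hc ((y : Matrix (Fin n) (Fin n) F) *ᵥ e) ((y : Matrix (Fin n) (Fin n) F) *ᵥ e)
    rw [hyy, hc1, Cfsg.Agent.Lib.Helper19.hermForm_smul_left,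
      Cfsg.Agent.Lib.Helper19.hermForm_smul_right, hee] at h1
    rw [← h1]
    ring
  -- `q₀` is odd
  have hcard := FiniteField.odd_card_of_char_ne_two hch
  rw [hF] at hcard
  have hq0odd : q₀ % 2 = 1 := by
    rcases Nat.even_or_odd q₀ with h | h
    · exfalso
      have : Even (q₀ ^ 2) := h.pow_of_ne_zero (by norm_num)
      rw [Nat.even_iff] at this
      omega
    · exact Nat.odd_iff.mp h
  obtain ⟨t, ht⟩ : ∃ t, q₀ = 2 * t + 1 := ⟨q₀ / 2, by omega⟩
  have hhalf : Fintype.card F / 2 = (q₀ + 1) * t := by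
    rw [hF, ht]
    have : (2 * t + 1) ^ 2 = 2 * ((2 * t + 1 + 1) * t) + 1 := by ring
    rw [this]
    omega
  apply hz
  rw [FiniteField.isSquare_iff hch hz0, hhalf, pow_mul, ← hc2, ← pow_two, ← pow_mul]
  have hc0 : (c : F) ≠ 0 := c.ne_zero
  have h3 : (c : F) ^ (2 * t) * (c : F) = (c : F) := by
    rw [← pow_succ, ← ht, hcq]
  have h4 : ((c : F) ^ (2 * t) - 1) * (c : F) = 0 := by
    rw [sub_mul, h3, one_mul, sub_self]
  rcases mul_eq_zero.mp h4 with h | h
  · exact sub_eq_zero.mp h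
  · exact absurd h hc0

/-- **K-SLU-6.** -/
theorem derange_nonsq_u (h2 : (2 : F) ≠ 0) {q₀ : ℕ} (hF : Fintype.card F = q₀ ^ 2) (n : ℕ)
    (hn : 1 ≤ n) (hv : padicValNat 2 (Fintype.card F - 1) < padicValNat 2 n) :
    ∃ x : GL (Fin n) F, x ∈ Cfsg.Geo.specialLinear (Fin n) F ∧
      (∃ z : F, ((x ^ 2 : GL (Fin n) F) : Matrix (Fin n) (Fin n) F) =
        z • (1 : Matrix (Fin n) (Fin n) F)) ∧
      (∀ z : F, (x : Matrix (Fin n) (Fin n) F) ≠ z • (1 : Matrix (Fin n) (Fin n) F)) ∧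
      ∀ g : GL (Fin n) F, g⁻¹ * x * g ∉ CUh n F q₀ := by
  classical
  have hch : ringChar F ≠ 2 := by
    intro h
    apply h2
    have := ringChar.Nat.cast_ringChar (R := F)
    rw [h] at this
    exact_mod_cast this
  set q := Fintype.card F with hq
  set v := padicValNat 2 (q - 1) with hvdef
  have hqodd : q % 2 = 1 := FiniteField.odd_card_of_char_ne_two hch
  have hq1 : q - 1 ≠ 0 := by
    have : 1 < q := Fintype.one_lt_card
    omega
  -- `q - 1 = 2 ^ v * k`, `k` odd, `v ≥ 1`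
  have hfac : 2 ^ v * ((q - 1) / 2 ^ v) = q - 1 := by
    have := Nat.ordProj_mul_ordCompl_eq_self (q - 1) 2
    rwa [Nat.factorization_def _ Nat.prime_two] at this
  set k := (q - 1) / 2 ^ v with hk
  have hkodd : ¬ 2 ∣ k := by
    have := Nat.not_dvd_ordCompl Nat.prime_two hq1
    rwa [Nat.factorization_def _ Nat.prime_two] at this
  have hv1 : 1 ≤ v := by
    have h2dvd : 2 ^ 1 ∣ q - 1 := by
      rw [pow_one]
      omega
    exact (padicValNat_dvd_iff_le hq1).mp h2dvd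
  -- `n = 2 ^ (v + 1) * t'`
  have hn0 : n ≠ 0 := by omega
  obtain ⟨t', ht'⟩ : 2 ^ (v + 1) ∣ n := (padicValNat_dvd_iff_le hn0).mpr hv
  set N := 2 ^ v * t' with hN
  have hnN : 2 * N = n := by
    rw [ht', hN, pow_succ]
    ring
  have hNpos : 0 < N := by omega
  -- the nonsquare `z`
  obtain ⟨ζ, hζ⟩ := FiniteField.exists_nonsquare hch
  have hζ0 : ζ ≠ 0 := by
    rintro rfl
    exact hζ ⟨0, by ring⟩
  set z : F := ζ ^ k with hzdef
  have hz : ¬ IsSquare z := by
    intro hsq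
    apply hζ
    obtain ⟨j, hj⟩ : ∃ j, k = 2 * j + 1 := ⟨k / 2, by omega⟩
    obtain ⟨b, hb⟩ := hsq
    refine ⟨b / ζ ^ j, ?_⟩
    have h1 : ζ ^ k = ζ * (ζ ^ j * ζ ^ j) := by
      rw [hj]
      ring
    have h5 : ζ ^ j ≠ 0 := pow_ne_zero _ hζ0
    field_simp
    rw [hzdef, h1] at hb
    linear_combination hb
  have hz0 : z ≠ 0 := pow_ne_zero _ hζ0
  have hzN : z ^ N = 1 := by
    rw [hzdef, hN, ← pow_mul, ← mul_assoc, mul_comm k, hfac, pow_mul,
      FiniteField.pow_card_sub_one_eq_one ζ hζ0, one_pow]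
  have hNeven : Even N := by
    rw [hN]
    exact (Nat.even_pow.mpr ⟨even_two, by omega⟩).mul_right _
  -- the matrix
  set B : Matrix (Fin 2) (Fin 2) F := !![0, z; 1, 0] with hB
  have hBB : B * B = z • (1 : Matrix (Fin 2) (Fin 2) F) := by
    ext i j
    fin_cases i <;> fin_cases j <;> simp [hB, Matrix.mul_apply, Fin.sum_univ_two]
  have hBdet : B.det = -z := by
    rw [hB, Matrix.det_fin_two_of]
    ring
  set M : Matrix (Fin 2 × Fin N) (Fin 2 × Fin N) F := Matrix.blockDiagonal (fun _ : Fin N => B)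
    with hM
  have hMM : M * M = z • (1 : Matrix (Fin 2 × Fin N) (Fin 2 × Fin N) F) := by
    rw [hM, ← Matrix.blockDiagonal_mul]
    have : (fun _ : Fin N => B * B) = z • (1 : Fin N → Matrix (Fin 2) (Fin 2) F) := by
      funext _
      rw [hBB]
      rfl
    rw [this, Matrix.blockDiagonal_smul, Matrix.blockDiagonal_one]
  have hMdet : M.det = 1 := by
    rw [hM, Matrix.det_blockDiagonal]
    simp only [hBdet, Finset.prod_const, Finset.card_univ, Fintype.card_fin]
    rw [neg_pow, hzN, hNeven.neg_one_pow, one_mul]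
  set e : Fin 2 × Fin N ≃ Fin n := finProdFinEquiv.trans (finCongr hnN) with he
  set X : Matrix (Fin n) (Fin n) F := Matrix.reindexAlgEquiv F F e M with hX
  have hXX : X * X = z • (1 : Matrix (Fin n) (Fin n) F) := by
    rw [hX, ← map_mul, hMM, map_smul, map_one]
  have hXdet : X.det = 1 := by
    rw [hX, Matrix.det_reindexAlgEquiv, hMdet]
  have hXinv : X * (z⁻¹ • X) = 1 := by
    rw [Matrix.mul_smul, hXX, smul_smul, inv_mul_cancel₀ hz0, one_smul]
  have hXinv' : (z⁻¹ • X) * X = 1 := by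
    rw [Matrix.smul_mul, hXX, smul_smul, inv_mul_cancel₀ hz0, one_smul]
  set x : GL (Fin n) F := ⟨X, z⁻¹ • X, hXinv, hXinv'⟩ with hx
  have hxval : (x : Matrix (Fin n) (Fin n) F) = X := rfl
  refine ⟨x, ?_, ⟨z, ?_⟩, ?_, ?_⟩
  · show Matrix.GeneralLinearGroup.det x = 1
    apply Units.ext
    rw [Matrix.GeneralLinearGroup.val_det_apply, hxval, hXdet, Units.val_one]
  · rw [Units.val_pow_eq_pow_val, hxval, pow_two, hXX]
  · intro z' hz'
    rw [hxval] at hz'
    have h1 := congrFun (congrFun hz' (e (1, ⟨0, hNpos⟩))) (e (0, ⟨0, hNpos⟩))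
    have hne : e (1, ⟨0, hNpos⟩) ≠ e (0, ⟨0, hNpos⟩) := by
      intro h
      have := e.injective h
      simp at this
    rw [hX, Matrix.coe_reindexAlgEquiv, Matrix.reindex_apply, Matrix.submatrix_apply,
      Equiv.symm_apply_apply, Equiv.symm_apply_apply, hM, Matrix.blockDiagonal_apply,
      Matrix.smul_apply, Matrix.one_apply_ne hne] at h1
    simp [hB] at h1
  · intro g
    apply not_mem_CUh_of_sq_nonsquare h2 hF n hn (g⁻¹ * x * g) z hz
    have h1 : g⁻¹ * x * g * (g⁻¹ * x * g) = g⁻¹ * (x * x) * g := by group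
    rw [← Units.val_mul, h1, Units.val_mul, Units.val_mul, Units.val_mul, hxval, hXX,
      Matrix.mul_smul, Matrix.mul_one, Matrix.smul_mul, ← Units.val_mul, inv_mul_cancel,
      Units.val_one]

end Cfsg.Agent.Lib.Helper20.SLU

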