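/-
K-SQ pack (S4625, architect helper38), leaf 462506 K-SQ-Ominus: a Sylow 2-subgroup of `PΩ⁻_{2m}(2^k)` has all squares
in its derived subgroup.
-/
import Cfsg.Agent.Lib.Helper20.SQ.OmCount
import Cfsg.Agent.Lib.Helper20.SQ.OmOmega
import Cfsg.Agent.Lib.Helper20.SQ.OmPGroup
import Cfsg.Agent.Lib.Helper20.SQ.OmTransfer

set_option autoImplicit false
set_option linter.unusedVariables false
set_option linter.unusedSectionVars false

namespace Cfsg.Agent.Lib.Helper20.SQ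

open Cfsg Cfsg.Agent.Lib.Helper38.SQ

/-- 462506 K-SQ-Ominus -/
theorem sylSq_pomega_minus (F : Type) [Field F] [Fintype F] [CharP F 2] (m : ℕ) (hm : 4 ≤ m)
    (a b : F) (hab : ∀ z₁ z₂ : F, z₁ ^ 2 + a * z₁ * z₂ + b * z₂ ^ 2 = 0 → z₁ = 0 ∧ z₂ = 0) :
    SylSq (Cfsg.POmega F (Cfsg.quadFormMinus (m - 1) F a b)) := by
  obtain ⟨n, -, hn⟩ := FiniteField.card F 2
  have hr : 3 ≤ m - 1 := by omega
  refine sylSq_pomega_minus_of' m hm a b hab n hn (omU (m - 1) a b hab)
    (isPGroup_omU' (m - 1) a b hab) ?_ ?_ ?_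
  · unfold omU
    rw [Subgroup.closure_le]
    rintro _ ⟨k, v, h, rfl⟩
    exact rhoO_mem_Omega' (m - 1) hr a b hab k v h.perp
  · have h1 := card_omU_ge (m - 1) a b hab
    rw [hn, ← pow_mul] at h1
    have h2 : (m - 1) * (m - 1) - (m - 1) + (m - 1) * 2 = m * (m - 1) := by
      obtain ⟨r, rfl⟩ : ∃ r, m = r + 1 := ⟨m - 1, by omega⟩
      simp only [Nat.add_sub_cancel]
      have h3 : r ≤ r * r := Nat.le_mul_self r
      have h4 : (r + 1) * r = r * r + r := by ring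
      omega
    rw [h2] at h1
    exact h1
  · apply sq_mem_commutator_of_closure (omU (m - 1) a b hab) (omGens (m - 1) a b hab) rfl
    rintro _ ⟨k, v, h, rfl⟩
    rw [pow_two, rhoO_mul_self]
    exact one_mem _

end Cfsg.Agent.Lib.Helper20.SQ
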