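import Mathlib
import Cfsg.Prelude.Def_GeometricClasses
import Cfsg.Prelude.Def_ClassicalGeometry
import Cfsg.Agent.Lib.Helper49.PrimeOrderSpCount
import Cfsg.Agent.Lib.Helper50.SpTransvCent
import Cfsg.Agent.S2568

/-!
# K-SpT-3e (keystone 598003, S5980 pack, architect helper86): the block element of `Sp_2d(q)`
-/

set_option autoImplicit false
set_option linter.unusedSimpArgs false
set_option linter.unusedSectionVars false
set_option linter.unusedVariables false
set_option linter.style.haveILetI false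
set_option maxHeartbeats 1000000

namespace Cfsg.Agent.Lib.Helper20.SpT

open Matrix Polynomial

variable {F : Type*} [Field F]

/-- `Helper49.FactorData.exists_sp_realize`, keeping the characteristic polynomial -/
theorem sp_realize_charpoly [Fintype F] (p : ℕ) [Fact p.Prime] [CharP F p]
    {r i : ℕ} {PP : Finset F[X]} (D : Cfsg.Agent.Lib.Helper49.FactorData F r i PP)
    (hmon : ∀ P ∈ PP, P.Monic)
    (hrF : (r : F) ≠ 0) (m : ℕ) (a : PP → ℕ) (ha : i * ∑ P, a P ≤ 2 * m)
    (hpal : ((X - 1 : F[X]) ^ (2 * m - i * ∑ P, a P) * ∏ P : PP, (P : F[X]) ^ a P).reverse =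
      (X - 1 : F[X]) ^ (2 * m - i * ∑ P, a P) * ∏ P : PP, (P : F[X]) ^ a P) :
    ∃ g : Matrix.symplecticGroup (Fin m) F, g ^ r = 1 ∧
      (g : Matrix (Fin m ⊕ Fin m) (Fin m ⊕ Fin m) F).charpoly =
        (X - 1 : F[X]) ^ (2 * m - i * ∑ P, a P) * ∏ P : PP, (P : F[X]) ^ a P := by
  classical
  have hcard : Fintype.card (Fin m ⊕ Fin m) = 2 * m := by
    rw [Fintype.card_sum, Fintype.card_fin]; ring
  obtain ⟨G, hG1, hG2, hG3⟩ := D.exists_model hmon (Fin m ⊕ Fin m) (2 * m) hcard a ha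
  have hf : ((X - 1 : F[X]) ^ (2 * m - i * ∑ P, a P) * ∏ P : PP, (P : F[X]) ^ a P).Monic := by
    rw [← hG3]; exact Matrix.charpoly_monic G
  have hd : ((X - 1 : F[X]) ^ (2 * m - i * ∑ P, a P) * ∏ P : PP, (P : F[X]) ^ a P).natDegree =
      2 * m := by
    rw [← hG3, Matrix.charpoly_natDegree_eq_dim, hcard]
  obtain ⟨g, hg1, hg2⟩ := Cfsg.Agent.Lib.Helper49.exists_sp_of_palindromic p _ hf hd hpal
  obtain ⟨h1, h2⟩ := Cfsg.Agent.Lib.Helper49.sp_transfer p hrF g hg1 G hG1 (by rw [hg2, hG3])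
  exact ⟨g, h1, hg2⟩

/-- an `r`-th root of unity of a finite field is trivial when the order of `q` modulo `r` is at
least `2` -/
theorem eq_one_of_pow_eq_one [Fintype F] (r : ℕ) (hr : r.Prime)
    (he2 : 2 ≤ orderOf ((Fintype.card F : ℕ) : ZMod r)) (z : F) (hz : z ^ r = 1) : z = 1 := by
  have hz0 : z ≠ 0 := by
    rintro rfl
    rw [zero_pow hr.ne_zero] at hz
    exact zero_ne_one hz
  have h1 : orderOf z ∣ r := orderOf_dvd_of_pow_eq_one hz
  rcases (Nat.dvd_prime hr).mp h1 with h | h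
  · exact orderOf_eq_one_iff.mp h
  · exfalso
    have h2 : orderOf z ∣ Fintype.card F - 1 :=
      orderOf_dvd_of_pow_eq_one (FiniteField.pow_card_sub_one_eq_one z hz0)
    rw [h] at h2
    have hq1 : 1 ≤ Fintype.card F := Fintype.card_pos
    have h3 : ((Fintype.card F : ℕ) : ZMod r) = 1 := by
      have h4 : ((Fintype.card F - 1 : ℕ) : ZMod r) = 0 := (ZMod.natCast_eq_zero_iff _ _).mpr h2
      rw [Nat.cast_sub hq1, Nat.cast_one, sub_eq_zero] at h4
      exact h4
    rw [h3, orderOf_one] at he2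
    omega

/-- the common end of the two cases -/
theorem block_finish [Fintype F] {p : ℕ} [Fact p.Prime] [CharP F p] (d : ℕ) (r : ℕ) (hr : r.Prime)
    (hrF : (r : F) ≠ 0) (e : ℕ) (he : e = orderOf ((Fintype.card F : ℕ) : ZMod r)) (he2 : 2 ≤ e)
    (c : ℕ) (hc1 : 1 ≤ c) (hcd : c ≤ 2 * d) (hce : Even c)
    {PP : Finset F[X]} (D : Cfsg.Agent.Lib.Helper49.FactorData F r e PP)
    (hmon : ∀ P ∈ PP, P.Monic) (a : PP → ℕ) (ha1 : ∀ P, a P ≤ 1) (hsum : e * ∑ P, a P = c)
    (hpalf : (∏ P : PP, (P : F[X]) ^ a P).reverse = ∏ P : PP, (P : F[X]) ^ a P) :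
    ∃ x ∈ Cfsg.spGL d F, x ^ r = 1 ∧
      (∀ z : F, (x : Matrix (Fin d ⊕ Fin d) (Fin d ⊕ Fin d) F) ≠
        z • (1 : Matrix (Fin d ⊕ Fin d) (Fin d ⊕ Fin d) F)) ∧
      ∃ f : F[X], f.Separable ∧ f.eval 1 ≠ 0 ∧ f.natDegree = c ∧
        (x : Matrix (Fin d ⊕ Fin d) (Fin d ⊕ Fin d) F).charpoly = (X - 1) ^ (2 * d - c) * f := by
  classical
  have hd1 : 1 ≤ d := by omega
  have hpal : ((X - 1 : F[X]) ^ (2 * d - e * ∑ P, a P) * ∏ P : PP, (P : F[X]) ^ a P).reverse =
      (X - 1 : F[X]) ^ (2 * d - e * ∑ P, a P) * ∏ P : PP, (P : F[X]) ^ a P := by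
    apply Cfsg.Agent.Lib.Helper49.palin_mul _ hpalf
    apply Cfsg.Agent.Lib.Helper49.palin_X_sub_one_even
    rw [hsum]
    obtain ⟨l, hl⟩ := hce
    exact ⟨d - l, by omega⟩
  obtain ⟨g, hg, hgc⟩ := sp_realize_charpoly p D hmon hrF d a (by rw [hsum]; exact hcd) hpal
  rw [hsum] at hgc
  set f : F[X] := ∏ P : PP, (P : F[X]) ^ a P with hf
  set x : GL (Fin d ⊕ Fin d) F := ((Cfsg.Agent.Lib.Helper50.spEquiv (F := F) d g : ↥(Cfsg.spGL d F)) :
    GL (Fin d ⊕ Fin d) F) with hx
  have hxmem : x ∈ Cfsg.spGL d F := (Cfsg.Agent.Lib.Helper50.spEquiv (F := F) d g).2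
  have hxval : (x : Matrix (Fin d ⊕ Fin d) (Fin d ⊕ Fin d) F) =
      (g : Matrix (Fin d ⊕ Fin d) (Fin d ⊕ Fin d) F) := rfl
  have hxr : x ^ r = 1 := by
    rw [hx, ← Subgroup.coe_pow, ← map_pow, hg, map_one]
    rfl
  have hxc : (x : Matrix (Fin d ⊕ Fin d) (Fin d ⊕ Fin d) F).charpoly = (X - 1) ^ (2 * d - c) * f := by
    rw [hxval, hgc]
  -- properties of `f`
  have hPeval : ∀ P : PP, (P : F[X]).eval 1 ≠ 0 := by
    intro P h0
    apply D.X_sub_one_not_dvd P.2
    have : (X - C (1 : F)) ∣ (P : F[X]) := Polynomial.dvd_iff_isRoot.mpr h0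
    rwa [C_1] at this
  have hf1 : f.eval 1 ≠ 0 := by
    rw [hf, Polynomial.eval_prod]
    apply Finset.prod_ne_zero_iff.mpr
    intro P _
    rw [Polynomial.eval_pow]
    exact pow_ne_zero _ (hPeval P)
  have hfdeg : f.natDegree = c := by
    rw [hf, Polynomial.natDegree_prod_of_monic _ _ (fun P _ => (hmon P.1 P.2).pow _)]
    rw [← hsum, Finset.mul_sum]
    apply Finset.sum_congr rfl
    intro P _
    rw [(hmon P.1 P.2).natDegree_pow, D.deg P.1 P.2, mul_comm]
  have hfdvd : f ∣ (X ^ r - 1 : F[X]) := by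
    have h1 : f ∣ ∏ P : PP, (P : F[X]) := by
      rw [hf]
      apply Finset.prod_dvd_prod_of_dvd
      intro P _
      have := ha1 P
      interval_cases h : a P
      · rw [pow_zero]; exact one_dvd _
      · rw [pow_one]
    have h2 : ∏ P : PP, (P : F[X]) = ∏ P ∈ PP, P := Finset.prod_coe_sort PP (fun P => P)
    rw [h2] at h1
    exact dvd_trans h1 (Dvd.intro_left _ D.prod)
  have hfsep : f.Separable := by
    have hs : (X ^ r - C (1 : F) : F[X]).Separable :=
      Polynomial.separable_X_pow_sub_C (1 : F) hrF one_ne_zero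
    rw [C_1] at hs
    exact hs.of_dvd hfdvd
  refine ⟨x, hxmem, hxr, ?_, f, hfsep, hf1, hfdeg, hxc⟩
  -- not scalar
  intro z hz
  haveI : Nonempty (Fin d ⊕ Fin d) := ⟨Sum.inl ⟨0, hd1⟩⟩
  have hzr : z ^ r = 1 := by
    have h1 : ((x ^ r : GL (Fin d ⊕ Fin d) F) : Matrix (Fin d ⊕ Fin d) (Fin d ⊕ Fin d) F) = 1 := by
      rw [hxr]; rfl
    rw [Units.val_pow_eq_pow_val, hz, _root_.smul_pow, one_pow] at h1
    have h2 := congrFun (congrFun h1 (Sum.inl ⟨0, hd1⟩)) (Sum.inl ⟨0, hd1⟩)
    simpa using h2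
  have hz1 : z = 1 := eq_one_of_pow_eq_one r hr (by rw [← he]; exact he2) z hzr
  rw [hz1, one_smul] at hz
  rw [hz, Matrix.charpoly_one] at hxc
  have hcard : Fintype.card (Fin d ⊕ Fin d) = (2 * d - c) + c := by
    rw [Fintype.card_sum, Fintype.card_fin]; omega
  rw [hcard, pow_add] at hxc
  have h3 : (X - 1 : F[X]) ^ c = f := by
    apply mul_left_cancel₀ _ hxc
    apply pow_ne_zero
    rw [← C_1]
    exact X_sub_C_ne_zero 1
  apply hf1
  rw [← h3]
  simp only [eval_pow, eval_sub, eval_X, eval_one, sub_self]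
  exact zero_pow (by omega)

theorem exists_sp_block [Fintype F] {p : ℕ} [Fact p.Prime] [CharP F p] (d : ℕ) (r : ℕ) (hr : r.Prime)
    (hr2 : r ≠ 2) (hrp : r ≠ p) (e : ℕ) (he : e = orderOf ((Fintype.card F : ℕ) : ZMod r)) (he2 : 2 ≤ e)
    (c : ℕ) (hc : c = if Even e then e else 2 * e) (hcd : c ≤ 2 * d) :
    ∃ x ∈ Cfsg.spGL d F, x ^ r = 1 ∧
      (∀ z : F, (x : Matrix (Fin d ⊕ Fin d) (Fin d ⊕ Fin d) F) ≠ z • (1 : Matrix (Fin d ⊕ Fin d) (Fin d ⊕ Fin d) F)) ∧
      ∃ f : F[X], f.Separable ∧ f.eval 1 ≠ 0 ∧ f.natDegree = c ∧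
        (x : Matrix (Fin d ⊕ Fin d) (Fin d ⊕ Fin d) F).charpoly = (X - 1) ^ (2 * d - c) * f := by
  classical
  haveI : Fact r.Prime := ⟨hr⟩
  have hp : p.Prime := Fact.out
  obtain ⟨f, _, hqf⟩ := FiniteField.card F p
  have he' : e = orderOf ((p ^ (f : ℕ) : ℕ) : ZMod r) := by rw [he, hqf]
  have D := Cfsg.Agent.S2568.factorData hqf r e hrp he'
  have hrF : (r : F) ≠ 0 := by
    intro h0
    rw [CharP.cast_eq_zero_iff F p] at h0
    exact hrp ((Nat.prime_dvd_prime_iff_eq hp hr).mp h0).symm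
  have hmon : ∀ P ∈ (UniqueFactorizationMonoid.normalizedFactors
      (Polynomial.cyclotomic r F)).toFinset, P.Monic := by
    intro P hP
    have hP1 := Multiset.mem_toFinset.mp hP
    rw [← UniqueFactorizationMonoid.normalize_normalized_factor P hP1]
    exact Polynomial.monic_normalize
      (UniqueFactorizationMonoid.irreducible_of_normalized_factor P hP1).ne_zero
  -- a factor
  have hne : (UniqueFactorizationMonoid.normalizedFactors
      (Polynomial.cyclotomic r F)).toFinset.Nonempty := by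
    rw [Finset.nonempty_iff_ne_empty]
    intro hempty
    have h1 := D.prod
    rw [hempty, Finset.prod_empty, mul_one] at h1
    have h2 := congrArg Polynomial.natDegree h1
    have e1 : (Polynomial.X - 1 : Polynomial F).natDegree = 1 := by
      rw [← Polynomial.C_1]; exact Polynomial.natDegree_X_sub_C 1
    have e2 : (Polynomial.X ^ r - 1 : Polynomial F).natDegree = r := by
      rw [← Polynomial.C_1]; exact Polynomial.natDegree_X_pow_sub_C
    rw [e1, e2] at h2
    have := hr.two_le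
    omega
  obtain ⟨P₀, hP₀⟩ := hne
  have hP₀irr : Fact (Irreducible P₀) := ⟨D.irr P₀ hP₀⟩
  set Q₀ : ↥(UniqueFactorizationMonoid.normalizedFactors (Polynomial.cyclotomic r F)).toFinset :=
    ⟨P₀, hP₀⟩ with hQ₀
  by_cases hev : Even e
  · -- `e` even: one self-reciprocal factor
    rw [if_pos hev] at hc
    let a : ↥(UniqueFactorizationMonoid.normalizedFactors
        (Polynomial.cyclotomic r F)).toFinset → ℕ := fun P => if P = Q₀ then 1 else 0
    have hsum : ∑ P, a P = 1 := by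
      rw [Finset.sum_ite_eq' Finset.univ Q₀ (fun _ => 1)]
      simp
    have hPrev : ∀ P : ↥(UniqueFactorizationMonoid.normalizedFactors
        (Polynomial.cyclotomic r F)).toFinset, (P : Polynomial F).reverse = (P : Polynomial F) := by
      intro P
      haveI : Fact (Irreducible P.1) := ⟨D.irr P.1 P.2⟩
      apply Cfsg.Agent.Lib.Helper49.reverse_eq_self_of_starP_eq (hmon P.1 P.2)
        (Cfsg.Agent.Lib.Helper49.starP_eq_self_of_even (hmon P.1 P.2) he (by omega) hev
          (D.dvd_of_mem P.2)) hr.pos (D.dvd_of_mem P.2) (D.X_sub_one_not_dvd P.2)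
    refine block_finish d r hr hrF e he he2 c (by omega) hcd (by rw [hc]; exact hev) D hmon a
      (fun P => by simp only [a]; split_ifs <;> omega) (by rw [hsum, mul_one, hc]) ?_
    apply Cfsg.Agent.Lib.Helper49.palin_prod
    intro P _
    exact Cfsg.Agent.Lib.Helper49.palin_pow (hPrev P) _
  · -- `e` odd: a pair of reciprocal factors
    rw [if_neg hev] at hc
    have hodd : Odd e := Nat.not_even_iff_odd.mp hev
    set Q₁ : ↥(UniqueFactorizationMonoid.normalizedFactors (Polynomial.cyclotomic r F)).toFinset :=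
      D.star hmon Q₀ with hQ₁
    have hQ₁val : (Q₁ : F[X]) = Cfsg.Agent.Lib.Helper49.starP P₀ := by
      rw [hQ₁, D.star_val]
    have hQne : Q₁ ≠ Q₀ := by
      intro h
      have h1 : (Q₁ : F[X]) = P₀ := by rw [h]
      rw [hQ₁val] at h1
      refine Cfsg.Agent.Lib.Helper49.starP_ne_self_of_odd (P := P₀) hr.pos (hr.odd_of_ne_two hr2) ?_
        (D.dvd_of_mem hP₀) (D.not_dvd_X_sub_one hP₀) h1
      rw [D.deg P₀ hP₀]; exact hodd
    let a : ↥(UniqueFactorizationMonoid.normalizedFactors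
        (Polynomial.cyclotomic r F)).toFinset → ℕ := fun P => if P = Q₀ ∨ P = Q₁ then 1 else 0
    have hsum : ∑ P, a P = 2 := by
      have h1 : ∑ P, a P = ∑ P ∈ ({Q₀, Q₁} : Finset _), 1 := by
        rw [Finset.sum_ite, Finset.sum_const_zero, add_zero]
        apply Finset.sum_congr _ (fun _ _ => rfl)
        ext P
        simp
      rw [h1, Finset.sum_const, Finset.card_pair (Ne.symm hQne)]
      rfl
    have hprod : ∏ P : ↥(UniqueFactorizationMonoid.normalizedFactors
        (Polynomial.cyclotomic r F)).toFinset, (P : Polynomial F) ^ a P =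
        P₀ * Cfsg.Agent.Lib.Helper49.starP P₀ := by
      have h1 : ∏ P : ↥(UniqueFactorizationMonoid.normalizedFactors
          (Polynomial.cyclotomic r F)).toFinset, (P : Polynomial F) ^ a P =
          ∏ P ∈ ({Q₀, Q₁} : Finset _), (P : Polynomial F) := by
        rw [← Finset.prod_subset (Finset.subset_univ ({Q₀, Q₁} : Finset _))]
        · apply Finset.prod_congr rfl
          intro P hP
          have : a P = 1 := by
            simp only [a]
            rw [if_pos]
            simpa using hP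
          rw [this, pow_one]
        · intro P _ hP
          have : a P = 0 := by
            simp only [a]
            rw [if_neg]
            simpa using hP
          rw [this, pow_zero]
      rw [h1, Finset.prod_pair (Ne.symm hQne), hQ₁val]
    refine block_finish d r hr hrF e he he2 c (by omega) hcd (by rw [hc]; exact even_two_mul e) D hmon a
      (fun P => by simp only [a]; split_ifs <;> omega) (by rw [hsum, hc, mul_comm]) ?_
    rw [hprod]
    apply Cfsg.Agent.Lib.Helper49.reverse_mul_starP (hmon P₀ hP₀) _ hr.pos (D.dvd_of_mem hP₀)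
    rw [D.deg P₀ hP₀, ← hQ₁val]
    exact D.deg _ Q₁.2

end Cfsg.Agent.Lib.Helper20.SpT
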