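import Mathlib
import Cfsg.Agent.Lib.Helper69.StNDefs

/-!
# K-StN-E2 (keystone 240114, pack for S2401, architect helper69)

`UposA X a b` (upper unipotent subgroup without the simple root `(a,b)`) is normalized by the
negative simple root elements `X b a t`.
-/

set_option autoImplicit false
set_option linter.unusedSectionVars false

namespace Cfsg.Agent.Lib.Helper20.StN

open Cfsg.Agent.Lib.Helper69.StN Matrix

variable {n : ℕ} {K : Type*} [Field K] {S : Type*} [Group S] {X : Fin n → Fin n → K → S}

theorem e2_X_mem_UposA (X : Fin n → Fin n → K → S) {a b i j : Fin n} (hij : i < j)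
    (hne : ¬ (i = a ∧ j = b)) (s : K) : X i j s ∈ UposA X a b :=
  Subgroup.subset_closure ⟨i, j, s, hij, hne, rfl⟩

theorem e2_gen (hX : IsSt X) {a b : Fin n} (hab : b.val = a.val + 1) (t : K)
    {i j : Fin n} (hij : i < j) (hne : ¬ (i = a ∧ j = b)) (s : K) :
    X b a t * X i j s * (X b a t)⁻¹ ∈ UposA X a b := by
  have hba : b ≠ a := by
    intro h; rw [h] at hab; omega
  have hijne : i ≠ j := ne_of_lt hij
  by_cases hia : i = a
  · -- `i = a`, `j > b`
    subst hia
    have hjb : j ≠ b := fun h => hne ⟨rfl, h⟩
    have hbj : b < j := by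
      rw [Fin.lt_def] at hij ⊢
      have : j.val ≠ b.val := fun h => hjb (Fin.ext h)
      omega
    have hrel := hX.comm3 b i j hba hijne (ne_of_lt hbj) t s
    have e : X b i t * X i j s * (X b i t)⁻¹ = X b j (t * s) * X i j s := by
      rw [← hrel]; group
    rw [e]
    exact (UposA X i b).mul_mem
      (e2_X_mem_UposA X hbj (fun h => hba h.1) _)
      (e2_X_mem_UposA X hij hne _)
  · by_cases hjb : j = b
    · -- `j = b`, `i < a`
      subst hjb
      have hlt : i < a := by
        rw [Fin.lt_def] at hij ⊢
        have : i.val ≠ a.val := fun h => hia (Fin.ext h)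
        omega
      have hrel := hX.comm3 i j a hijne hba hia s t
      have e : X j a t * X i j s * (X j a t)⁻¹ = (X i a (s * t))⁻¹ * X i j s := by
        rw [← hrel]; group
      rw [e]
      exact (UposA X a j).mul_mem
        ((UposA X a j).inv_mem (e2_X_mem_UposA X hlt (fun h => hia h.1) _))
        (e2_X_mem_UposA X hij hne _)
    · -- the two root elements commute
      have hc := hX.comm b a i j hba hijne (Ne.symm hjb) (Ne.symm hia) t s
      have e : X b a t * X i j s * (X b a t)⁻¹ = X i j s := by
        rw [hc]; group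
      rw [e]
      exact e2_X_mem_UposA X hij hne _

theorem UposA_conj_neg (hX : IsSt X) {a b : Fin n} (hab : b.val = a.val + 1) (t : K) :
    ∀ g ∈ UposA X a b, X b a t * g * (X b a t)⁻¹ ∈ UposA X a b := by
  intro g hg
  unfold UposA at hg
  induction hg using Subgroup.closure_induction with
  | mem x hx =>
    obtain ⟨i, j, s, hij, hne, rfl⟩ := hx
    exact e2_gen hX hab t hij hne s
  | one =>
    rw [mul_one, mul_inv_cancel]
    exact (UposA X a b).one_mem
  | mul x y _ _ hx hy =>
    have e : X b a t * (x * y) * (X b a t)⁻¹ =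
        (X b a t * x * (X b a t)⁻¹) * (X b a t * y * (X b a t)⁻¹) := by group
    rw [e]
    exact (UposA X a b).mul_mem hx hy
  | inv x _ hx =>
    have e : X b a t * x⁻¹ * (X b a t)⁻¹ = (X b a t * x * (X b a t)⁻¹)⁻¹ := by group
    rw [e]
    exact (UposA X a b).inv_mem hx

end Cfsg.Agent.Lib.Helper20.StN
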