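import Cfsg.Agent.Lib.Helper49.StSUDefs

/-!
# K-StSU leaf C5a1 (keystone 254620): the elimination step `flagStab_step`

Route: Eichler transformations `x ↦ x + h(x,w)(z + c w) - h(x,z) w` (`w = e_j` upper triangular,
`w = e_{rev j}` lower triangular, `z` supported strictly between `j` and `rev j`,
`c + c^q = -h(z,z)`).  An isotropic vector with nonzero `j`-th coordinate supported on `[0, rev j]`
is moved into `⟨e_0..e_j⟩` by the inverse of ONE lower Eichler element; if the `j`-th coordinate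
vanishes, ONE upper Eichler element makes it nonzero first.
-/

set_option autoImplicit false
set_option linter.unusedSectionVars false
set_option linter.unusedVariables false

namespace Cfsg.Agent.Lib.Helper20.StSU

open Matrix Cfsg Cfsg.Agent.Lib.Helper49.StSU

variable {n : ℕ} {F : Type*} [Field F] {q : ℕ}

/-- the Frobenius facts -/
structure Fr (F : Type*) [Field F] (q : ℕ) : Prop where
  add : ∀ x y : F, (x + y) ^ q = x ^ q + y ^ q
  frob : ∀ x : F, (x ^ q) ^ q = x

theorem Fr.q_ne (fr : Fr F q) : q ≠ 0 := by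
  intro h
  have := fr.frob 0
  rw [h] at this
  simp at this

theorem Fr.zero (fr : Fr F q) : (0 : F) ^ q = 0 := zero_pow fr.q_ne

theorem Fr.sub (fr : Fr F q) (x y : F) : (x - y) ^ q = x ^ q - y ^ q := by
  have := fr.add (x - y) y
  rw [sub_add_cancel] at this
  rw [this]; ring

theorem Fr.neg (fr : Fr F q) (x : F) : (-x) ^ q = - x ^ q := by
  have := fr.sub 0 x
  rw [zero_sub, fr.zero, zero_sub] at this
  exact this

theorem Fr.sum (fr : Fr F q) {ι : Type*} (s : Finset ι) (f : ι → F) :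
    (∑ i ∈ s, f i) ^ q = ∑ i ∈ s, (f i) ^ q := by
  classical
  induction s using Finset.induction_on with
  | empty => simp [fr.zero]
  | insert a s ha ih => rw [Finset.sum_insert ha, Finset.sum_insert ha, fr.add, ih]

/-! ### the form -/

theorem hJ_add_left (u u' v : Fin n → F) :
    hJ n F q (u + u') v = hJ n F q u v + hJ n F q u' v := by
  unfold hJ
  rw [← Finset.sum_add_distrib]
  apply Finset.sum_congr rfl
  intro i _
  rw [Pi.add_apply, add_mul]

theorem hJ_sub_left (u u' v : Fin n → F) :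
    hJ n F q (u - u') v = hJ n F q u v - hJ n F q u' v := by
  unfold hJ
  rw [← Finset.sum_sub_distrib]
  apply Finset.sum_congr rfl
  intro i _
  rw [Pi.sub_apply, sub_mul]

theorem hJ_smul_left (a : F) (u v : Fin n → F) :
    hJ n F q (a • u) v = a * hJ n F q u v := by
  unfold hJ
  rw [Finset.mul_sum]
  apply Finset.sum_congr rfl
  intro i _
  rw [Pi.smul_apply, smul_eq_mul, mul_assoc]

theorem hJ_add_right (fr : Fr F q) (u v v' : Fin n → F) :
    hJ n F q u (v + v') = hJ n F q u v + hJ n F q u v' := by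
  unfold hJ
  rw [← Finset.sum_add_distrib]
  apply Finset.sum_congr rfl
  intro i _
  rw [Pi.add_apply, fr.add, mul_add]

theorem hJ_sub_right (fr : Fr F q) (u v v' : Fin n → F) :
    hJ n F q u (v - v') = hJ n F q u v - hJ n F q u v' := by
  unfold hJ
  rw [← Finset.sum_sub_distrib]
  apply Finset.sum_congr rfl
  intro i _
  rw [Pi.sub_apply, fr.sub, mul_sub]

theorem hJ_smul_right (a : F) (u v : Fin n → F) :
    hJ n F q u (a • v) = a ^ q * hJ n F q u v := by
  unfold hJ
  rw [Finset.mul_sum]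
  apply Finset.sum_congr rfl
  intro i _
  rw [Pi.smul_apply, smul_eq_mul, mul_pow]
  ring

theorem hJ_conj (fr : Fr F q) (u v : Fin n → F) : (hJ n F q u v) ^ q = hJ n F q v u := by
  unfold hJ
  rw [fr.sum]
  rw [← Equiv.sum_comp Fin.revPerm (fun i => v i * (u (Fin.rev i)) ^ q)]
  apply Finset.sum_congr rfl
  intro i _
  rw [mul_pow, fr.frob, Fin.revPerm_apply, Fin.rev_rev]
  ring

theorem hJ_single_right (fr : Fr F q) (x : Fin n → F) (k : Fin n) :
    hJ n F q x (Pi.single k 1) = x (Fin.rev k) := by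
  unfold hJ
  rw [Finset.sum_eq_single (Fin.rev k)]
  · rw [Fin.rev_rev, Pi.single_eq_same, one_pow, mul_one]
  · intro b _ hb
    have : Fin.rev b ≠ k := fun e => hb (by rw [← e, Fin.rev_rev])
    rw [Pi.single_eq_of_ne this, fr.zero, mul_zero]
  · intro h; exact absurd (Finset.mem_univ _) h

theorem hJ_single_left (x : Fin n → F) (k : Fin n) :
    hJ n F q (Pi.single k 1) x = (x (Fin.rev k)) ^ q := by
  unfold hJ
  rw [Finset.sum_eq_single k]
  · rw [Pi.single_eq_same, one_mul]
  · intro b _ hb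
    rw [Pi.single_eq_of_ne hb, zero_mul]
  · intro h; exact absurd (Finset.mem_univ _) h

theorem hJ_eq_zero (fr : Fr F q) (u v : Fin n → F) (h : ∀ i, u i = 0 ∨ v (Fin.rev i) = 0) :
    hJ n F q u v = 0 := by
  unfold hJ
  apply Finset.sum_eq_zero
  intro i _
  rcases h i with h | h
  · rw [h, zero_mul]
  · rw [h, fr.zero, mul_zero]

/-! ### Eichler transformations -/

/-- the Eichler map on vectors -/
def eich (q : ℕ) (w z : Fin n → F) (c : F) (x : Fin n → F) : Fin n → F :=
  x + hJ n F q x w • (z + c • w) - hJ n F q x z • w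

/-- its matrix -/
def eichMat (q : ℕ) (w z : Fin n → F) (c : F) : Matrix (Fin n) (Fin n) F :=
  fun a b => (1 : Matrix (Fin n) (Fin n) F) a b + (z a + c * w a) * (w (Fin.rev b)) ^ q -
    w a * (z (Fin.rev b)) ^ q

theorem eichMat_mulVec (w z : Fin n → F) (c : F) (x : Fin n → F) :
    eichMat q w z c *ᵥ x = eich q w z c x := by
  funext a
  have h1 : ∑ b, (1 : Matrix (Fin n) (Fin n) F) a b * x b = x a := by
    simp [Matrix.one_apply]
  have e : ∀ b, ((1 : Matrix (Fin n) (Fin n) F) a b + (z a + c * w a) * (w (Fin.rev b)) ^ q -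
      w a * (z (Fin.rev b)) ^ q) * x b
      = (1 : Matrix (Fin n) (Fin n) F) a b * x b + (x b * (w (Fin.rev b)) ^ q) * (z a + c * w a) -
        (x b * (z (Fin.rev b)) ^ q) * w a := by
    intro b; ring
  show ∑ b, eichMat q w z c a b * x b = _
  unfold eichMat eich hJ
  simp only [e]
  rw [Finset.sum_sub_distrib, Finset.sum_add_distrib, h1, ← Finset.sum_mul, ← Finset.sum_mul]
  simp only [Pi.add_apply, Pi.sub_apply, Pi.smul_apply, smul_eq_mul]

theorem hJ_eich (fr : Fr F q) (w z : Fin n → F) (c : F) (hw : hJ n F q w w = 0)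
    (hzw : hJ n F q z w = 0) (hc : c + c ^ q + hJ n F q z z = 0) (x y : Fin n → F) :
    hJ n F q (eich q w z c x) (eich q w z c y) = hJ n F q x y := by
  have hwz : hJ n F q w z = 0 := by rw [← hJ_conj fr z w, hzw, fr.zero]
  have hwy : hJ n F q w y = (hJ n F q y w) ^ q := (hJ_conj fr y w).symm
  have hzy : hJ n F q z y = (hJ n F q y z) ^ q := (hJ_conj fr y z).symm
  unfold eich
  simp only [hJ_add_left, hJ_sub_left, hJ_smul_left, hJ_add_right fr, hJ_sub_right fr,
    hJ_smul_right, hw, hzw, hwz, hwy, hzy]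
  linear_combination (hJ n F q x w * (hJ n F q y w) ^ q) * hc

theorem exists_eich_elt (fr : Fr F q) (w z : Fin n → F) (c : F) (hw : hJ n F q w w = 0)
    (hzw : hJ n F q z w = 0) (hc : c + c ^ q + hJ n F q z z = 0)
    (hdet : (eichMat q w z c).det = 1) :
    ∃ h : GJ n F q, mat h = eichMat q w z c := by
  obtain ⟨A, hA⟩ : ∃ A : Matrix.SpecialLinearGroup (Fin n) F,
      (A : Matrix (Fin n) (Fin n) F) = eichMat q w z c := ⟨⟨eichMat q w z c, hdet⟩, rfl⟩
  have hmem : A ∈ SUJ n F q := by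
    rw [mem_SUJ_iff]
    intro u v
    rw [hA, eichMat_mulVec, eichMat_mulVec]
    exact hJ_eich fr w z c hw hzw hc u v
  exact ⟨⟨A, hmem⟩, hA⟩

theorem eichMat_single_offdiag (fr : Fr F q) (k : Fin n) (z : Fin n → F) (c : F) (a b : Fin n)
    (hab : a ≠ b) (h : eichMat q (Pi.single k 1) z c a b ≠ 0) :
    (b = Fin.rev k ∧ (z a ≠ 0 ∨ a = k)) ∨ (a = k ∧ z (Fin.rev b) ≠ 0) := by
  by_contra hcon
  rw [not_or] at hcon
  obtain ⟨h1, h2⟩ := hcon
  apply h
  unfold eichMat
  rw [Matrix.one_apply_ne hab, zero_add]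
  have t1 : (z a + c * (Pi.single k (1 : F) : Fin n → F) a) *
      ((Pi.single k (1 : F) : Fin n → F) (Fin.rev b)) ^ q = 0 := by
    by_cases hb : Fin.rev b = k
    · have hb' : b = Fin.rev k := by rw [← hb, Fin.rev_rev]
      have hza : z a = 0 := by
        by_contra hz
        exact h1 ⟨hb', Or.inl hz⟩
      have hak : a ≠ k := fun e => h1 ⟨hb', Or.inr e⟩
      rw [hza, Pi.single_eq_of_ne hak]; ring
    · rw [Pi.single_eq_of_ne hb, fr.zero, mul_zero]
  have t2 : (Pi.single k (1 : F) : Fin n → F) a * (z (Fin.rev b)) ^ q = 0 := by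
    by_cases ha : a = k
    · have hz : z (Fin.rev b) = 0 := by
        by_contra hz
        exact h2 ⟨ha, hz⟩
      rw [hz, fr.zero, mul_zero]
    · rw [Pi.single_eq_of_ne ha, zero_mul]
  rw [t1, t2]; ring

theorem eichMat_single_diag (fr : Fr F q) (k : Fin n) (z : Fin n → F) (c : F)
    (hk : Fin.rev k ≠ k) (hzk : z (Fin.rev k) = 0) (a : Fin n) :
    eichMat q (Pi.single k 1) z c a a = 1 := by
  unfold eichMat
  rw [Matrix.one_apply_eq]
  have t1 : (z a + c * (Pi.single k (1 : F) : Fin n → F) a) *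
      ((Pi.single k (1 : F) : Fin n → F) (Fin.rev a)) ^ q = 0 := by
    by_cases hb : Fin.rev a = k
    · have ha : a = Fin.rev k := by rw [← hb, Fin.rev_rev]
      subst ha
      rw [hzk, Pi.single_eq_of_ne hk]; ring
    · rw [Pi.single_eq_of_ne hb, fr.zero, mul_zero]
  have t2 : (Pi.single k (1 : F) : Fin n → F) a * (z (Fin.rev a)) ^ q = 0 := by
    by_cases ha : a = k
    · subst ha
      rw [hzk, fr.zero, mul_zero]
    · rw [Pi.single_eq_of_ne ha, zero_mul]
  rw [t1, t2]; ring

/-- `z` is supported strictly between `j'` and `rev j'` -/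
def Mid (j' : Fin n) (z : Fin n → F) : Prop := ∀ i, z i ≠ 0 → j' < i ∧ i < Fin.rev j'

theorem hJ_self_single (fr : Fr F q) (k : Fin n) (hk : Fin.rev k ≠ k) :
    hJ n F q (Pi.single k (1 : F)) (Pi.single k (1 : F)) = 0 := by
  rw [hJ_single_left, Pi.single_eq_of_ne hk, fr.zero]

theorem exists_upper (fr : Fr F q) (j' : Fin n) (hj : j' < Fin.rev j') (z : Fin n → F)
    (hz : Mid j' z) (c : F) (hc : c + c ^ q + hJ n F q z z = 0) :
    ∃ h ∈ Bsub n F q, mat h = eichMat q (Pi.single j' 1) z c := by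
  have hk : Fin.rev j' ≠ j' := ne_of_gt hj
  have hzk : z (Fin.rev j') = 0 := by
    by_contra h
    exact lt_irrefl _ (hz _ h).2
  have htri : (eichMat q (Pi.single j' 1) z c).BlockTriangular id := by
    intro a b hab
    have hab' : b < a := hab
    by_contra h
    rcases eichMat_single_offdiag fr j' z c a b (ne_of_gt hab') h with ⟨hb, hza | hak⟩ | ⟨hak, hzb⟩
    · have := (hz a hza).2
      rw [← hb] at this
      exact lt_asymm this hab'
    · rw [hb, hak] at hab'
      exact lt_asymm hab' hj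
    · have h1 := (hz _ hzb).2
      rw [Fin.rev_lt_rev] at h1
      rw [hak] at hab'
      exact lt_asymm h1 hab'
  have hdet : (eichMat q (Pi.single j' 1) z c).det = 1 := by
    rw [Matrix.det_of_isUpperTriangular htri]
    apply Finset.prod_eq_one
    intro a _
    exact eichMat_single_diag fr j' z c hk hzk a
  obtain ⟨h, hh⟩ := exists_eich_elt fr (Pi.single j' 1) z c (hJ_self_single fr j' hk)
    (by rw [hJ_single_right fr, hzk]) hc hdet
  refine ⟨h, ?_, hh⟩
  rw [mem_Bsub_iff]
  intro a b hab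
  rw [hh]
  exact htri hab

theorem exists_lower (fr : Fr F q) (j' : Fin n) (hj : j' < Fin.rev j') (z : Fin n → F)
    (hz : Mid j' z) (c : F) (hc : c + c ^ q + hJ n F q z z = 0) :
    ∃ h ∈ Bminus n F q, mat h = eichMat q (Pi.single (Fin.rev j') 1) z c := by
  have hk : Fin.rev (Fin.rev j') ≠ Fin.rev j' := by
    rw [Fin.rev_rev]; exact ne_of_lt hj
  have hzk : z (Fin.rev (Fin.rev j')) = 0 := by
    rw [Fin.rev_rev]
    by_contra h
    exact lt_irrefl _ (hz _ h).1
  have htri : ∀ a b : Fin n, a < b → eichMat q (Pi.single (Fin.rev j') 1) z c a b = 0 := by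
    intro a b hab
    by_contra h
    rcases eichMat_single_offdiag fr (Fin.rev j') z c a b (ne_of_lt hab) h with
      ⟨hb, hza | hak⟩ | ⟨hak, hzb⟩
    · rw [Fin.rev_rev] at hb
      have := (hz a hza).1
      rw [← hb] at this
      exact lt_asymm this hab
    · rw [Fin.rev_rev] at hb
      rw [hb, hak] at hab
      exact lt_asymm hab hj
    · have h1 := (hz _ hzb).1
      rw [hak] at hab
      have h2 : Fin.rev (Fin.rev b) < Fin.rev j' := Fin.rev_lt_rev.mpr h1
      rw [Fin.rev_rev] at h2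
      exact lt_asymm h2 hab
  have htri' : (eichMat q (Pi.single (Fin.rev j') 1) z c).BlockTriangular OrderDual.toDual := by
    intro a b hab
    exact htri a b hab
  have hdet : (eichMat q (Pi.single (Fin.rev j') 1) z c).det = 1 := by
    rw [Matrix.det_of_isLowerTriangular _ htri']
    apply Finset.prod_eq_one
    intro a _
    exact eichMat_single_diag fr (Fin.rev j') z c hk hzk a
  obtain ⟨h, hh⟩ := exists_eich_elt fr (Pi.single (Fin.rev j') 1) z c
    (hJ_self_single fr (Fin.rev j') hk) (by rw [hJ_single_right fr, hzk]) hc hdet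
  refine ⟨h, ?_, hh⟩
  rw [mem_Bminus_iff]
  intro a b hab
  rw [hh]
  exact htri a b hab

/-- Eichler maps with `w = e_{j'}` or `e_{rev j'}` and `z` in the middle fix `⟨e_0..e_{j'-1}⟩` -/
theorem eich_fix (fr : Fr F q) (j' : Fin n) (hj : j' < Fin.rev j') (z : Fin n → F)
    (hz : Mid j' z) (c : F) (k : Fin n) (hk : k = j' ∨ k = Fin.rev j') (v : Fin n → F)
    (hv : ∀ i, j' ≤ i → v i = 0) : eich q (Pi.single k 1) z c v = v := by
  have h1 : hJ n F q v (Pi.single k 1) = 0 := by
    rw [hJ_single_right fr]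
    rcases hk with hk | hk
    · rw [hk]; exact hv _ (le_of_lt hj)
    · rw [hk, Fin.rev_rev]; exact hv _ le_rfl
  have h2 : hJ n F q v z = 0 := by
    apply hJ_eq_zero fr
    intro i
    by_cases hi : j' ≤ i
    · exact Or.inl (hv i hi)
    · right
      by_contra hzi
      have := (hz _ hzi).2
      rw [Fin.rev_lt_rev] at this
      exact hi (le_of_lt this)
  unfold eich
  rw [h1, h2, zero_smul, zero_smul, add_zero, sub_zero]

theorem mat_inv_mulVec (h : GJ n F q) (v : Fin n → F) : mat h⁻¹ *ᵥ (mat h *ᵥ v) = v := by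
  rw [Matrix.mulVec_mulVec, mat_inv_mul, Matrix.one_mulVec]

theorem mat_mulVec_inv (h : GJ n F q) (v : Fin n → F) : mat h *ᵥ (mat h⁻¹ *ᵥ v) = v := by
  rw [Matrix.mulVec_mulVec, mat_mul_inv, Matrix.one_mulVec]

/-- Lemma A: nonzero `j'`-th coordinate: one lower Eichler element -/
theorem lemmaA (fr : Fr F q) (j' : Fin n) (hj : j' < Fin.rev j') (x : Fin n → F)
    (hx1 : ∀ i, Fin.rev j' < i → x i = 0) (hx2 : hJ n F q x x = 0) (hx3 : x j' ≠ 0) :
    ∃ h ∈ Bminus n F q, (∀ v : Fin n → F, (∀ i, j' ≤ i → v i = 0) → mat h *ᵥ v = v) ∧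
      ∀ i, j' < i → (mat h *ᵥ x) i = 0 := by
  classical
  obtain ⟨lam, hlam⟩ : ∃ l : F, l = x j' := ⟨_, rfl⟩
  have hlam0 : lam ≠ 0 := by rw [hlam]; exact hx3
  obtain ⟨z, hzdef⟩ : ∃ z : Fin n → F,
      z = fun i => if j' < i ∧ i < Fin.rev j' then x i / lam else 0 := ⟨_, rfl⟩
  obtain ⟨c, hcdef⟩ : ∃ c : F, c = x (Fin.rev j') / lam := ⟨_, rfl⟩
  obtain ⟨x', hx'def⟩ : ∃ x' : Fin n → F, x' = fun i => if i ≤ j' then x i else 0 := ⟨_, rfl⟩
  have hz : Mid j' z := by
    intro i hi
    rw [hzdef] at hi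
    by_contra hcon
    exact hi (if_neg hcon)
  have hzmid : ∀ i, j' < i → i < Fin.rev j' → z i = x i / lam := by
    intro i h1 h2
    rw [hzdef]
    exact if_pos ⟨h1, h2⟩
  have hz0 : ∀ i, ¬ (j' < i ∧ i < Fin.rev j') → z i = 0 := by
    intro i h
    rw [hzdef]
    exact if_neg h
  have hx'le : ∀ i, i ≤ j' → x' i = x i := by
    intro i h
    rw [hx'def]
    exact if_pos h
  have hx'gt : ∀ i, j' < i → x' i = 0 := by
    intro i h
    rw [hx'def]
    exact if_neg (not_le.mpr h)
  -- the coordinate identity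
  have key1 : x = x' + lam • z + (lam * c) • (Pi.single (Fin.rev j') (1 : F) : Fin n → F) := by
    funext i
    simp only [Pi.add_apply, Pi.smul_apply, smul_eq_mul]
    rcases lt_trichotomy i (Fin.rev j') with hi | hi | hi
    · rw [Pi.single_eq_of_ne (ne_of_lt hi), mul_zero, add_zero]
      by_cases hij : i ≤ j'
      · rw [hx'le i hij, hz0 i (fun h => absurd h.1 (not_lt.mpr hij)), mul_zero, add_zero]
      · have hij' : j' < i := not_le.mp hij
        rw [hx'gt i hij', hzmid i hij' hi, zero_add]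
        field_simp
    · rw [hi, Pi.single_eq_same, mul_one, hx'gt _ hj, hz0 _ (fun h => lt_irrefl _ h.2), mul_zero,
        add_zero, zero_add, hcdef]
      field_simp
    · have hij' : j' < i := lt_trans hj hi
      rw [Pi.single_eq_of_ne (ne_of_gt hi), mul_zero, add_zero, hx'gt i hij',
        hz0 i (fun h => lt_asymm h.2 hi), mul_zero, add_zero]
      exact hx1 i hi
  -- values of the form
  have f1 : hJ n F q x' x' = 0 := by
    apply hJ_eq_zero fr
    intro i
    by_cases hi : i ≤ j'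
    · right
      apply hx'gt
      have : Fin.rev j' ≤ Fin.rev i := Fin.rev_le_rev.mpr hi
      exact lt_of_lt_of_le hj this
    · exact Or.inl (hx'gt i (not_le.mp hi))
  have f2 : hJ n F q x' z = 0 := by
    apply hJ_eq_zero fr
    intro i
    by_cases hi : i ≤ j'
    · right
      apply hz0
      intro h
      have : Fin.rev j' ≤ Fin.rev i := Fin.rev_le_rev.mpr hi
      exact absurd h.2 (not_lt.mpr this)
    · exact Or.inl (hx'gt i (not_le.mp hi))
  have f3 : hJ n F q z x' = 0 := by rw [← hJ_conj fr x' z, f2, fr.zero]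
  have f4 : hJ n F q x' (Pi.single (Fin.rev j') 1) = lam := by
    rw [hJ_single_right fr, Fin.rev_rev, hx'le _ le_rfl, hlam]
  have f5 : hJ n F q (Pi.single (Fin.rev j') 1) x' = lam ^ q := by
    rw [hJ_single_left, Fin.rev_rev, hx'le _ le_rfl, hlam]
  have f6 : hJ n F q z (Pi.single (Fin.rev j') 1) = 0 := by
    rw [hJ_single_right fr, Fin.rev_rev]
    exact hz0 _ (fun h => lt_irrefl _ h.1)
  have f7 : hJ n F q (Pi.single (Fin.rev j') 1) z = 0 := by
    rw [hJ_single_left, Fin.rev_rev, hz0 _ (fun h => lt_irrefl _ h.1), fr.zero]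
  have f8 : hJ n F q (Pi.single (Fin.rev j') (1 : F)) (Pi.single (Fin.rev j') (1 : F)) = 0 := by
    apply hJ_self_single fr
    rw [Fin.rev_rev]; exact ne_of_lt hj
  have hc : c + c ^ q + hJ n F q z z = 0 := by
    have h0 : hJ n F q (x' + lam • z + (lam * c) • (Pi.single (Fin.rev j') (1 : F) : Fin n → F))
        (x' + lam • z + (lam * c) • (Pi.single (Fin.rev j') (1 : F) : Fin n → F)) = 0 := by
      rw [← key1]; exact hx2
    simp only [hJ_add_left, hJ_smul_left, hJ_add_right fr, hJ_smul_right, f1, f2, f3, f4, f5, f6,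
      f7, f8, mul_pow] at h0
    have hlq : lam ^ q ≠ 0 := pow_ne_zero _ hlam0
    have h1 : lam * lam ^ q * (c + c ^ q + hJ n F q z z) = 0 := by
      linear_combination h0
    rcases mul_eq_zero.mp h1 with h2 | h2
    · exact absurd h2 (mul_ne_zero hlam0 hlq)
    · exact h2
  obtain ⟨Ψ, hΨB, hΨ⟩ := exists_lower fr j' hj z hz c hc
  refine ⟨Ψ⁻¹, Subgroup.inv_mem _ hΨB, ?_, ?_⟩
  · intro v hv
    have e : mat Ψ *ᵥ v = v := by
      rw [hΨ, eichMat_mulVec]
      exact eich_fix fr j' hj z hz c _ (Or.inr rfl) v hv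
    calc mat Ψ⁻¹ *ᵥ v = mat Ψ⁻¹ *ᵥ (mat Ψ *ᵥ v) := by rw [e]
      _ = v := mat_inv_mulVec Ψ v
  · intro i hi
    have e : mat Ψ *ᵥ x' = x := by
      rw [hΨ, eichMat_mulVec]
      unfold eich
      rw [f4, f2, zero_smul, sub_zero, smul_add, smul_smul, ← add_assoc]
      exact key1.symm
    have : mat Ψ⁻¹ *ᵥ x = x' := by
      rw [← e]; exact mat_inv_mulVec Ψ x'
    rw [this]
    exact hx'gt i hi

/-- Lemma B: zero `j'`-th coordinate: one upper Eichler element makes it nonzero -/
theorem lemmaB (fr : Fr F q) (htr : ∀ c : F, c ^ q = c → ∃ u : F, u + u ^ q = c)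
    (ha : aPar F q ≠ 0) (ha' : aPar F q ^ q = -aPar F q)
    (j' : Fin n) (hj : j' < Fin.rev j') (x : Fin n → F)
    (hx1 : ∀ i, Fin.rev j' < i → x i = 0) (hx4 : ∃ i, j' < i ∧ x i ≠ 0) :
    ∃ h ∈ Bsub n F q, (∀ v : Fin n → F, (∀ i, j' ≤ i → v i = 0) → mat h *ᵥ v = v) ∧
      ∃ κ : F, κ ≠ 0 ∧ mat h *ᵥ x = x + κ • (Pi.single j' (1 : F) : Fin n → F) := by
  classical
  by_cases hμ : x (Fin.rev j') = 0
  · obtain ⟨i, hji, hxi⟩ := hx4
    have hi1 : i ≤ Fin.rev j' := by
      by_contra h
      exact hxi (hx1 i (not_le.mp h))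
    have hi2 : i ≠ Fin.rev j' := fun e => hxi (by rw [e]; exact hμ)
    have hi3 : i < Fin.rev j' := lt_of_le_of_ne hi1 hi2
    have hz : Mid j' (Pi.single (Fin.rev i) (1 : F) : Fin n → F) := by
      intro i' hi'
      have : i' = Fin.rev i := by
        by_contra hne
        exact hi' (Pi.single_eq_of_ne hne _)
      rw [this]
      constructor
      · have := Fin.rev_lt_rev.mpr hi3
        rwa [Fin.rev_rev] at this
      · exact Fin.rev_lt_rev.mpr hji
    have hfix : (-(hJ n F q (Pi.single (Fin.rev i) (1 : F)) (Pi.single (Fin.rev i) (1 : F)))) ^ q =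
        -(hJ n F q (Pi.single (Fin.rev i) (1 : F)) (Pi.single (Fin.rev i) (1 : F))) := by
      rw [fr.neg, hJ_conj fr]
    obtain ⟨c, hc⟩ := htr _ hfix
    have hc' : c + c ^ q + hJ n F q (Pi.single (Fin.rev i) (1 : F))
        (Pi.single (Fin.rev i) (1 : F)) = 0 := by
      rw [hc]; ring
    obtain ⟨h, hB, hh⟩ := exists_upper fr j' hj _ hz c hc'
    refine ⟨h, hB, ?_, -(x i), neg_ne_zero.mpr hxi, ?_⟩
    · intro v hv
      rw [hh, eichMat_mulVec]
      exact eich_fix fr j' hj _ hz c _ (Or.inl rfl) v hv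
    · rw [hh, eichMat_mulVec]
      unfold eich
      rw [hJ_single_right fr, hμ, zero_smul, add_zero, hJ_single_right fr, Fin.rev_rev, neg_smul,
        sub_eq_add_neg]
  · have hz : Mid j' (0 : Fin n → F) := by
      intro i hi
      exact absurd rfl hi
    have h00 : hJ n F q (0 : Fin n → F) (0 : Fin n → F) = 0 :=
      hJ_eq_zero fr _ _ (fun i => Or.inl rfl)
    have hc' : aPar F q + aPar F q ^ q + hJ n F q (0 : Fin n → F) (0 : Fin n → F) = 0 := by
      rw [ha', h00]; ring
    obtain ⟨h, hB, hh⟩ := exists_upper fr j' hj _ hz (aPar F q) hc'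
    refine ⟨h, hB, ?_, x (Fin.rev j') * aPar F q, mul_ne_zero hμ ha, ?_⟩
    · intro v hv
      rw [hh, eichMat_mulVec]
      exact eich_fix fr j' hj _ hz _ _ (Or.inl rfl) v hv
    · rw [hh, eichMat_mulVec]
      unfold eich
      have hx0 : hJ n F q x (0 : Fin n → F) = 0 :=
        hJ_eq_zero fr _ _ (fun i => Or.inr rfl)
      rw [hJ_single_right fr, hx0, zero_smul, sub_zero, zero_add, smul_smul]

/-- the final bookkeeping -/
theorem flagStab_succ_of (j : ℕ) (j' : Fin n) (hj' : j'.val = j) (g h : GJ n F q)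
    (hg : g ∈ FlagStab n F q j)
    (P1 : ∀ v : Fin n → F, (∀ i, j' ≤ i → v i = 0) → mat h *ᵥ v = v)
    (P2 : ∀ i, j' < i → (mat h *ᵥ (fun i => mat g i j')) i = 0) :
    h * g ∈ FlagStab n F q (j + 1) := by
  intro a b ha hab
  have e : mat (h * g) b a = (mat h *ᵥ (fun i => mat g i a)) b := by
    rw [mat_mul, Matrix.mul_apply]
    rfl
  rw [e]
  by_cases haj : a.val < j
  · have hv : ∀ i, j' ≤ i → (fun i => mat g i a) i = 0 := by
      intro i hi
      apply hg a i haj
      rw [Fin.lt_def]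
      have : j'.val ≤ i.val := hi
      omega
    rw [P1 _ hv]
    exact hg a b haj hab
  · have : a = j' := by
      apply Fin.ext
      omega
    rw [this] at hab ⊢
    exact P2 b hab

theorem flagStab_step (ok : Ok n F q) (j : ℕ) (hj : j < n / 2) (g : GJ n F q)
    (hg : g ∈ FlagStab n F q j) :
    ∃ h ∈ Bsub n F q ⊔ Bminus n F q, h * g ∈ FlagStab n F q (j + 1) := by
  classical
  have fr : Fr F q := ⟨ok.frob_add, ok.frob_frob⟩
  have hjn : j < n := by omega
  obtain ⟨j', hj'⟩ : ∃ j' : Fin n, j'.val = j := ⟨⟨j, hjn⟩, rfl⟩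
  have hjr : j' < Fin.rev j' := by
    rw [Fin.lt_def, Fin.val_rev, hj']
    omega
  obtain ⟨w0, hw0def⟩ : ∃ w0 : Fin n → F, w0 = fun i => mat g i j' := ⟨_, rfl⟩
  have hw0 : mat g *ᵥ (Pi.single j' (1 : F) : Fin n → F) = w0 := by
    rw [Matrix.mulVec_single_one, hw0def]
    rfl
  -- isotropic
  have F2 : hJ n F q w0 w0 = 0 := by
    rw [← hw0, hJ_mat]
    exact hJ_self_single fr j' (ne_of_gt hjr)
  -- the inverse stabilises the flag as well
  have hbt : (mat g).BlockTriangular (fun i : Fin n => min i.val j) := by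
    intro r c hrc
    have h1 : min c.val j < min r.val j := hrc
    apply hg c r
    · omega
    · rw [Fin.lt_def]; omega
  have hbti : (mat g⁻¹).BlockTriangular (fun i : Fin n => min i.val j) :=
    blockTriangular_inv _ g hbt
  -- support
  have F1 : ∀ i, Fin.rev j' < i → w0 i = 0 := by
    intro i hi
    have e1 : w0 i = hJ n F q w0 (Pi.single (Fin.rev i) 1) := by
      rw [hJ_single_right fr, Fin.rev_rev]
    have e2 : (Pi.single (Fin.rev i) (1 : F) : Fin n → F) =
        mat g *ᵥ (mat g⁻¹ *ᵥ (Pi.single (Fin.rev i) (1 : F) : Fin n → F)) :=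
      (mat_mulVec_inv g _).symm
    rw [e1, ← hw0, e2, hJ_mat, hJ_single_left, Matrix.mulVec_single_one]
    have : (mat g⁻¹).col (Fin.rev i) (Fin.rev j') = 0 := by
      show mat g⁻¹ (Fin.rev j') (Fin.rev i) = 0
      apply hbti
      show min (Fin.rev i).val j < min (Fin.rev j').val j
      have h1 : (Fin.rev i).val < j := by
        have := Fin.rev_lt_rev.mpr hi
        rw [Fin.rev_rev, Fin.lt_def, hj'] at this
        exact this
      have h2 : j ≤ (Fin.rev j').val := by
        have := hjr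
        rw [Fin.lt_def, hj'] at this
        omega
      omega
    rw [this, fr.zero]
  by_cases hall : ∀ i, j' < i → w0 i = 0
  · refine ⟨1, Subgroup.one_mem _, ?_⟩
    apply flagStab_succ_of j j' hj' g 1 hg
    · intro v _
      rw [mat_one, Matrix.one_mulVec]
    · intro i hi
      rw [mat_one, Matrix.one_mulVec]
      have := hall i hi
      rw [hw0def] at this
      exact this
  · have hall' : ∃ i, j' < i ∧ w0 i ≠ 0 := by
      by_contra hne
      apply hall
      intro i hi
      by_contra hw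
      exact hne ⟨i, hi, hw⟩
    by_cases hl : w0 j' = 0
    · obtain ⟨hB, hBmem, hBfix, κ, hκ, hBx⟩ :=
        lemmaB fr ok.tr_surj ok.a_ne ok.a_pow j' hjr w0 F1 hall'
      obtain ⟨x1, hx1def⟩ : ∃ x1 : Fin n → F, x1 = mat hB *ᵥ w0 := ⟨_, rfl⟩
      have hx1a : ∀ i, Fin.rev j' < i → x1 i = 0 := by
        intro i hi
        rw [hx1def, hBx, Pi.add_apply, Pi.smul_apply, F1 i hi,
          Pi.single_eq_of_ne (ne_of_gt (lt_trans hjr hi)), smul_zero, add_zero]
      have hx1b : hJ n F q x1 x1 = 0 := by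
        rw [hx1def, hJ_mat]; exact F2
      have hx1c : x1 j' ≠ 0 := by
        rw [hx1def, hBx, Pi.add_apply, Pi.smul_apply, hl, Pi.single_eq_same, zero_add,
          smul_eq_mul, mul_one]
        exact hκ
      obtain ⟨hA, hAmem, hAfix, hAx⟩ := lemmaA fr j' hjr x1 hx1a hx1b hx1c
      refine ⟨hA * hB, Subgroup.mul_mem _ (Subgroup.mem_sup_right hAmem)
        (Subgroup.mem_sup_left hBmem), ?_⟩
      rw [mul_assoc]
      have : hA * (hB * g) = (hA * hB) * g := (mul_assoc _ _ _).symm
      rw [this]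
      apply flagStab_succ_of j j' hj' g (hA * hB) hg
      · intro v hv
        rw [mat_mul, ← Matrix.mulVec_mulVec, hBfix v hv, hAfix v hv]
      · intro i hi
        rw [mat_mul, ← Matrix.mulVec_mulVec]
        have : mat hB *ᵥ (fun i => mat g i j') = x1 := by
          rw [hx1def, hw0def]
        rw [this]
        exact hAx i hi
    · obtain ⟨hA, hAmem, hAfix, hAx⟩ := lemmaA fr j' hjr w0 F1 F2 hl
      refine ⟨hA, Subgroup.mem_sup_right hAmem, ?_⟩
      apply flagStab_succ_of j j' hj' g hA hg hAfix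
      intro i hi
      have : (fun i => mat g i j') = w0 := by rw [hw0def]
      rw [this]
      exact hAx i hi

end Cfsg.Agent.Lib.Helper20.StSU
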